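import Cfsg.Agent.Lib.Block.NP.KeyCount
import Cfsg.Agent.Lib.Char.RootsAverage

/-!
Finite Fourier analysis on `ZMod e` and the free action on the pairs with a given product.
-/

set_option autoImplicit false
set_option linter.unusedSectionVars false

namespace CfsgLib.Block.NP.Four

open Cfsg CfsgLib CfsgLib.Block CfsgLib.Block.NP
open scoped ComplexConjugate

universe u

section Fourier

variable {e : ℕ} [NeZero e]

/-- The Fourier coefficient. -/
noncomputable def coef (c : ZMod e → ℂ) (j : ZMod e) : ℂ :=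
  ∑ i, c i * conj (ZMod.stdAddChar (i * j))

theorem conj_std (x : ZMod e) : conj (ZMod.stdAddChar x) = ZMod.stdAddChar (-x) :=
  ((ZMod.stdAddChar (N := e)).map_neg_eq_conj x).symm

theorem inversion (c : ZMod e → ℂ) (i : ZMod e) :
    ∑ j, coef c j * ZMod.stdAddChar (i * j) = (e : ℂ) * c i := by
  classical
  simp only [coef, Finset.sum_mul]
  rw [Finset.sum_comm]
  have h : ∀ k : ZMod e, ∑ j, c k * conj (ZMod.stdAddChar (k * j)) * ZMod.stdAddChar (i * j) =
      if k = i then (e : ℂ) * c i else 0 := by
    intro k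
    have h1 : ∀ j : ZMod e, c k * conj (ZMod.stdAddChar (k * j)) * ZMod.stdAddChar (i * j) =
        c k * ZMod.stdAddChar (j * (i - k)) := fun j => by
      rw [conj_std, mul_assoc, ← AddChar.map_add_eq_mul]
      congr 2
      ring
    rw [Finset.sum_congr rfl fun j _ => h1 j, ← Finset.mul_sum,
      AddChar.sum_mulShift _ (ZMod.isPrimitive_stdAddChar e), ZMod.card]
    by_cases hk : k = i
    · subst hk; simp [mul_comm]
    · rw [if_neg (by rwa [sub_eq_zero, eq_comm]), if_neg hk]; simp
  rw [Finset.sum_congr rfl fun k _ => h k, Finset.sum_ite_eq' Finset.univ i]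
  simp

theorem coef_indicator (d : ℂ) (j : ZMod e) :
    coef (fun i => if i = 0 then d else 0) j = d := by
  classical
  rw [coef, Finset.sum_eq_single 0 (fun i _ hi => by simp [hi]) (by simp)]
  simp

theorem norm_std (x : ZMod e) : ‖ZMod.stdAddChar x‖ = 1 := by
  rw [ZMod.stdAddChar_apply]
  exact Circle.norm_coe _

/-- The elements at which all characters in `S` agree. -/
def agree (S : Finset (ZMod e)) : AddSubgroup (ZMod e) where
  carrier := {i | ∀ j ∈ S, ∀ k ∈ S, i * (j - k) = 0}
  zero_mem' := fun j _ k _ => zero_mul _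
  add_mem' := fun {x y} hx hy j hj k hk => by rw [add_mul, hx j hj k hk, hy j hj k hk, add_zero]
  neg_mem' := fun {x} hx j hj k hk => by rw [neg_mul, hx j hj k hk, neg_zero]

/-- A multiplicity-free sum of `a` characters all of whose values are divisible by `a` is
supported on the subgroup of order `e / a`. -/
theorem sum_eq_zero_of_divisible (S : Finset (ZMod e)) (hS : 0 < S.card)
    (hint : ∀ i, i ≠ 0 → IsIntegral ℤ ((∑ j ∈ S, ZMod.stdAddChar (i * j)) / (S.card : ℂ)))
    {i : ZMod e} {h₀ : ℕ} (he : e = S.card * h₀) (hi : h₀ • i ≠ 0) :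
    ∑ j ∈ S, ZMod.stdAddChar (i * j) = 0 := by
  classical
  set f : ZMod e → ℂ := fun i => ∑ j ∈ S, ZMod.stdAddChar (i * j) with hf
  have hdich : ∀ i, f i ≠ 0 → i ∈ agree S := by
    intro i hne
    rcases eq_or_ne i 0 with rfl | hi0
    · exact zero_mem _
    have hm : ∀ j : S, (ZMod.stdAddChar (i * (j : ZMod e))) ^ e = (1 : ℂ) := fun j => by
      rw [← AddChar.map_nsmul_eq_pow, nsmul_eq_mul, ZMod.natCast_self, zero_mul,
        AddChar.map_zero_eq_one]
    have h1 : IsIntegral ℤ ((∑ j : S, ZMod.stdAddChar (i * (j : ZMod e))) /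
        (Fintype.card S : ℂ)) := by
      rw [Fintype.card_coe, Finset.sum_coe_sort S fun j => ZMod.stdAddChar (i * j)]
      exact hint i hi0
    rcases Char.sum_rootsOfUnity_eq_zero_or_norm _ (NeZero.pos e) hm h1 with h | h
    · exact absurd ((Finset.sum_coe_sort S fun j => ZMod.stdAddChar (i * j)).symm.trans h) hne
    · rw [Finset.sum_coe_sort S fun j => ZMod.stdAddChar (i * j), Fintype.card_coe] at h
      intro j hj k hk
      have hall : ∀ l ∈ S, ZMod.stdAddChar (i * l) = f i / (S.card : ℂ) := by
        have hsq : ∑ l ∈ S, Complex.normSq (ZMod.stdAddChar (i * l) - f i / (S.card : ℂ)) = 0 := by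
          have hc : (S.card : ℝ) ≠ 0 := by exact_mod_cast hS.ne'
          have hnz : Complex.normSq (f i) = (S.card : ℝ) ^ 2 := by
            rw [Complex.normSq_eq_norm_sq, h]
          simp only [Complex.normSq_sub, Finset.sum_add_distrib, Finset.sum_sub_distrib,
            Finset.sum_const, nsmul_eq_mul, ← Finset.mul_sum]
          rw [Finset.sum_congr rfl fun l _ => show Complex.normSq (ZMod.stdAddChar (i * l)) = 1 by
              rw [Complex.normSq_eq_norm_sq, norm_std, one_pow],
            Finset.sum_const, nsmul_eq_mul, ← Complex.re_sum, ← Finset.sum_mul,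
            show (∑ l ∈ S, ZMod.stdAddChar (i * l)) = f i from rfl,
            map_div₀ (starRingEnd ℂ), Complex.conj_natCast, mul_div_assoc', Complex.mul_conj,
            Complex.normSq_div, Complex.normSq_natCast, hnz]
          rw [show (((S.card : ℝ) ^ 2 : ℝ) : ℂ) / (S.card : ℂ) = (((S.card : ℝ) : ℝ) : ℂ) by
            push_cast; field_simp, Complex.ofReal_re]
          field_simp
          ring
        intro l hl
        exact sub_eq_zero.1 (Complex.normSq_eq_zero.1
          ((Finset.sum_eq_zero_iff_of_nonneg fun l _ => Complex.normSq_nonneg _).1 hsq l hl))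
      have := ZMod.injective_stdAddChar ((hall j hj).trans (hall k hk).symm)
      rw [mul_sub, this, sub_self]
  by_contra hne
  have hcard : Nat.card (agree S) = h₀ := by
    have hval : ∀ i ∈ agree S, Complex.normSq (f i) = (S.card : ℝ) ^ 2 := by
      intro i hi
      obtain ⟨k, hk⟩ := Finset.card_pos.1 hS
      have : f i = (S.card : ℂ) * ZMod.stdAddChar (i * k) := by
        simp only [hf]
        rw [Finset.sum_congr rfl fun j hj => show ZMod.stdAddChar (i * j) = ZMod.stdAddChar (i * k) by
          rw [show i * j = i * k from sub_eq_zero.1 (by rw [← mul_sub]; exact hi j hj k hk)],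
          Finset.sum_const, nsmul_eq_mul]
      rw [this, map_mul, Complex.normSq_natCast, Complex.normSq_eq_norm_sq, norm_std]
      ring
    have htot : ∑ i : ZMod e, ((Complex.normSq (f i) : ℝ) : ℂ) = (e : ℂ) * (S.card : ℂ) := by
      simp only [← Complex.mul_conj, hf, map_sum, Finset.sum_mul, Finset.mul_sum]
      rw [Finset.sum_comm]
      rw [Finset.sum_congr rfl fun j _ => Finset.sum_comm]
      rw [Finset.sum_congr rfl fun j hj => Finset.sum_eq_single j (fun k _ hkj => ?_)
        (fun hn => absurd hj hn)]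
      · rw [Finset.sum_congr rfl (g := fun _ => (e : ℂ)) fun j _ => ?_]
        · rw [Finset.sum_const, nsmul_eq_mul, mul_comm]
        · rw [Finset.sum_congr rfl fun x _ => show ZMod.stdAddChar (x * j) *
              conj (ZMod.stdAddChar (x * j)) = 1 by
            rw [conj_std, ← AddChar.map_add_eq_mul, add_neg_cancel, AddChar.map_zero_eq_one]]
          simp
      · rw [Finset.sum_congr rfl fun x _ => show ZMod.stdAddChar (x * k) *
              conj (ZMod.stdAddChar (x * j)) = ZMod.stdAddChar (x * (k - j)) by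
            rw [conj_std, ← AddChar.map_add_eq_mul]; congr 1; ring,
          AddChar.sum_mulShift _ (ZMod.isPrimitive_stdAddChar e),
          if_neg (sub_ne_zero.2 hkj)]
        simp
    have hreal : ∑ i : ZMod e, Complex.normSq (f i) = (e : ℝ) * S.card := by exact_mod_cast htot
    rw [← Finset.sum_filter_of_ne (p := fun i => i ∈ agree S) fun i _ hi =>
        hdich i fun h0 => hi (by rw [h0, map_zero]),
      Finset.sum_congr rfl fun i hi => hval i (Finset.mem_filter.1 hi).2, Finset.sum_const,
      nsmul_eq_mul] at hreal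
    have he' : (e : ℝ) = (S.card : ℝ) * h₀ := by exact_mod_cast he
    rw [he'] at hreal
    have hc : (S.card : ℝ) ^ 2 ≠ 0 := by positivity
    have h2 : (((Finset.univ.filter fun i => i ∈ agree S).card : ℕ) : ℝ) = (h₀ : ℝ) :=
      mul_right_cancel₀ hc (by linear_combination hreal)
    rw [Nat.card_eq_fintype_card, Fintype.card_subtype]
    exact_mod_cast h2
  refine hi ?_
  have h := card_nsmul_eq_zero' (x := (⟨i, hdich i hne⟩ : agree S))
  rw [hcard] at h
  exact congrArg Subtype.val h

end Fourier

section Pairs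

variable {G : Type u} [Group G] [Fintype G]

open scoped Classical in
/-- `C(g) × C(z)` acts freely on the pairs with product conjugate to `x` if no non-trivial element
of `C(g)` is conjugate into `C(x)`. -/
theorem centralizer_sq_dvd_mulSet (g z x : G)
    (hfree : ∀ s ∈ Subgroup.centralizer ({g} : Set G), ∀ w : G,
      w * s * w⁻¹ ∈ Subgroup.centralizer ({x} : Set G) → s = 1) :
    Nat.card (Subgroup.centralizer ({g} : Set G)) * Nat.card (Subgroup.centralizer ({z} : Set G)) ∣
      (mulSet g z x).card := by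
  let K := Subgroup.centralizer ({g} : Set G) × Subgroup.centralizer ({z} : Set G)
  let T := {t : G // t ∈ mulSet g z x}
  have hmem : ∀ (k : K) (t : G), t ∈ mulSet g z x →
      (k.1 : G) * t * (k.2 : G)⁻¹ ∈ mulSet g z x := by
    intro k t ht
    simp only [mulSet, Finset.mem_filter, Finset.mem_univ, true_and] at ht ⊢
    have h1 := Subgroup.mem_centralizer_singleton_iff.1 k.1.2
    have h2 := Subgroup.mem_centralizer_singleton_iff.1 k.2.2
    have e1 : (k.2 : G)⁻¹ * z * (k.2 : G) = z := by rw [mul_assoc, ← h2, inv_mul_cancel_left]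
    refine IsConj.trans (isConj_iff.2 ⟨(k.1 : G)⁻¹, ?_⟩) ht
    calc (k.1 : G)⁻¹ * (g * ((k.1 : G) * t * (k.2 : G)⁻¹ * z * ((k.1 : G) * t * (k.2 : G)⁻¹)⁻¹)) *
          (k.1 : G)⁻¹⁻¹ =
        (k.1 : G)⁻¹ * (g * (k.1 : G)) * (t * ((k.2 : G)⁻¹ * z * (k.2 : G)) * t⁻¹) := by group
      _ = (k.1 : G)⁻¹ * ((k.1 : G) * g) * (t * z * t⁻¹) := by rw [e1, h1]
      _ = g * (t * z * t⁻¹) := by group
  let act : MulAction K T :=
    { smul := fun k t => ⟨(k.1 : G) * (t : G) * (k.2 : G)⁻¹, hmem k t t.2⟩
      one_smul := fun t => Subtype.ext (by change (1 : G) * (t : G) * (1 : G)⁻¹ = t; simp)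
      mul_smul := fun k l t => Subtype.ext (by
        change ((k.1 : G) * l.1) * (t : G) * ((k.2 : G) * l.2)⁻¹ =
          (k.1 : G) * ((l.1 : G) * t * (l.2 : G)⁻¹) * (k.2 : G)⁻¹
        group) }
  have hst : ∀ t : T, MulAction.stabilizer K t = ⊥ := by
    rintro ⟨t, ht⟩
    rw [Subgroup.eq_bot_iff_forall]
    rintro ⟨⟨s, hs⟩, ⟨u, hu⟩⟩ hk
    have hk' : s * t * u⁻¹ = t := congrArg Subtype.val hk
    simp only [mulSet, Finset.mem_filter, Finset.mem_univ, true_and] at ht
    obtain ⟨w, hw⟩ := isConj_iff.1 ht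
    have hsg := Subgroup.mem_centralizer_singleton_iff.1 hs
    have hsu : s * t = t * u := mul_inv_eq_iff_eq_mul.1 hk'
    have huz := Subgroup.mem_centralizer_singleton_iff.1 hu
    have hcomm : s * (t * z * t⁻¹) = t * z * t⁻¹ * s := by
      calc s * (t * z * t⁻¹) = (s * t) * z * t⁻¹ := by group
        _ = t * (u * z) * t⁻¹ := by rw [hsu]; group
        _ = t * z * t⁻¹ * (t * u) * t⁻¹ := by rw [huz]; group
        _ = t * z * t⁻¹ * s := by rw [← hsu]; group
    have hs1 : s = 1 := by
      refine hfree s hs w (Subgroup.mem_centralizer_singleton_iff.2 ?_)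
      rw [← hw]
      calc w * s * w⁻¹ * (w * (g * (t * z * t⁻¹)) * w⁻¹)
          = w * ((s * g) * (t * z * t⁻¹)) * w⁻¹ := by group
        _ = w * (g * (s * (t * z * t⁻¹))) * w⁻¹ := by rw [hsg]; group
        _ = w * (g * (t * z * t⁻¹ * s)) * w⁻¹ := by rw [hcomm]
        _ = _ := by group
    subst hs1
    have hu1 : u = 1 := mul_left_cancel (a := t) (by rw [← hsu, one_mul, mul_one])
    subst hu1
    rfl
  have h := Nat.card_congr (MulAction.selfEquivOrbitsQuotientProd hst)
  rw [Nat.card_prod, Nat.card_prod, Nat.card_eq_fintype_card (α := T), Fintype.card_coe] at h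
  exact ⟨_, h.trans (mul_comm _ _)⟩

end Pairs

end CfsgLib.Block.NP.Four
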