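import Cfsg.Agent.Lib.Block.NP.Fusion
import Cfsg.Agent.Lib.Block.PrimeSylow
import Mathlib.GroupTheory.Transfer

/-!
The sign character of `N(P) / C(P)` is a class function of the whole group when there are fewer
than `p ^ 2` Sylow subgroups; in a perfect group its transfer forces `n_p` even.
-/

set_option autoImplicit false
set_option linter.style.haveILetI false

namespace CfsgLib.Block.NP.Fusion

open Subgroup
open scoped Pointwise

universe u

variable {G : Type u} [Group G] [Finite G] {p : ℕ} [hp : Fact p.Prime]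

/-- The order of the image in `N(P) / C(P)` is a class invariant. -/
theorem pow_mem_centralizer_iff (P : Sylow p G) (hP : Nat.card P = p)
    (hN : Nat.card (Sylow p G) < p ^ 2) {x y : G}
    (hx : x ∈ normalizer ((P : Subgroup G) : Set G))
    (hy : y ∈ normalizer ((P : Subgroup G) : Set G)) (hc : IsConj x y) (k : ℕ) :
    x ^ k ∈ centralizer ((P : Subgroup G) : Set G) ↔
      y ^ k ∈ centralizer ((P : Subgroup G) : Set G) :=
  ⟨fun h => mem_centralizer_of_isConj P hP hN h (pow_mem hy k) (hc.pow k),
    fun h => mem_centralizer_of_isConj P hP hN h (pow_mem hx k) (hc.symm.pow k)⟩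

/-- The sign character of `N(P) / C(P)`. -/
theorem exists_sign (P : Sylow p G) (hP : Nat.card P = p) (hN : Nat.card (Sylow p G) < p ^ 2)
    (he : Even ((centralizer ((P : Subgroup G) : Set G)).relIndex
      (normalizer ((P : Subgroup G) : Set G)))) :
    ∃ φ : normalizer ((P : Subgroup G) : Set G) →* ℤˣ,
      (∃ g, φ g = -1) ∧
      (∀ y : normalizer ((P : Subgroup G) : Set G),
        (y : G) ∈ centralizer ((P : Subgroup G) : Set G) → φ y = 1) ∧
      (∀ x y : normalizer ((P : Subgroup G) : Set G), IsConj (x : G) y → φ x = φ y) := by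
  classical
  set Nm := normalizer ((P : Subgroup G) : Set G)
  set C := centralizer ((P : Subgroup G) : Set G)
  obtain ⟨z, ε, -, -, -, hker⟩ := exists_prime_sylow_data P hP
  change ε.ker = C.subgroupOf Nm at hker
  have hcard : Nat.card ε.range = C.relIndex Nm := by
    rw [← Subgroup.index_ker, hker]
    rfl
  obtain ⟨m, hm⟩ := he
  rw [hm] at hcard
  have hpos : 0 < m := by
    have := Nat.card_pos (α := ε.range); omega
  have hsq : ∀ y : Nm, ((ε y : ZMod p) ^ m = 1 ∨ (ε y : ZMod p) ^ m = -1) := fun y => by
    refine sq_eq_one_iff.1 ?_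
    rw [← pow_mul, show m * 2 = Nat.card ε.range by omega]
    have h := congrArg (fun w : ε.range => (((w : (ZMod p)ˣ)) : ZMod p))
      (pow_card_eq_one' (x := (⟨ε y, y, rfl⟩ : ε.range)))
    simpa using h
  have hiff : ∀ y : Nm, (ε y : ZMod p) ^ m = 1 ↔ (y : G) ^ m ∈ C := fun y => by
    rw [← Units.val_pow_eq_pow_val, Units.val_eq_one, ← map_pow, ← MonoidHom.mem_ker, hker,
      Subgroup.mem_subgroupOf, SubmonoidClass.coe_pow]
  let φ : Nm →* ℤˣ :=
    { toFun := fun y => if (ε y : ZMod p) ^ m = 1 then 1 else -1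
      map_one' := by simp
      map_mul' := fun a b => by
        rw [map_mul, Units.val_mul, mul_pow]
        rcases hsq a with ha | ha <;> rcases hsq b with hb | hb <;>
          rw [ha, hb] <;> by_cases h1 : (-1 : ZMod p) = 1 <;> simp [h1] }
  refine ⟨φ, ?_, fun y hy => if_pos ((hiff y).2 (pow_mem hy m)), fun x y hc => ?_⟩
  · obtain ⟨⟨w, y, rfl⟩, hgen⟩ := IsCyclic.exists_generator (α := ε.range)
    refine ⟨y, if_neg fun h1 => ?_⟩
    have ho := orderOf_eq_card_of_forall_mem_zpowers hgen
    have hle : orderOf (⟨ε y, y, rfl⟩ : ε.range) ∣ m := by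
      refine orderOf_dvd_of_pow_eq_one (Subtype.ext (Units.ext ?_))
      simpa using h1
    rw [ho, hcard] at hle
    have := Nat.le_of_dvd hpos hle
    omega
  · have h := pow_mem_centralizer_iff P hP hN x.2 y.2 hc m
    simp only [φ, MonoidHom.coe_mk, OneHom.coe_mk, hiff]
    by_cases hx : (x : G) ^ m ∈ C
    · rw [if_pos hx, if_pos (h.1 hx)]
    · rw [if_neg hx, if_neg fun hy => hx (h.2 hy)]

/-- The transfer of a character of a subgroup which is a class function of the group. -/
theorem transfer_eq_pow_index {A : Type*} [CommGroup A] (H : Subgroup G) (φ : H →* A)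
    (hφ : ∀ x y : H, IsConj (x : G) y → φ x = φ y) (g : H) :
    φ.transfer (g : G) = φ g ^ H.index := by
  classical
  haveI := Fintype.ofFinite (G ⧸ H)
  rw [MonoidHom.transfer_eq_prod_quotient_orbitRel_zpowers_quot]
  calc _ = ∏ q : Quotient (MulAction.orbitRel (Subgroup.zpowers (g : G)) (G ⧸ H)),
      φ g ^ Function.minimalPeriod ((g : G) • ·) q.out := by
        refine Finset.prod_congr rfl fun q _ => ?_
        rw [← map_pow]
        refine (hφ _ _ ?_)
        rw [SubmonoidClass.coe_pow]
        refine isConj_iff.2 ⟨q.out.out, ?_⟩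
        group
    _ = φ g ^ H.index := by
        rw [Finset.prod_pow_eq_pow_sum]
        congr 1
        rw [H.index_eq_card,
          Nat.card_congr (MulAction.selfEquivSigmaOrbits (Subgroup.zpowers (g : G)) (G ⧸ H)),
          Nat.card_sigma]
        refine Finset.sum_congr rfl fun q _ => ?_
        rw [Nat.card_eq_fintype_card]
        exact MulAction.minimalPeriod_eq_card (g : G) q.out

/-- In a perfect group with `N(P) / C(P)` of even order the number of Sylow subgroups is even. -/
theorem even_card_sylow (hperf : commutator G = ⊤) (P : Sylow p G) (hP : Nat.card P = p)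
    (hN : Nat.card (Sylow p G) < p ^ 2)
    (he : Even ((centralizer ((P : Subgroup G) : Set G)).relIndex
      (normalizer ((P : Subgroup G) : Set G)))) :
    Even (Nat.card (Sylow p G)) := by
  obtain ⟨φ, ⟨g, hg⟩, -, hφ⟩ := exists_sign P hP hN he
  have htr : φ.transfer (g : G) = 1 := by
    rw [← MonoidHom.mem_ker]
    exact (Abelianization.commutator_subset_ker φ.transfer) (hperf ▸ Subgroup.mem_top _)
  rw [transfer_eq_pow_index _ φ hφ, hg] at htr
  rw [P.card_eq_index_normalizer]
  exact (neg_one_pow_eq_one_iff_even (R := ℤˣ) (by decide)).1 htr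

end CfsgLib.Block.NP.Fusion
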