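import Cfsg.Agent.Lib.Block.NP.Setup
import Cfsg.Agent.Lib.Block.NP.BranchIVTools
import Cfsg.Agent.Lib.Block.NP.FusionSign
import Cfsg.Agent.Lib.Char.Orthogonality

/-!
Self-centralizing `P`, exceptional degree `N / t`, no degree `b (p + a)`: some degree `a (p - b)`
is impossible. Fourier analysis on the complement forces `t = a + 1` and two such degrees; counting
the classes on which the exceptional character is `-1` then contradicts its norm.
-/

set_option autoImplicit false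
set_option linter.unusedSectionVars false

namespace CfsgLib.Block.NP.Four

open Cfsg CfsgLib CfsgLib.Block CfsgLib.Block.NP
open scoped ComplexConjugate

universe u

variable {G : Type u} [Group G] [Finite G] {p : ℕ} [hpf : Fact p.Prime]

/-- The data of the case. -/
structure FourData (M : Ideal AlgInt) (P : Sylow p G) (a b e t f d n : ℕ)
    (Xp Xm Y : Finset (IrrCharacter G)) : Prop where
  hM : IsPModular p M
  hP : Nat.card P = p
  hC : Subgroup.centralizer ((P : Subgroup G) : Set G) = (P : Subgroup G)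
  ha : 2 ≤ a
  hb : a ≤ b
  hab : a * b + 1 = p
  hte : t * e + 1 = p
  hn : Nat.card (Sylow p G) = 1 + n * p
  hN : 1 + n * p = (p + a) * (p - b)
  hcard : Nat.card G = p * e * (1 + n * p)
  hcardN : Nat.card (Subgroup.normalizer ((P : Subgroup G) : Set G)) = p * e
  hnb : n + b = a * b + a
  hf : f * t = n + 1
  hd : t * d = 1 + n * p
  hcount : 1 + Xp.card * a + f = e
  hcountB : Xp.card + Xm.card + 1 = e
  hA : 0 < Xp.card
  hae : a ∣ e
  hpar : Even e → Even (1 + n * p)
  card_Y : Y.card = t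
  disj₁ : Disjoint Xp Xm
  disj₂ : Disjoint Xp Y
  disj₃ : Disjoint Xm Y
  one_not : (⟨fun _ => 1, Char.isIrrCharacter_one⟩ : IrrCharacter G) ∉ Xp ∧
    (⟨fun _ => 1, Char.isIrrCharacter_one⟩ : IrrCharacter G) ∉ Xm ∧
    (⟨fun _ => 1, Char.isIrrCharacter_one⟩ : IrrCharacter G) ∉ Y
  Xp_deg : ∀ χ ∈ Xp, (χ : G → ℂ) 1 = ((a * (p - b) : ℕ) : ℂ)
  Xm_deg : ∀ χ ∈ Xm, (χ : G → ℂ) 1 = ((p - 1 : ℕ) : ℂ)
  Y_deg : ∀ χ ∈ Y, (χ : G → ℂ) 1 = (d : ℂ)
  Xp_val : ∀ χ ∈ Xp, ∀ y ∈ (P : Subgroup G), y ≠ 1 → (χ : G → ℂ) y = 1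
  Xm_val : ∀ χ ∈ Xm, ∀ y ∈ (P : Subgroup G), y ≠ 1 → (χ : G → ℂ) y = -1
  Y_sum : ∀ χ ∈ Y, ∑ᶠ y : (P : Subgroup G), (χ : G → ℂ) y = ((p * f : ℕ) : ℂ)
  regular : ∀ η ∈ Y, ∀ η' ∈ Y, ∀ g : G, ¬ p ∣ orderOf g → (η : G → ℂ) g = (η' : G → ℂ) g
  relation : ∀ η ∈ Y, ∀ g : G, ¬ p ∣ orderOf g →
    1 + ∑ χ ∈ Xp, (χ : G → ℂ) g - ∑ χ ∈ Xm, (χ : G → ℂ) g = -(η : G → ℂ) g
  other : ∀ ξ : IrrCharacter G, (ξ : G → ℂ) ≠ (fun _ => 1) → ξ ∉ Xp → ξ ∉ Xm → ξ ∉ Y →
    ∀ x ∈ (P : Subgroup G), x ≠ 1 → (ξ : G → ℂ) x = 0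

namespace FourData

variable {M : Ideal AlgInt} {P : Sylow p G} {a b e t f d n : ℕ}
  {Xp Xm Y : Finset (IrrCharacter G)} (F : FourData M P a b e t f d n Xp Xm Y)
include F

theorem t_pos : 0 < t := by
  have h := F.hte
  have := hpf.out.two_le
  rcases Nat.eq_zero_or_pos t with ht | ht
  · rw [ht, zero_mul] at h; omega
  · exact ht

theorem d_pos : 0 < d := by
  have h := F.hd
  rcases Nat.eq_zero_or_pos d with hd | hd
  · rw [hd, mul_zero] at h; omega
  · exact hd

theorem e_pos : 0 < e := by have := F.hcount; omega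

theorem b_lt : b < p := by
  have := F.hab
  have : 1 * b ≤ a * b := Nat.mul_le_mul_right _ (by have := F.ha; omega)
  omega

theorem e_lt : e < p := by
  have h := F.hte
  have : 1 * e ≤ t * e := Nat.mul_le_mul_right _ F.t_pos
  omega

/-- The trivial character. -/
noncomputable abbrev one (_F : FourData M P a b e t f d n Xp Xm Y) : IrrCharacter G :=
  ⟨fun _ => 1, Char.isIrrCharacter_one⟩

theorem exists_eta : ∃ η, η ∈ Y := Finset.card_pos.1 (by rw [F.card_Y]; exact F.t_pos)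

/-- The complement of `P` in its normalizer. -/
theorem exists_gen : ∃ g, g ∈ Subgroup.normalizer ((P : Subgroup G) : Set G) ∧ orderOf g = e := by
  have hp : p.Prime := hpf.out
  set N := Subgroup.normalizer ((P : Subgroup G) : Set G)
  obtain ⟨x, ε, -, -, -, hker⟩ := exists_prime_sylow_data P F.hP
  rw [F.hC] at hker
  have hrange : Nat.card ε.range = e := by
    rw [← Subgroup.index_ker, hker]
    have h := ((P : Subgroup G).subgroupOf N).card_mul_index
    rw [Nat.card_congr (Subgroup.subgroupOfEquivOfLe Subgroup.le_normalizer).toEquiv, F.hP,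
      F.hcardN] at h
    exact Nat.eq_of_mul_eq_mul_left hp.pos h
  obtain ⟨⟨u, ⟨g₀, rfl⟩⟩, hu⟩ := IsCyclic.exists_ofOrder_eq_natCard (α := ε.range)
  rw [← Subgroup.orderOf_coe, hrange] at hu
  replace hu : orderOf (ε g₀) = e := hu
  have hed : e ∣ orderOf (g₀ : G) := by
    rw [← hu, Subgroup.orderOf_coe]
    exact orderOf_map_dvd ε g₀
  exact ⟨(g₀ : G) ^ (orderOf (g₀ : G) / e), Subgroup.pow_mem _ g₀.2 _,
    orderOf_pow_orderOf_div (orderOf_pos _).ne' hed⟩

variable {g : G} (hgN : g ∈ Subgroup.normalizer ((P : Subgroup G) : Set G)) (hg : orderOf g = e)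
include hgN hg

theorem pow_not_mem {k : ℕ} (hk : ¬ e ∣ k) : g ^ k ∉ (P : Subgroup G) := by
  intro h
  apply hk
  have h1 : ((⟨g ^ k, h⟩ : (P : Subgroup G)) : G) ^ Nat.card P = 1 := by
    rw [← Subgroup.coe_pow, pow_card_eq_one', Subgroup.coe_one]
  rw [F.hP, ← pow_mul, ← orderOf_dvd_iff_pow_eq_one, hg] at h1
  refine (Nat.Coprime.dvd_of_dvd_mul_right ?_ h1)
  exact ((hpf.out.coprime_iff_not_dvd).2 fun hd =>
    absurd (Nat.le_of_dvd F.e_pos hd) (not_le.2 F.e_lt)).symm

theorem regular_pow {k : ℕ} (hk : ¬ e ∣ k) : ¬ p ∣ orderOf (g ^ k) :=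
  BrauerReynolds.not_dvd_orderOf_normalizer F.hP F.hC (Subgroup.pow_mem _ hgN k)
    (F.pow_not_mem hgN hg hk)

theorem Xm_zero {χ : IrrCharacter G} (hχ : χ ∈ Xm) {k : ℕ} (hk : ¬ e ∣ k) :
    (χ : G → ℂ) (g ^ k) = 0 := by
  classical
  have := Fintype.ofFinite G
  have := Fintype.ofFinite (P : Subgroup G)
  refine BrauerReynolds.apply_eq_zero_of_sum F.hP F.hC χ ?_ (Subgroup.pow_mem _ hgN k)
    (F.pow_not_mem hgN hg hk)
  rw [finsum_eq_sum_of_fintype, sum_subgroup (fun y => (χ : G → ℂ) y),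
    Finset.sum_congr rfl fun x hx => F.Xm_val χ hχ x (mem_sharp.1 hx).1 (mem_sharp.1 hx).2,
    Finset.sum_const, card_sharp F.hP, F.Xm_deg χ hχ]
  simp

theorem relation_pow {k : ℕ} (hk : ¬ e ∣ k) {η : IrrCharacter G} (hη : η ∈ Y) :
    1 + ∑ χ ∈ Xp, (χ : G → ℂ) (g ^ k) + (η : G → ℂ) (g ^ k) = 0 := by
  have h := F.relation η hη _ (F.regular_pow hgN hg hk)
  rw [Finset.sum_eq_zero (s := Xm) fun χ hχ => F.Xm_zero hgN hg hχ hk] at h
  linear_combination h

variable [NeZero e]

/-- The values of the fixed space character on the complement. -/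
noncomputable def fix (_F : FourData M P a b e t f d n Xp Xm Y)
    (_ : g ∈ Subgroup.normalizer ((P : Subgroup G) : Set G)) (_ : orderOf g = e)
    (m : ℕ) (χ : IrrCharacter G) (i : ZMod e) : ℂ :=
  if i = 0 then (m : ℂ) else (χ : G → ℂ) (g ^ i.val)

theorem not_dvd_val {i : ZMod e} (hi : i ≠ 0) : ¬ e ∣ i.val := fun hd =>
  hi ((ZMod.val_eq_zero i).1 (Nat.eq_zero_of_dvd_of_lt hd i.val_lt))

theorem coef_nat (χ : IrrCharacter G) (m : ℕ)
    (hm : ∑ᶠ u : (P : Subgroup G), (χ : G → ℂ) u = ((p * m : ℕ) : ℂ)) (j : ZMod e) :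
    ∃ k : ℕ, coef (F.fix hgN hg m χ) j = ((e * k : ℕ) : ℂ) := by
  classical
  have := Fintype.ofFinite G
  have hp : p.Prime := hpf.out
  set N := Subgroup.normalizer ((P : Subgroup G) : Set G) with hNdef
  set Q := (P : Subgroup G).subgroupOf N
  have : Fintype N := Fintype.ofFinite _
  have : Fintype (P : Subgroup G) := Fintype.ofFinite _
  haveI hQn : Q.Normal := Subgroup.normal_in_normalizer
  have hcardQ : Nat.card Q = p := by
    rw [Nat.card_congr (Subgroup.subgroupOfEquivOfLe Subgroup.le_normalizer).toEquiv, F.hP]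
  let gN : N := ⟨g, hgN⟩
  have hord : orderOf (QuotientGroup.mk gN : N ⧸ Q) = e := by
    refine Nat.dvd_antisymm ?_ ?_
    · refine (orderOf_map_dvd (QuotientGroup.mk' Q) gN).trans (dvd_of_eq ?_)
      rw [← Subgroup.orderOf_coe]; exact hg
    · have h1 := pow_orderOf_eq_one (QuotientGroup.mk gN : N ⧸ Q)
      rw [← QuotientGroup.mk_pow, QuotientGroup.eq_one_iff, Subgroup.mem_subgroupOf,
        Subgroup.coe_pow] at h1
      by_contra h
      exact F.pow_not_mem hgN hg h h1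
  have hcardq : Nat.card (N ⧸ Q) = e := by
    have h := Subgroup.card_eq_card_quotient_mul_card_subgroup Q
    rw [hcardQ, F.hcardN, mul_comm p e] at h
    exact (Nat.eq_of_mul_eq_mul_right hp.pos h).symm
  have hgen : ∀ x : N ⧸ Q, x ∈ Subgroup.zpowers (QuotientGroup.mk gN : N ⧸ Q) := fun x => by
    rw [Subgroup.eq_top_of_card_eq (Subgroup.zpowers (QuotientGroup.mk gN : N ⧸ Q))
      (by rw [Nat.card_zpowers, hord, hcardq])]
    exact Subgroup.mem_top x
  have hu : IsUnit (ZMod.stdAddChar j : ℂ) :=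
    IsUnit.of_mul_eq_one (ZMod.stdAddChar (-j))
      (by rw [← AddChar.map_add_eq_mul, add_neg_cancel, AddChar.map_zero_eq_one])
  have hdvd : orderOf hu.unit ∣ orderOf (QuotientGroup.mk gN : N ⧸ Q) := by
    rw [hord]
    refine orderOf_dvd_of_pow_eq_one (Units.ext ?_)
    rw [Units.val_pow_eq_pow_val, IsUnit.unit_spec, ← AddChar.map_nsmul_eq_pow, nsmul_eq_mul,
      ZMod.natCast_self, zero_mul, AddChar.map_zero_eq_one, Units.val_one]
  let lam : N →* ℂˣ := (monoidHomOfForallMemZpowers hgen hdvd).comp (QuotientGroup.mk' Q)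
  have hlamP : ∀ u : N, (u : G) ∈ (P : Subgroup G) → lam u = 1 := fun u hu' => by
    change monoidHomOfForallMemZpowers hgen hdvd (QuotientGroup.mk' Q u) = 1
    rw [show QuotientGroup.mk' Q u = 1 from (QuotientGroup.eq_one_iff u).2 hu', map_one]
  have hlamg : ∀ i : ZMod e, ((lam (gN ^ i.val) : ℂˣ) : ℂ) = ZMod.stdAddChar (i * j) := fun i => by
    change ((monoidHomOfForallMemZpowers hgen hdvd (QuotientGroup.mk' Q (gN ^ i.val)) : ℂˣ) : ℂ) = _
    rw [map_pow, map_pow, QuotientGroup.mk'_apply, monoidHomOfForallMemZpowers_apply_gen,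
      Units.val_pow_eq_pow_val, IsUnit.unit_spec, ← AddChar.map_nsmul_eq_pow, nsmul_eq_mul,
      ZMod.natCast_zmod_val]
  obtain ⟨k, hk⟩ := Char.classInner_isCharacter_nat
    (Char.isCharacter_restrict (Char.irr_isCharacter χ.2) N)
    (Char.irr_isCharacter (Char.isIrrCharacter_linear lam))
  rw [Char.classInner_def] at hk
  refine ⟨k, ?_⟩
  -- split the normalizer
  let φ : ZMod e × (P : Subgroup G) → N := fun iu =>
    gN ^ iu.1.val * ⟨(iu.2 : G), Subgroup.le_normalizer iu.2.2⟩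
  have hbij : Function.Bijective φ := by
    refine (Fintype.bijective_iff_injective_and_card φ).2 ⟨?_, ?_⟩
    · rintro ⟨i, u⟩ ⟨i', u'⟩ h
      have h' : g ^ i.val * (u : G) = g ^ i'.val * (u' : G) := congrArg Subtype.val h
      have hii : i = i' := by
        have h2 : (QuotientGroup.mk gN : N ⧸ Q) ^ i.val = (QuotientGroup.mk gN : N ⧸ Q) ^ i'.val := by
          rw [← QuotientGroup.mk_pow, ← QuotientGroup.mk_pow, QuotientGroup.eq, Subgroup.mem_subgroupOf]
          have e1 : ((gN ^ i.val)⁻¹ * gN ^ i'.val : N) = ⟨(u : G) * (u' : G)⁻¹,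
              Subgroup.le_normalizer (mul_mem u.2 (inv_mem u'.2))⟩ := by
            apply Subtype.ext
            simp only [Subgroup.coe_mul, Subgroup.coe_inv, Subgroup.coe_pow, gN]
            rw [inv_mul_eq_iff_eq_mul, ← mul_assoc, h', mul_inv_cancel_right]
          rw [e1]
          exact mul_mem u.2 (inv_mem u'.2)
        exact ZMod.val_injective e (pow_injOn_Iio_orderOf (by simpa [hord] using i.val_lt)
          (by simpa [hord] using i'.val_lt) h2)
      subst hii
      exact Prod.ext rfl (Subtype.ext (mul_left_cancel h'))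
    · rw [Fintype.card_prod, ZMod.card, ← Nat.card_eq_fintype_card, ← Nat.card_eq_fintype_card]
      change e * Nat.card P = Nat.card N
      rw [F.hP, F.hcardN, mul_comm]
  rw [← (Equiv.ofBijective φ hbij).sum_comp, Fintype.sum_prod_type] at hk
  have hterm : ∀ i : ZMod e, ∑ u : (P : Subgroup G),
      (χ : G → ℂ) ((φ (i, u) : N) : G) * conj ((lam (φ (i, u)) : ℂˣ) : ℂ) =
      (p : ℂ) * (F.fix hgN hg m χ i * conj (ZMod.stdAddChar (i * j))) := by
    intro i
    have hl : ∀ u : (P : Subgroup G), ((lam (φ (i, u)) : ℂˣ) : ℂ) = ZMod.stdAddChar (i * j) :=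
      fun u => by
        simp only [φ, map_mul]
        rw [hlamP ⟨(u : G), Subgroup.le_normalizer u.2⟩ u.2, mul_one, hlamg]
    rw [Finset.sum_congr rfl fun u _ => by rw [hl u], ← Finset.sum_mul, ← mul_assoc]
    congr 1
    rcases eq_or_ne i 0 with rfl | hi
    · rw [fix, if_pos rfl, finsum_eq_sum_of_fintype] at *
      rw [Finset.sum_congr rfl (g := fun u : (P : Subgroup G) => (χ : G → ℂ) u) fun u _ => by
        simp [φ, gN], hm]
      push_cast; ring
    · have hkk := F.not_dvd_val hgN hg hi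
      rw [fix, if_neg hi, Finset.sum_congr rfl (g := fun _ => (χ : G → ℂ) (g ^ i.val)) fun u _ => by
        obtain ⟨c, -, hc⟩ := BrauerReynolds.exists_conj_eq_mul F.hP F.hC
          (Subgroup.pow_mem _ hgN i.val) (F.pow_not_mem hgN hg hkk) u.2
        simp only [φ, gN, Subgroup.coe_mul, Subgroup.coe_pow]
        rw [← hc]
        exact Char.irr_isClassFunction χ.2 _ c, Finset.sum_const, Finset.card_univ, nsmul_eq_mul,
        ← Nat.card_eq_fintype_card]
      rw [show Nat.card (P : Subgroup G) = p from F.hP]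
  simp only [Equiv.ofBijective_apply] at hk
  rw [Finset.sum_congr rfl fun i _ => hterm i,
    ← Finset.mul_sum, F.hcardN] at hk
  have hpe : ((p * e : ℕ) : ℂ) ≠ 0 := by exact_mod_cast (Nat.mul_pos hp.pos F.e_pos).ne'
  rw [inv_mul_eq_iff_eq_mul₀ hpe] at hk
  refine mul_left_cancel₀ (Nat.cast_ne_zero.2 hp.ne_zero : (p : ℂ) ≠ 0) ?_
  rw [coef, hk]
  push_cast; ring

theorem sum_P_Xp {χ : IrrCharacter G} (hχ : χ ∈ Xp) :
    ∑ᶠ u : (P : Subgroup G), (χ : G → ℂ) u = ((p * a : ℕ) : ℂ) := by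
  classical
  have := Fintype.ofFinite G
  have := Fintype.ofFinite (P : Subgroup G)
  rw [finsum_eq_sum_of_fintype, sum_subgroup (fun y => (χ : G → ℂ) y),
    Finset.sum_congr rfl fun x hx => F.Xp_val χ hχ x (mem_sharp.1 hx).1 (mem_sharp.1 hx).2,
    Finset.sum_const, card_sharp F.hP, F.Xp_deg χ hχ, nsmul_eq_mul, mul_one]
  have h := F.hab
  have hz : a * (p - b) + (p - 1) = p * a := by
    obtain ⟨c, hc⟩ : ∃ c, p = b + c := Nat.exists_eq_add_of_le F.b_lt.le
    rw [hc, Nat.add_sub_cancel_left, add_mul, mul_comm c a]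
    rw [hc] at h
    have : b + c - 1 = a * b := by omega
    rw [this, mul_comm b a]; omega
  exact_mod_cast hz

/-- The fixed space of a character of degree `a (p - b)` is multiplicity free. -/
theorem exists_support {χ : IrrCharacter G} (hχ : χ ∈ Xp) :
    ∃ S : Finset (ZMod e), S.card = a ∧
      ∀ i, F.fix hgN hg a χ i = ∑ j ∈ S, ZMod.stdAddChar (i * j) := by
  classical
  obtain ⟨η, hη⟩ := F.exists_eta
  choose kx hkx using fun (ξ : Xp) (j : ZMod e) =>
    F.coef_nat hgN hg ξ.1 a (F.sum_P_Xp hgN hg ξ.2) j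
  choose ky hky using F.coef_nat hgN hg η f (F.Y_sum η hη)
  have htot : ∀ i : ZMod e, 1 + ∑ ξ : Xp, F.fix hgN hg a ξ.1 i + F.fix hgN hg f η i =
      if i = 0 then (e : ℂ) else 0 := by
    intro i
    rcases eq_or_ne i 0 with rfl | hi
    · simp only [fix, if_pos]
      rw [Finset.sum_const, Finset.card_univ, Fintype.card_coe, nsmul_eq_mul]
      exact_mod_cast F.hcount
    · simp only [fix, if_neg hi]
      rw [Finset.sum_coe_sort Xp fun ξ => (ξ : G → ℂ) (g ^ i.val)]
      exact F.relation_pow hgN hg (F.not_dvd_val hgN hg hi) hη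
  have hle : ∀ j : ZMod e, (∑ ξ : Xp, kx ξ j) ≤ 1 := by
    intro j
    have h1 := congrArg (fun c => coef c j) (funext htot)
    simp only [coef_indicator] at h1
    rw [coef, Finset.sum_congr rfl fun i _ => show
        (1 + ∑ ξ : Xp, F.fix hgN hg a ξ.1 i + F.fix hgN hg f η i) * conj (ZMod.stdAddChar (i * j)) =
        conj (ZMod.stdAddChar (i * j)) +
          (∑ ξ : Xp, F.fix hgN hg a ξ.1 i * conj (ZMod.stdAddChar (i * j))) +
          F.fix hgN hg f η i * conj (ZMod.stdAddChar (i * j)) by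
        rw [add_mul, add_mul, one_mul, Finset.sum_mul],
      Finset.sum_add_distrib, Finset.sum_add_distrib, Finset.sum_comm] at h1
    rw [Finset.sum_congr rfl fun (ξ : Xp) _ => show ∑ i,
        F.fix hgN hg a ξ.1 i * conj (ZMod.stdAddChar (i * j)) = ((e * kx ξ j : ℕ) : ℂ) from hkx ξ j,
      show ∑ i, F.fix hgN hg f η i * conj (ZMod.stdAddChar (i * j)) = ((e * ky j : ℕ) : ℂ) from hky j,
      Finset.sum_congr rfl (g := fun i : ZMod e => ZMod.stdAddChar (i * (-j))) fun i _ => by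
        rw [conj_std]; congr 1; ring,
      AddChar.sum_mulShift _ (ZMod.isPrimitive_stdAddChar e), ZMod.card, ← Nat.cast_sum,
      ← Finset.mul_sum] at h1
    have h2 : (if -j = 0 then e else 0) + e * (∑ ξ : Xp, kx ξ j) + e * ky j = e := by
      exact_mod_cast h1
    by_contra hgt
    have : e * 2 ≤ e * ∑ ξ : Xp, kx ξ j := Nat.mul_le_mul_left _ (by omega)
    have := NeZero.pos e
    omega
  have hx1 : ∀ j, kx ⟨χ, hχ⟩ j ≤ 1 := fun j =>
    le_trans (Finset.single_le_sum (f := fun ξ : Xp => kx ξ j) (fun _ _ => Nat.zero_le _)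
      (Finset.mem_univ _)) (hle j)
  have he0 : (e : ℂ) ≠ 0 := Nat.cast_ne_zero.2 (NeZero.ne e)
  set S := Finset.univ.filter fun j => kx ⟨χ, hχ⟩ j = 1
  have hval : ∀ i, F.fix hgN hg a χ i = ∑ j ∈ S, ZMod.stdAddChar (i * j) := by
    intro i
    refine mul_left_cancel₀ he0 ?_
    rw [← inversion, Finset.mul_sum, Finset.sum_filter]
    refine Finset.sum_congr rfl fun j _ => ?_
    rw [hkx ⟨χ, hχ⟩ j]
    rcases Nat.le_one_iff_eq_zero_or_eq_one.1 (hx1 j) with h | h <;> simp [h]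
  refine ⟨S, ?_, hval⟩
  have h0 := hval 0
  simp only [fix, if_pos, zero_mul, AddChar.map_zero_eq_one, Finset.sum_const, nsmul_eq_mul,
    mul_one] at h0
  exact_mod_cast h0.symm

theorem centralizer_facts {k : ℕ} (hk : ¬ e ∣ k) :
    e ∣ Nat.card (Subgroup.centralizer ({g ^ k} : Set G)) ∧
      ¬ p ∣ Nat.card (Subgroup.centralizer ({g ^ k} : Set G)) ∧
      Nat.card (Subgroup.centralizer ({g ^ k} : Set G)) ∣ e * (1 + n * p) := by
  set c := Nat.card (Subgroup.centralizer ({g ^ k} : Set G))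
  have hnp : ¬ p ∣ c := by
    intro hd
    obtain ⟨⟨s, hs⟩, hso⟩ :=
      exists_prime_orderOf_dvd_card' (G := Subgroup.centralizer ({g ^ k} : Set G)) p hd
    rw [Subgroup.orderOf_mk] at hso
    obtain ⟨w, hw, hw1⟩ := BrauerReynolds.exists_conj_mem F.hP F.hC (dvd_of_eq hso.symm)
    apply F.regular_pow hgN hg hk
    have hcomm : Commute (w⁻¹ * s * w) (w⁻¹ * g ^ k * w) := by
      have := Subgroup.mem_centralizer_singleton_iff.1 hs
      calc w⁻¹ * s * w * (w⁻¹ * g ^ k * w) = w⁻¹ * (s * g ^ k) * w := by group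
        _ = w⁻¹ * (g ^ k * s) * w := by rw [this]
        _ = w⁻¹ * g ^ k * w * (w⁻¹ * s * w) := by group
    have hP' := BrauerReynolds.eq_one_of_commute F.hP F.hC hw hw1 hcomm
    have hord : orderOf (w⁻¹ * g ^ k * w) = orderOf (g ^ k) := by
      have := MulEquiv.orderOf_eq (MulAut.conj w⁻¹) (g ^ k)
      simpa using this
    rw [← hord]
    have hne : w⁻¹ * g ^ k * w ≠ 1 := by
      intro h
      rw [h, orderOf_one] at hord
      rw [eq_comm, orderOf_eq_one_iff] at hord
      exact hk (hg ▸ orderOf_dvd_of_pow_eq_one hord)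
    rw [orderOf_eq_prime (p := p) ?_ hne]
    have h1 := pow_card_eq_one' (x := (⟨_, hP'⟩ : (P : Subgroup G)))
    rw [F.hP] at h1
    exact congrArg Subtype.val h1
  refine ⟨?_, hnp, ?_⟩
  · rw [← hg, ← Nat.card_zpowers]
    refine Subgroup.card_dvd_of_le (Subgroup.zpowers_le.2 ?_)
    exact Subgroup.mem_centralizer_singleton_iff.2 ((Commute.refl g).pow_right k).eq
  · have h := Subgroup.card_subgroup_dvd_card (Subgroup.centralizer ({g ^ k} : Set G))
    rw [F.hcard, mul_assoc] at h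
    exact (Nat.Coprime.dvd_of_dvd_mul_left ((hpf.out.coprime_iff_not_dvd.2 hnp).symm) h)

/-- `gcd (p + a, a) = 1`, so values of degree `a (p - b)` characters are multiples of `a`. -/
theorem isIntegral_div_a {χ : IrrCharacter G} (hχ : χ ∈ Xp) {k : ℕ} (hk : ¬ e ∣ k) :
    IsIntegral ℤ ((χ : G → ℂ) (g ^ k) / (a : ℂ)) := by
  have hp : p.Prime := hpf.out
  obtain ⟨hec, -, hcd⟩ := F.centralizer_facts hgN hg hk
  set c := Nat.card (Subgroup.centralizer ({g ^ k} : Set G)) with hc
  set K := (Subgroup.centralizer ({g ^ k} : Set G)).index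
  have hKc : K * c = p * e * (1 + n * p) := by
    rw [← F.hcard]; exact Subgroup.index_mul_card _
  obtain ⟨h, hh⟩ := hec
  have hap : Nat.Coprime a (p * (p + a)) := by
    refine Nat.Coprime.mul_right ?_ ?_
    · exact ((hp.coprime_iff_not_dvd).2 fun hd => by
        have := Nat.le_of_dvd (by have := F.ha; omega) hd
        have := F.hb; have := F.b_lt; omega).symm
    · refine Nat.coprime_add_self_right.2 ?_
      exact ((hp.coprime_iff_not_dvd).2 fun hd => by
        have := Nat.le_of_dvd (by have := F.ha; omega) hd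
        have := F.hb; have := F.b_lt; omega).symm
  have hω := irr_centralChar_isIntegral χ.2 (g ^ k)
  rw [centralChar, F.Xp_deg χ hχ] at hω
  -- multiply by the cofactor
  have hKh : K * h = p * (p + a) * (p - b) := by
    refine Nat.eq_of_mul_eq_mul_left F.e_pos ?_
    calc e * (K * h) = K * c := by rw [hh]; ring
      _ = _ := by rw [hKc, F.hN]; ring
  obtain ⟨u, v, huv⟩ : IsCoprime ((p * (p + a) : ℕ) : ℤ) (a : ℤ) :=
    Int.isCoprime_iff_nat_coprime.mpr (by simpa only [Int.natAbs_natCast] using hap.symm)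
  have ha0 : (a : ℂ) ≠ 0 := by have := F.ha; exact_mod_cast (show a ≠ 0 by omega)
  have hb0 : ((p - b : ℕ) : ℂ) ≠ 0 := by
    have := F.b_lt; exact_mod_cast (show p - b ≠ 0 by omega)
  have hy := BlockB.irr_isIntegral χ (g ^ k)
  have key : (χ : G → ℂ) (g ^ k) / (a : ℂ) =
      (u : ℂ) * ((h : ℂ) * ((K : ℂ) * (χ : G → ℂ) (g ^ k) / ((a * (p - b) : ℕ) : ℂ))) +
        (v : ℂ) * (χ : G → ℂ) (g ^ k) := by
    have e1 : (K : ℂ) * (h : ℂ) = (((p * (p + a) : ℕ) : ℤ) : ℂ) * ((p - b : ℕ) : ℂ) := by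
      have := congrArg (Nat.cast : ℕ → ℂ) hKh
      push_cast at this ⊢
      exact this
    have e2 : (u : ℂ) * (((p * (p + a) : ℕ) : ℤ) : ℂ) + (v : ℂ) * (a : ℂ) = 1 := by
      have := congrArg (Int.cast : ℤ → ℂ) huv
      push_cast at this ⊢
      exact this
    rw [Nat.cast_mul]
    field_simp
    linear_combination ((χ : G → ℂ) (g ^ k)) * ((p - b : ℕ) : ℂ) * (-e2) -
      (u : ℂ) * (χ : G → ℂ) (g ^ k) * e1
  rw [key]
  exact ((isIntegral_algebraMap (x := u)).mul ((isIntegral_natCast h).mul hω)).add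
    ((isIntegral_algebraMap (x := v)).mul hy)

/-- Outside the subgroup of index `a` the characters of degree `a (p - b)` vanish. -/
theorem Xp_zero {χ : IrrCharacter G} (hχ : χ ∈ Xp) {k : ℕ} (hk : ¬ e ∣ k * (e / a)) :
    (χ : G → ℂ) (g ^ k) = 0 := by
  have hk' : ¬ e ∣ k := fun h => hk (h.mul_right _)
  obtain ⟨S, hS, hval⟩ := F.exists_support hgN hg hχ
  have hne : ((k : ℕ) : ZMod e) ≠ 0 := fun h => hk' ((ZMod.natCast_eq_zero_iff _ _).1 h)
  have hfix : ∀ i : ZMod e, i ≠ 0 → F.fix hgN hg a χ i = (χ : G → ℂ) (g ^ i.val) := fun i hi => by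
    rw [fix, if_neg hi]
  have hgk : g ^ ((k : ZMod e)).val = g ^ k := by
    rw [ZMod.val_natCast, ← hg, pow_mod_orderOf]
  have h := sum_eq_zero_of_divisible S (by rw [hS]; have := F.ha; omega) (fun i hi => ?_)
    (i := (k : ZMod e)) (h₀ := e / a) (by rw [hS]; exact (Nat.mul_div_cancel' F.hae).symm)
    (fun h => hk (by
      rw [nsmul_eq_mul, ← Nat.cast_mul, ZMod.natCast_eq_zero_iff, mul_comm] at h
      exact h))
  · rwa [← hval, hfix _ hne, hgk] at h
  · rw [← hval, hfix _ hi, hS]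
    exact F.isIntegral_div_a hgN hg hχ (F.not_dvd_val hgN hg hi)

theorem Y_val_pow {η : IrrCharacter G} (hη : η ∈ Y) {k : ℕ} (hk : ¬ e ∣ k * (e / a)) :
    (η : G → ℂ) (g ^ k) = -1 := by
  have h := F.relation_pow hgN hg (fun hd => hk (hd.mul_right _)) hη
  rw [Finset.sum_eq_zero fun χ hχ => F.Xp_zero hgN hg hχ hk] at h
  linear_combination h

/-- Divisibilities for the centralizer of an element off the index `a` subgroup. -/
theorem centralizer_dvd {k : ℕ} (hk : ¬ e ∣ k * (e / a)) :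
    Nat.card (Subgroup.centralizer ({g ^ k} : Set G)) ∣ e * t ∧
      Nat.card (Subgroup.centralizer ({g ^ k} : Set G)) ^ 2 ∣ e * t * (d + 1) := by
  classical
  have := Fintype.ofFinite G
  have := Fintype.ofFinite (IrrCharacter G)
  have hk' : ¬ e ∣ k := fun h => hk (h.mul_right _)
  obtain ⟨-, hnp, -⟩ := F.centralizer_facts hgN hg hk'
  set c := Nat.card (Subgroup.centralizer ({g ^ k} : Set G))
  have hp : p.Prime := hpf.out
  obtain ⟨η, hη⟩ := F.exists_eta
  refine ⟨?_, ?_⟩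
  · have h := BrauerReynolds.dvd_of_omega_sum ({η} : Finset (IrrCharacter G)) id (g ^ k) F.d_pos
      (by simp [F.Y_deg η hη]) (σ := -1) (Or.inr rfl) (by simp [F.Y_val_pow hgN hg hη hk])
    have h2 : d * c ∣ p * e * (1 + n * p) := by
      rw [← F.hcard, ← Subgroup.index_mul_card (Subgroup.centralizer ({g ^ k} : Set G))]
      exact Nat.mul_dvd_mul_right h _
    rw [← F.hd, show p * e * (t * d) = d * (p * (e * t)) by ring] at h2
    exact Nat.Coprime.dvd_of_dvd_mul_left (hp.coprime_iff_not_dvd.2 hnp).symm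
      ((Nat.mul_dvd_mul_iff_left F.d_pos).1 h2)
  · obtain ⟨x, hx⟩ : ∃ x, x ∈ sharp P := by
      refine Finset.card_pos.1 (show 0 < (sharp P).card from ?_)
      rw [card_sharp F.hP]; have := hp.two_le; omega
    have hfree := centralizer_sq_dvd_mulSet (g ^ k) (g ^ k) x fun s hs w hw => by
      by_contra hne
      have hsP : w * s * w⁻¹ ∈ (P : Subgroup G) := by
        rwa [BrauerReynolds.cen_eq F.hP F.hC (mem_sharp.1 hx).1 (mem_sharp.1 hx).2] at hw
      apply hnp
      have hso : orderOf s = p := by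
        have e1 : orderOf (w * s * w⁻¹) = orderOf s := by
          simpa using MulEquiv.orderOf_eq (MulAut.conj w) s
        rw [← e1]
        refine orderOf_eq_prime ?_ (fun h => hne (by simpa using h))
        have h1 := pow_card_eq_one' (x := (⟨_, hsP⟩ : (P : Subgroup G)))
        rw [F.hP] at h1
        exact congrArg Subtype.val h1
      rw [← hso, ← Subgroup.orderOf_mk (H := Subgroup.centralizer ({g ^ k} : Set G)) s hs]
      exact orderOf_dvd_natCard _
    have hm := card_mulSet (g ^ k) (g ^ k) x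
    rw [card_centralizer_sharp F.hP F.hC hx] at hm
    have hsum : ∑ χ : IrrCharacter G,
        (χ : G → ℂ) (g ^ k) * (χ : G → ℂ) (g ^ k) * conj ((χ : G → ℂ) x) / (χ : G → ℂ) 1 =
        1 + 1 / (d : ℂ) := by
      have hS1 : ∑ η' ∈ Y, conj ((η' : G → ℂ) x) = 1 := by
        have h := Char.column_orthogonality 1 x
        rw [if_neg (fun hc => (mem_sharp.1 hx).2 (isConj_one_right.1 hc)),
          ← Finset.sum_subset (Finset.subset_univ (insert F.one (Xp ∪ Xm ∪ Y))) fun ξ _ hξ => ?_,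
          Finset.sum_insert (by simp [F.one_not.1, F.one_not.2.1, F.one_not.2.2]),
          Finset.sum_union (Finset.disjoint_union_left.2 ⟨F.disj₂, F.disj₃⟩),
          Finset.sum_union F.disj₁] at h
        swap
        · simp only [Finset.mem_insert, Finset.mem_union, not_or] at hξ
          rw [F.other ξ (fun h => hξ.1 (Subtype.ext h)) hξ.2.1.1 hξ.2.1.2 hξ.2.2 x
            (mem_sharp.1 hx).1 (mem_sharp.1 hx).2]
          simp
        have hrel := F.relation η hη 1 (by rw [orderOf_one]; exact hp.not_dvd_one)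
        rw [F.Y_deg η hη] at hrel
        have hX : ∀ (s : Finset (IrrCharacter G)) (v : ℂ),
            (∀ χ ∈ s, (χ : G → ℂ) x = v) →
            ∑ χ ∈ s, (χ : G → ℂ) 1 * conj ((χ : G → ℂ) x) = conj v * ∑ χ ∈ s, (χ : G → ℂ) 1 :=
          fun s v hv => by
            rw [Finset.mul_sum]
            exact Finset.sum_congr rfl fun χ hχ => by rw [hv χ hχ]; ring
        rw [hX Xp 1 fun χ hχ => F.Xp_val χ hχ x (mem_sharp.1 hx).1 (mem_sharp.1 hx).2,
          hX Xm (-1) fun χ hχ => F.Xm_val χ hχ x (mem_sharp.1 hx).1 (mem_sharp.1 hx).2,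
          Finset.sum_congr rfl (s₁ := Y) (g := fun η' : IrrCharacter G =>
            (d : ℂ) * conj ((η' : G → ℂ) x)) fun η' hη' => by rw [F.Y_deg η' hη'],
          ← Finset.mul_sum] at h
        simp only [map_one, map_neg, one_mul, mul_one] at h
        refine mul_left_cancel₀ (Nat.cast_ne_zero.2 F.d_pos.ne' : (d : ℂ) ≠ 0) ?_
        linear_combination h - hrel
      rw [← Finset.sum_subset (Finset.subset_univ (insert F.one Y)) fun ξ _ hξ => ?_,
        Finset.sum_insert F.one_not.2.2]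
      · rw [Finset.sum_congr rfl (g := fun η' : IrrCharacter G => conj ((η' : G → ℂ) x) / (d : ℂ))
          fun η' hη' => by rw [F.Y_val_pow hgN hg hη' hk, F.Y_deg η' hη']; ring,
          ← Finset.sum_div, hS1]
        simp
      · simp only [Finset.mem_insert, not_or] at hξ
        by_cases h1 : ξ ∈ Xp
        · rw [F.Xp_zero hgN hg h1 hk]; simp
        by_cases h2 : ξ ∈ Xm
        · rw [F.Xm_zero hgN hg h2 hk']; simp
        rw [F.other ξ (fun h => hξ.1 (Subtype.ext h)) h1 h2 hξ.2 x (mem_sharp.1 hx).1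
          (mem_sharp.1 hx).2]
        simp
    rw [hsum, F.hcard, ← F.hd] at hm
    have hcardm : (mulSet (g ^ k) (g ^ k) x).card = e * t * (d + 1) := by
      have hd0 : (d : ℂ) ≠ 0 := Nat.cast_ne_zero.2 F.d_pos.ne'
      have : ((mulSet (g ^ k) (g ^ k) x).card : ℂ) = ((e * t * (d + 1) : ℕ) : ℂ) := by
        refine mul_right_cancel₀ (Nat.cast_ne_zero.2 hp.ne_zero : (p : ℂ) ≠ 0) ?_
        rw [hm]
        push_cast
        field_simp
      exact_mod_cast this
    rw [hcardm] at hfree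
    rwa [pow_two]

/-- The parameters are forced. -/
theorem t_eq : t = a + 1 ∧ Xp.card = 2 ∧ b = 2 * (a + 1) ^ 2 ∧ e = 2 * a * (a + 1) := by
  have hk : ¬ e ∣ 1 * (e / a) := by
    rw [one_mul]
    intro h
    have h2 := F.ha
    have he := F.e_pos
    have := Nat.le_of_dvd (Nat.div_pos (Nat.le_of_dvd he F.hae) (by omega)) h
    have := Nat.div_lt_self he (show 1 < a by omega)
    omega
  obtain ⟨-, h2⟩ := F.centralizer_dvd hgN hg hk
  obtain ⟨⟨h, hh⟩, -⟩ := F.centralizer_facts hgN hg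
    (fun hd => hk (hd.mul_right _) : ¬ e ∣ 1)
  rw [hh, mul_pow, pow_two, mul_assoc, mul_assoc] at h2
  have h3 := (Nat.mul_dvd_mul_iff_left F.e_pos).1 h2
  have hdvd : e ∣ t * (d + 1) := (dvd_mul_right _ _).trans h3
  set A := Xp.card with hA'
  obtain ⟨β, hβ⟩ := F.hae
  have hb : b = t * (1 + A * a) + a + 1 := by
    have h1 : f * t + t * (1 + A * a) = a * b := by
      rw [← Nat.add_right_cancel (F.hte.trans F.hab.symm), ← F.hcount]; ring
    have h2 := F.hf
    have h3 := F.hnb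
    nlinarith
  have htb : b = t * β := by
    have h1 : t * e = a * b := Nat.add_right_cancel (F.hte.trans F.hab.symm)
    rw [hβ, mul_left_comm] at h1
    exact (Nat.eq_of_mul_eq_mul_left (by have := F.ha; omega) h1).symm
  have hta : t ∣ a + 1 := by
    have : t ∣ t * (1 + A * a) + (a + 1) := ⟨β, by rw [← htb, hb]; ring⟩
    exact (Nat.dvd_add_right (dvd_mul_right _ _)).1 this
  -- the congruence
  have hz : (e : ℤ) ∣ (t : ℤ) * A * a := by
    have h1 : (e : ℤ) ∣ ((t * (d + 1) : ℕ) : ℤ) := Int.natCast_dvd_natCast.2 hdvd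
    have hN' : ((t * (d + 1) : ℕ) : ℤ) = ((p : ℤ) + a) * ((p : ℤ) - b) + t := by
      have := F.hd.trans F.hN
      rw [mul_add, mul_one, Nat.cast_add, this, Nat.cast_mul, Nat.cast_sub F.b_lt.le]
      push_cast; ring
    have hp' : (p : ℤ) = t * e + 1 := by exact_mod_cast F.hte.symm
    have hab : (a : ℤ) * b = t * e := by
      exact_mod_cast (Nat.add_right_cancel (F.hte.trans F.hab.symm)).symm
    have hbz : (b : ℤ) = t * (1 + A * a) + a + 1 := by exact_mod_cast hb
    have e1 : (t : ℤ) * A * a =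
        (e : ℤ) * ((t : ℤ) * (t * e + 2 + a - b) - t) - ((((p : ℤ) + a) * ((p : ℤ) - b)) + t) := by
      rw [hp']
      linear_combination (-1 : ℤ) * hab - hbz
    rw [e1, ← hN']
    exact dvd_sub (dvd_mul_right _ _) h1
  have hdvd' : β ∣ t * A := by
    have h1 : a * β ∣ a * (t * A) := by
      rw [← hβ]
      have : (e : ℤ) ∣ ((a * (t * A) : ℕ) : ℤ) := by
        push_cast
        convert hz using 1
        ring
      exact Int.natCast_dvd_natCast.1 this
    exact (Nat.mul_dvd_mul_iff_left (by have := F.ha; omega)).1 h1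
  obtain ⟨s, hs⟩ := hta
  have hA0 : 0 < A := F.hA
  have ht0 := F.t_pos
  have ha := F.ha
  have hβ2 : β = 1 + A * a + s := by
    refine Nat.eq_of_mul_eq_mul_left ht0 ?_
    rw [← htb, hb, mul_add t (1 + A * a) s, ← hs]; ring
  have hle := Nat.le_of_dvd (Nat.mul_pos ht0 hA0) hdvd'
  have hs1 : s = 1 := by
    by_contra hne
    have hs0 : s ≠ 0 := fun h => by rw [h, mul_zero] at hs; omega
    have : t * A * 2 ≤ t * A * s := Nat.mul_le_mul_left _ (by omega)
    have e1 : t * A * s = A * (a + 1) := by rw [hs]; ring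
    have : A * (a + 1) ≤ A * (2 * a) := Nat.mul_le_mul_left _ (by omega)
    nlinarith
  subst hs1
  rw [mul_one] at hs
  subst hs
  have hA2 : A = 2 := by
    obtain ⟨r, hr⟩ := hdvd'
    rw [hβ2] at hr
    rcases Nat.lt_or_ge r 2 with h | h
    · rcases (by omega : r = 0 ∨ r = 1) with rfl | rfl
      · rw [mul_zero] at hr
        exact absurd hr (Nat.mul_pos (by omega) hA0).ne'
      · rw [mul_one, add_mul, one_mul, mul_comm a A] at hr
        omega
    · have : (1 + A * a + 1) * 2 ≤ (1 + A * a + 1) * r := Nat.mul_le_mul_left _ h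
      have : A * 2 ≤ A * a := Nat.mul_le_mul_left _ ha
      rw [add_mul, one_mul, mul_comm a A] at hr
      omega
  refine ⟨rfl, hA2, ?_, ?_⟩
  · rw [hb, hA2]; ring
  · rw [hβ, hβ2, hA2]; ring

theorem class_bound {k : ℕ} (hk : ¬ e ∣ k * (e / a)) :
    p * (1 + n * p) ≤ 2 * Nat.card (ConjClasses.mk (g ^ k)).carrier := by
  have := Fintype.ofFinite G
  obtain ⟨ht, hA, hb, he⟩ := F.t_eq hgN hg
  obtain ⟨h1, h2⟩ := F.centralizer_dvd hgN hg hk
  obtain ⟨hec, -, -⟩ := F.centralizer_facts hgN hg (fun hd => hk (hd.mul_right _) : ¬ e ∣ k)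
  obtain ⟨h, hh⟩ := hec
  rw [hh] at h1 h2
  have ht2 : h ∣ t := (Nat.mul_dvd_mul_iff_left F.e_pos).1 h1
  have h3 : e * (h * h) ∣ t * (d + 1) := by
    refine (Nat.mul_dvd_mul_iff_left F.e_pos).1 ?_
    have e1 : e * (e * (h * h)) = (e * h) ^ 2 := by ring
    rw [e1, ← mul_assoc]; exact h2
  have hh2 : h ∣ d + 1 := by
    have h4 : t * (2 * a * (h * h)) ∣ t * (d + 1) := by
      have e1 : t * (2 * a * (h * h)) = e * (h * h) := by rw [he, ht]; ring
      rw [e1]; exact h3
    exact ((dvd_mul_right h h).mul_left (2 * a)).trans ((Nat.mul_dvd_mul_iff_left F.t_pos).1 h4)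
  have hd : d = (2 * a * (a + 1) + 1) * (2 * (a - 1) * (a + 1) ^ 2 + 1) := by
    refine Nat.eq_of_mul_eq_mul_left F.t_pos ?_
    obtain ⟨r, rfl⟩ : ∃ r, a = r + 1 := ⟨a - 1, by have := F.ha; omega⟩
    have hp' : p = 2 * (r + 1) * (r + 1 + 1) ^ 2 + 1 := by rw [← F.hab, hb]; ring
    have hpb : p - b = 2 * r * (r + 1 + 1) ^ 2 + 1 :=
      Nat.sub_eq_of_eq_add (by rw [hp', hb]; ring)
    rw [F.hd, F.hN, hpb, hp', ht, Nat.add_sub_cancel]
    ring
  have hh3 : h ∣ 2 := by
    have h5 : d + 1 = t * (2 * a * (2 * (a - 1) * t ^ 2 + 1) + 2 * (a - 1) * t) + 2 := by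
      rw [hd, ht]; ring
    rw [h5] at hh2
    exact (Nat.dvd_add_right (ht2.mul_right _)).1 hh2
  have hle := Nat.le_of_dvd two_pos hh3
  have hcar := Char.natCard_carrier_mul_centralizer (g ^ k)
  rw [hh, F.hcard] at hcar
  have h6 : Nat.card (ConjClasses.mk (g ^ k)).carrier * h = p * (1 + n * p) := by
    refine Nat.eq_of_mul_eq_mul_left F.e_pos ?_
    rw [mul_left_comm, hcar]; ring
  rw [← h6, mul_comm 2]
  exact Nat.mul_le_mul_left _ hle

theorem false_aux : False := by
  classical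
  have := Fintype.ofFinite G
  have := Fintype.ofFinite (IrrCharacter G)
  obtain ⟨ht, hA, hb, he⟩ := F.t_eq hgN hg
  have hp : p.Prime := hpf.out
  have ha := F.ha
  have hp' : p = 2 * a * (a + 1) ^ 2 + 1 := by rw [← F.hab, hb]; ring
  have ha3 : 3 ≤ a := by
    by_contra h
    obtain rfl : a = 2 := by omega
    have h1 := F.hpar (by rw [he]; decide)
    rw [F.hN, hp', hb] at h1
    norm_num [Nat.even_iff] at h1
  obtain ⟨η, hη⟩ := F.exists_eta
  -- four classes
  have hmk : ∀ D ∈ ({1, 2, a + 1, 2 * (a + 1)} : Finset ℕ),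
      ∃ k, orderOf (g ^ k) = a * D ∧ ¬ e ∣ k * (e / a) := by
    intro D hD
    have hDd : D ∣ 2 * (a + 1) := by
      simp only [Finset.mem_insert, Finset.mem_singleton] at hD
      rcases hD with rfl | rfl | rfl | rfl
      exacts [one_dvd _, dvd_mul_right _ _, dvd_mul_left _ _, dvd_rfl]
    obtain ⟨c, hc⟩ := hDd
    have hec : e = c * (a * D) := by rw [he, mul_assoc, mul_left_comm, hc]; ring
    have hc0 : c ≠ 0 := fun h => by rw [h, zero_mul] at hec; exact F.e_pos.ne' hec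
    refine ⟨c, ?_, ?_⟩
    · rw [orderOf_pow' _ hc0, hg, Nat.gcd_eq_right ⟨_, hec⟩, hec,
        Nat.mul_div_cancel_left _ (Nat.pos_of_ne_zero hc0)]
    · rw [show e / a = 2 * (a + 1) by
        rw [he, mul_assoc, mul_left_comm, Nat.mul_div_cancel_left _ (by omega)]]
      intro h
      rw [hec, Nat.mul_dvd_mul_iff_left (Nat.pos_of_ne_zero hc0)] at h
      have h1 : a ∣ 2 * (a + 1) := (dvd_mul_right _ _).trans h
      rw [mul_add, mul_one] at h1
      have h2 := Nat.le_of_dvd two_pos ((Nat.dvd_add_right (dvd_mul_left a 2)).1 h1)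
      omega
  choose! kk hord hkk using hmk
  set Ds : Finset ℕ := {1, 2, a + 1, 2 * (a + 1)}
  have hDs : Ds.card = 4 := by
    have e1 : (1 : ℕ) ∉ ({2, a + 1, 2 * (a + 1)} : Finset ℕ) := by simp; omega
    have e2 : (2 : ℕ) ∉ ({a + 1, 2 * (a + 1)} : Finset ℕ) := by simp; omega
    have e3 : a + 1 ∉ ({2 * (a + 1)} : Finset ℕ) := by simp
    rw [Finset.card_insert_of_notMem e1, Finset.card_insert_of_notMem e2,
      Finset.card_insert_of_notMem e3, Finset.card_singleton]
  let cl : ℕ → Finset G := fun D => Finset.univ.filter fun y => IsConj (g ^ kk D) y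
  have hdis : (Ds : Set ℕ).PairwiseDisjoint cl := by
    intro D hD D' hD' hne
    change Disjoint (cl D) (cl D')
    rw [Finset.disjoint_left]
    intro y hy hy'
    simp only [cl, Finset.mem_filter, Finset.mem_univ, true_and] at hy hy'
    obtain ⟨w, hw⟩ := isConj_iff.1 (hy.trans hy'.symm)
    have := MulEquiv.orderOf_eq (MulAut.conj w) (g ^ kk D)
    rw [MulAut.conj_apply, hw, hord D hD, hord D' hD'] at this
    exact hne (Nat.eq_of_mul_eq_mul_left (by omega) this).symm
  have hsub : Ds.biUnion cl ⊆ regSet G p := by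
    intro y hy
    simp only [Finset.mem_biUnion, cl, Finset.mem_filter, Finset.mem_univ, true_and] at hy
    obtain ⟨D, hD, hy⟩ := hy
    obtain ⟨w, rfl⟩ := isConj_iff.1 hy
    have hnd : ¬ e ∣ kk D := fun h => hkk D hD (h.mul_right _)
    refine mem_regSet.2 ⟨fun h => hnd ?_, ?_⟩
    · have : g ^ kk D = 1 := by simpa using h
      exact hg ▸ orderOf_dvd_of_pow_eq_one this
    · have e1 : orderOf (w * g ^ kk D * w⁻¹) = orderOf (g ^ kk D) := by
        simpa using MulEquiv.orderOf_eq (MulAut.conj w) (g ^ kk D)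
      rw [e1]
      exact F.regular_pow hgN hg hnd
  have hlow : ((2 * (p * (1 + n * p)) : ℕ) : ℝ) ≤
      ∑ y ∈ regSet G p, Complex.normSq ((η : G → ℂ) y) := by
    refine le_trans ?_ (Finset.sum_le_sum_of_subset_of_nonneg hsub
      fun y _ _ => Complex.normSq_nonneg _)
    rw [Finset.sum_biUnion hdis]
    have hone : ∀ D ∈ Ds, ∑ y ∈ cl D, Complex.normSq ((η : G → ℂ) y) = ((cl D).card : ℝ) := by
      intro D hD
      rw [Finset.sum_congr rfl (g := fun _ => (1 : ℝ)) fun y hy => ?_]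
      · simp
      simp only [cl, Finset.mem_filter, Finset.mem_univ, true_and] at hy
      obtain ⟨w, rfl⟩ := isConj_iff.1 hy
      rw [Char.irr_isClassFunction η.2 (g ^ kk D) w, F.Y_val_pow hgN hg hη (hkk D hD)]
      simp
    rw [Finset.sum_congr rfl hone, ← Nat.cast_sum, Nat.cast_le]
    refine le_of_mul_le_mul_left ?_ two_pos
    rw [Finset.mul_sum]
    refine le_trans ?_ (Finset.card_nsmul_le_sum Ds _ (p * (1 + n * p)) fun D hD => ?_)
    · rw [hDs, smul_eq_mul]; omega
    refine le_trans (F.class_bound hgN hg (hkk D hD)) (Nat.mul_le_mul_left _ (le_of_eq ?_))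
    rw [show (cl D).card = Fintype.card {y // IsConj (g ^ kk D) y} from (Fintype.card_subtype _).symm,
      ← Nat.card_eq_fintype_card]
    refine Nat.card_congr (Equiv.subtypeEquivRight fun y => ?_)
    rw [ConjClasses.mem_carrier_iff_mk_eq, ConjClasses.mk_eq_mk_iff_isConj]
    exact ⟨fun h => h.symm, fun h => h.symm⟩
  -- norms
  let Φ : G → ℂ := fun y => ∑ η' ∈ Y, (η' : G → ℂ) y * conj ((η' : G → ℂ) y)
  have hΦ : IsClassFunction G Φ := fun y w => by
    exact Finset.sum_congr rfl fun η' _ => by rw [Char.irr_isClassFunction η'.2 y w]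
  have htot : ∑ y, Φ y = (t : ℂ) * (Nat.card G : ℂ) := by
    rw [Finset.sum_comm, Finset.sum_congr rfl (g := fun _ => (Nat.card G : ℂ)) fun η' _ => ?_,
      Finset.sum_const, F.card_Y, nsmul_eq_mul]
    have h := Char.irr_classInner_self η'.2
    rw [Char.classInner_def, inv_mul_eq_iff_eq_mul₀ Char.natCard_ne_zero, mul_one] at h
    exact h
  have hsharp : ∀ x ∈ sharp P, Φ x = (p : ℂ) - (e : ℂ) := by
    intro x hx
    have h := Char.column_orthogonality x x
    rw [if_pos (IsConj.refl x), card_centralizer_sharp F.hP F.hC hx,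
      ← Finset.sum_subset (Finset.subset_univ (insert F.one (Xp ∪ Xm ∪ Y))) fun ξ _ hξ => ?_,
      Finset.sum_insert (by simp [F.one_not.1, F.one_not.2.1, F.one_not.2.2]),
      Finset.sum_union (Finset.disjoint_union_left.2 ⟨F.disj₂, F.disj₃⟩),
      Finset.sum_union F.disj₁] at h
    swap
    · simp only [Finset.mem_insert, Finset.mem_union, not_or] at hξ
      rw [F.other ξ (fun h => hξ.1 (Subtype.ext h)) hξ.2.1.1 hξ.2.1.2 hξ.2.2 x
        (mem_sharp.1 hx).1 (mem_sharp.1 hx).2]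
      simp
    rw [Finset.sum_congr rfl (s₁ := Xp) (g := fun _ => (1 : ℂ)) fun χ hχ => by
        rw [F.Xp_val χ hχ x (mem_sharp.1 hx).1 (mem_sharp.1 hx).2]; simp,
      Finset.sum_congr rfl (s₁ := Xm) (g := fun _ => (1 : ℂ)) fun χ hχ => by
        rw [F.Xm_val χ hχ x (mem_sharp.1 hx).1 (mem_sharp.1 hx).2]; simp] at h
    simp only [map_one, mul_one, Finset.sum_const, nsmul_eq_mul] at h
    have hB : ((Xp.card : ℂ) + (Xm.card : ℂ) + 1) = (e : ℂ) := by exact_mod_cast F.hcountB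
    change ∑ η' ∈ Y, _ = _
    linear_combination h - hB
  have hsplit := sum_split F.hP F.hC Φ hΦ
  have hregsum : ∀ y ∈ regSet G p, Φ y =
      (t : ℂ) * ((Complex.normSq ((η : G → ℂ) y) : ℝ) : ℂ) := fun y hy => by
    change ∑ η' ∈ Y, _ = _
    rw [Finset.sum_congr rfl (g := fun _ => ((Complex.normSq ((η : G → ℂ) y) : ℝ) : ℂ))
      fun η' hη' => by
        rw [F.regular η' hη' η hη y (mem_regSet.1 hy).2, Complex.mul_conj],
      Finset.sum_const, F.card_Y, nsmul_eq_mul]
  have hΦ1 : Φ 1 = (t : ℂ) * ((d : ℂ) * (d : ℂ)) := by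
    change ∑ η' ∈ Y, _ = _
    rw [Finset.sum_congr rfl (g := fun _ => (d : ℂ) * (d : ℂ)) fun η' hη' => by
      rw [F.Y_deg η' hη', Complex.conj_natCast], Finset.sum_const, F.card_Y, nsmul_eq_mul]
  rw [htot, hΦ1, Finset.sum_congr rfl hregsum, ← Finset.mul_sum, Finset.sum_congr rfl hsharp,
    Finset.sum_const, card_sharp F.hP, nsmul_eq_mul, F.hn, F.hcard] at hsplit
  have hreal : (t : ℝ) * ((p * e * (1 + n * p) : ℕ) : ℝ) = (t : ℝ) * ((d : ℝ) * d) +
      (t : ℝ) * (∑ y ∈ regSet G p, Complex.normSq ((η : G → ℂ) y)) +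
      ((1 + n * p : ℕ) : ℝ) * (((p - 1 : ℕ) : ℝ) * ((p : ℝ) - e)) := by
    have := congrArg Complex.re hsplit
    simpa [← Complex.ofReal_sum, ← Complex.ofReal_natCast] using this
  have hN0 : (0 : ℝ) < ((1 + n * p : ℕ) : ℝ) := by positivity
  have hdN : ((1 + n * p : ℕ) : ℝ) = (t : ℝ) * d := by exact_mod_cast F.hd.symm
  have htR : (t : ℝ) = (a : ℝ) + 1 := by exact_mod_cast ht
  have heR : (e : ℝ) = 2 * (a : ℝ) * (a + 1) := by exact_mod_cast he
  have hpR : (p : ℝ) = 2 * (a : ℝ) * ((a : ℝ) + 1) ^ 2 + 1 := by exact_mod_cast hp'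
  have hbR : (b : ℝ) = 2 * ((a : ℝ) + 1) ^ 2 := by exact_mod_cast hb
  have hNR : (t : ℝ) * d = ((p : ℝ) + a) * ((p : ℝ) - b) := by
    rw [← hdN, F.hN, Nat.cast_mul, Nat.cast_sub F.b_lt.le]; push_cast; ring
  have hp1 : ((p - 1 : ℕ) : ℝ) = (t : ℝ) * e := by
    have := F.hte
    rw [show p - 1 = t * e by omega]; push_cast; ring
  push_cast at hlow
  have hdd : (0 : ℝ) < d := by exact_mod_cast F.d_pos
  have ht1 : (0 : ℝ) < t := by exact_mod_cast F.t_pos
  have key : (d : ℝ) + 2 * (t : ℝ) * p ≤ (t : ℝ) * e ^ 2 := by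
    refine le_of_mul_le_mul_left ?_ (mul_pos ht1 hdd)
    have hl : (t : ℝ) * (2 * ((p : ℝ) * (1 + (n : ℝ) * p))) ≤
        (t : ℝ) * ∑ y ∈ regSet G p, Complex.normSq ((η : G → ℂ) y) :=
      mul_le_mul_of_nonneg_left hlow ht1.le
    push_cast at hreal hdN
    rw [hdN] at hreal hl
    rw [hp1] at hreal
    linear_combination hl - hreal
  have hd' : (d : ℝ) * ((a : ℝ) + 1) =
      ((p : ℝ) + a) * ((p : ℝ) - b) := by rw [← htR, mul_comm, hNR]
  rw [htR, heR] at key
  rw [hpR, hbR] at hd'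
  rw [hpR] at key
  have h3 : (3 : ℝ) ≤ a := by exact_mod_cast ha3
  have hdval : (d : ℝ) = (2 * (a : ℝ) * (a + 1) + 1) * (2 * ((a : ℝ) - 1) * (a + 1) ^ 2 + 1) := by
    refine mul_right_cancel₀ (by positivity : (a : ℝ) + 1 ≠ 0) ?_
    rw [hd']; ring
  rw [hdval] at key
  nlinarith [mul_nonneg (by linarith : (0 : ℝ) ≤ (a : ℝ) - 1) (sq_nonneg ((a : ℝ) + 1))]

end FourData

/-- The case cannot occur. -/
theorem fourData_false {M : Ideal AlgInt} {P : Sylow p G} {a b e t f d n : ℕ}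
    {Xp Xm Y : Finset (IrrCharacter G)} (F : FourData M P a b e t f d n Xp Xm Y) : False := by
  obtain ⟨g, hgN, hg⟩ := F.exists_gen
  have : NeZero e := ⟨F.e_pos.ne'⟩
  exact F.false_aux hgN hg

end CfsgLib.Block.NP.Four

namespace CfsgLib.Block.NP.Data

open Cfsg CfsgLib CfsgLib.Block CfsgLib.Block.NP

universe u

variable {G : Type u} [Group G] [Finite G] {p : ℕ} [hpf : Fact p.Prime]
variable {M : Ideal AlgInt} {P : Sylow p G} {n e : ℕ} {V : Subgroup G} {t a b f d₀ : ℕ}
  {σ : ℤ} {Xa Xn Xb Xc Y : Finset (IrrCharacter G)}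

/-- Exceptional degree `N / t`, self-centralizing `P`: no degree `a (p - b)` without `b (p + a)`. -/
theorem four_false (D : Data M P n e V t a b f d₀ σ Xa Xn Xb Xc Y) (hV : V = ⊥)
    (halt : 2 ≤ t ∧ f * t = n + 1 ∧ t * d₀ = 1 + n * p ∧ σ = -1)
    (hXn : Xn = ∅) (hXc : Xc = ∅) (hXa : Xa.Nonempty) : False := by
  obtain ⟨ht2, hf, hd, hσ⟩ := halt
  subst hXn hXc hσ
  have hp : p.Prime := hpf.out
  have hP := D.hyp.hP
  have hC : Subgroup.centralizer ((P : Subgroup G) : Set G) = (P : Subgroup G) := by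
    refine (Subgroup.eq_of_le_of_card_ge (fun u hu => ?_) ?_).symm
    · have : IsCyclic (P : Subgroup G) := isCyclic_of_prime_card hP
      let : CommGroup (P : Subgroup G) := IsCyclic.commGroup
      rw [Subgroup.mem_centralizer_iff]
      intro v hv
      exact congrArg Subtype.val (mul_comm (⟨v, hv⟩ : ↥(P : Subgroup G)) ⟨u, hu⟩)
    · rw [D.hyp.card_C, hV, Subgroup.card_bot, mul_one]
      exact hP.ge
  have hcount := D.count ht2
  simp only [Finset.card_empty, add_zero] at hcount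
  have hb : b < p := by
    have := D.hab
    have : 1 * b ≤ a * b := Nat.mul_le_mul_right _ (by have := D.a_two; omega)
    omega
  have hcnt : 1 + Xa.card * a + f = e := by
    have h := D.deg_eq
    simp only [Finset.card_empty, Nat.cast_zero, zero_mul, add_zero, sub_zero] at h
    push_cast [Nat.cast_sub hb.le, Nat.cast_sub hp.one_le] at h
    have e1 : ((t : ℤ)) * e + 1 = p := by exact_mod_cast D.hte
    have e2 : (a : ℤ) * b + 1 = p := by exact_mod_cast D.hab
    have e3 : (t : ℤ) * d₀ = 1 + n * p := by exact_mod_cast hd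
    have e4 : (f : ℤ) * t = n + 1 := by exact_mod_cast hf
    have e5 : (Xa.card : ℤ) + Xb.card + 1 = e := by exact_mod_cast hcount
    have e6 : ((p : ℤ) * t) * ((1 + Xa.card * a + f : ℕ) : ℤ) = ((p : ℤ) * t) * e := by
      push_cast
      linear_combination (t : ℤ) * h - e3 + (p : ℤ) * e4 + (t : ℤ) * ((p : ℤ) - 1) * e5 +
        (t : ℤ) * (Xa.card : ℤ) * e2 - e1
    exact_mod_cast mul_left_cancel₀
      (by exact_mod_cast (Nat.mul_pos hp.pos (show 0 < t by omega)).ne' : (p : ℤ) * t ≠ 0) e6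
  refine Four.fourData_false (Xp := Xa) (Xm := Xb) (Y := Y) (d := d₀) (n := n)
    { hM := D.hM, hP := hP, hC := hC, ha := D.a_two, hb := D.a_le, hab := D.hab, hte := D.hte,
      hn := D.hyp.hn, hN := D.N_eq, hnb := D.n_eq, hf := hf, hd := hd, hcount := hcnt,
      hcountB := hcount, hA := Finset.card_pos.2 hXa, hae := D.a_dvd hXa,
      card_Y := D.card_Y ht2, disj₁ := D.disj_ab, disj₂ := D.disj_aY, disj₃ := D.disj_bY,
      one_not := ⟨D.one_not.1, D.one_not.2.2.1, D.one_not.2.2.2.2⟩,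
      Xp_deg := D.Xa_deg, Xm_deg := D.Xb_deg, Y_deg := D.Y_deg, Y_sum := D.Y_sum,
      regular := D.regular, hcard := ?_, hcardN := ?_, hpar := ?_, Xp_val := ?_, Xm_val := ?_,
      relation := ?_, other := ?_ }
  · rw [D.hyp.card_G, hV, Subgroup.card_bot, mul_one]
  · rw [D.hyp.card_N, hV, Subgroup.card_bot, mul_one]
  · intro he
    have h := Fusion.even_card_sylow D.hyp.perfect P hP ?_ (by rw [D.hyp.e_eq]; exact he)
    · rwa [D.hyp.hn] at h
    · rw [D.hyp.hn, pow_two]
      have := D.hyp.n_lt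
      have h1 : (n + 1) * p ≤ p * p := Nat.mul_le_mul_right _ this
      have := hp.two_le
      rw [add_mul, one_mul] at h1
      omega
  · intro χ hχ y hy hy1
    simpa using D.Xa_val χ hχ y hy hy1 1 (one_mem _)
  · intro χ hχ y hy hy1
    simpa using D.Xb_val χ hχ y hy hy1 1 (one_mem _)
  · intro η hη y hy
    have h := D.relation η hη y hy
    simp only [Finset.sum_empty, add_zero, sub_zero] at h
    rw [h]; simp
  · intro ξ h1 h2 h3 h4 x hx hx1
    refine BrauerReynolds.apply_eq_zero_of_not_principal hP hC D.hM ξ (fun hm => ?_) hx hx1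
    rcases (D.mem ξ).1 hm with h | h | h | h | h | h
    exacts [h1 h, h2 h, absurd h (Finset.notMem_empty ξ), h3 h, absurd h (Finset.notMem_empty ξ), h4 h]

end CfsgLib.Block.NP.Data
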