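import Cfsg.Agent.Lib.Block.BRPoints
import Cfsg.Agent.Lib.Char.Column

/-!
Counting lemmas for a group with a self-centralizing Sylow subgroup of prime order.
-/

set_option autoImplicit false
set_option linter.unusedSectionVars false

namespace CfsgLib.Block.NP

open Cfsg CfsgLib CfsgLib.Block
open scoped ComplexConjugate

universe u

variable {G : Type u} [Group G] [Fintype G]

open scoped Classical in
/-- The elements `t` with `g * (t * z * t⁻¹)` conjugate to `x`. -/
noncomputable def mulSet (g z x : G) : Finset G :=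
  Finset.univ.filter fun t => IsConj (g * (t * z * t⁻¹)) x

theorem centralizer_dvd_mulSet (g z x : G) :
    Nat.card (Subgroup.centralizer ({g} : Set G)) ∣ (mulSet g z x).card := by
  classical
  set C := Subgroup.centralizer ({g} : Set G)
  let T : Set (G ⧸ C) := (QuotientGroup.mk) '' {s : G | IsConj (g * (s⁻¹ * z * s)) x}
  have hpre : QuotientGroup.mk ⁻¹' T = {s : G | IsConj (g * (s⁻¹ * z * s)) x} := by
    refine Set.Subset.antisymm ?_ (Set.subset_preimage_image _ _)
    rintro s ⟨r, hr, hrs⟩
    have hc : r⁻¹ * s ∈ C := QuotientGroup.eq.1 hrs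
    rw [Subgroup.mem_centralizer_singleton_iff] at hc
    have e : g * (s⁻¹ * z * s) = (r⁻¹ * s)⁻¹ * (g * (r⁻¹ * z * r)) * (r⁻¹ * s) := by
      calc g * (s⁻¹ * z * s) = (r⁻¹ * s)⁻¹ * ((r⁻¹ * s) * g) * (s⁻¹ * z * s) := by group
        _ = (r⁻¹ * s)⁻¹ * (g * (r⁻¹ * s)) * (s⁻¹ * z * s) := by rw [hc]
        _ = _ := by group
    change IsConj (g * (s⁻¹ * z * s)) x
    rw [e]
    refine IsConj.trans (IsConj.symm (isConj_iff.mpr ⟨(r⁻¹ * s)⁻¹, ?_⟩)) hr
    group
  have h := Nat.card_congr (QuotientGroup.preimageMkEquivSubgroupProdSet C T)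
  rw [Nat.card_prod, hpre] at h
  have e : (mulSet g z x).card = Nat.card {s : G | IsConj (g * (s⁻¹ * z * s)) x} := by
    rw [mulSet, ← Fintype.card_subtype, ← Nat.card_eq_fintype_card]
    refine Nat.card_congr ((Equiv.inv G).subtypeEquiv fun t => ?_)
    simp
  exact ⟨_, e.trans h⟩

theorem card_mulSet [Fintype (IrrCharacter G)] (g z x : G) :
    ((mulSet g z x).card : ℂ) * (Nat.card (Subgroup.centralizer ({x} : Set G)) : ℂ) =
      (Nat.card G : ℂ) * ∑ χ : IrrCharacter G,
        (χ : G → ℂ) g * (χ : G → ℂ) z * conj ((χ : G → ℂ) x) / (χ : G → ℂ) 1 := by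
  classical
  have h := BlockB.sum_classFun_mul_conj
    (Char.classIndicator_isClassFunction (ConjClasses.mk x)) g z
  have hl : ∑ t : G, Char.classIndicator (ConjClasses.mk x) (g * (t * z * t⁻¹)) =
      ((mulSet g z x).card : ℂ) := by
    simp only [Char.classIndicator, ConjClasses.mk_eq_mk_iff_isConj, mulSet,
      Finset.sum_boole]
  rw [hl] at h
  rw [h, Finset.mul_sum, Finset.sum_mul, Finset.mul_sum]
  refine Finset.sum_congr rfl fun χ _ => ?_
  rw [Char.classInner_def, Char.sum_classIndicator_mul _ _ (Char.irr_isClassFunction χ.2) x rfl]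
  have hm : (Nat.card (ConjClasses.mk x).carrier : ℂ) *
      (Nat.card (Subgroup.centralizer ({x} : Set G)) : ℂ) = (Nat.card G : ℂ) := by
    exact_mod_cast Char.natCard_carrier_mul_centralizer x
  have h0 : (Nat.card G : ℂ) ≠ 0 := Char.natCard_ne_zero
  rw [← hm]
  field_simp

variable {p : ℕ} [hpf : Fact p.Prime] {P : Sylow p G}

open scoped Classical in
/-- The non-trivial `p`-regular elements. -/
noncomputable def regSet (G : Type u) [Group G] [Fintype G] (p : ℕ) : Finset G :=
  Finset.univ.filter fun g => g ≠ 1 ∧ ¬ p ∣ orderOf g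

open scoped Classical in
/-- The non-trivial elements of `P`. -/
noncomputable def sharp (P : Sylow p G) : Finset G :=
  Finset.univ.filter fun g => g ∈ (P : Subgroup G) ∧ g ≠ 1

theorem mem_sharp {g : G} : g ∈ sharp P ↔ g ∈ (P : Subgroup G) ∧ g ≠ 1 := by
  classical
  simp [sharp]

theorem mem_regSet {g : G} : g ∈ regSet G p ↔ g ≠ 1 ∧ ¬ p ∣ orderOf g := by
  classical
  simp [regSet]

theorem sum_subgroup (f : G → ℂ) [Fintype (P : Subgroup G)] :
    ∑ u : (P : Subgroup G), f u = f 1 + ∑ x ∈ sharp P, f x := by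
  classical
  rw [← Finset.sum_subtype (Finset.univ.filter fun x => x ∈ (P : Subgroup G)) (by simp) f,
    ← Finset.add_sum_erase _ f (by simp : (1 : G) ∈ _)]
  congr 1
  refine Finset.sum_congr ?_ fun _ _ => rfl
  ext y
  simp [mem_sharp, and_comm]

variable (hP : Nat.card P = p)
include hP

theorem card_sharp : (sharp P).card = p - 1 := by
  classical
  have : sharp P = (Finset.univ.filter fun x => x ∈ (P : Subgroup G)).erase 1 := by
    ext y
    simp [mem_sharp, and_comm]
  rw [this, Finset.card_erase_of_mem (by simp)]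
  congr 1
  rw [← Fintype.card_subtype, ← Nat.card_eq_fintype_card]
  exact hP

theorem orderOf_sharp {x : G} (hx : x ∈ sharp P) : orderOf x = p := by
  obtain ⟨h1, h2⟩ := mem_sharp.1 hx
  refine orderOf_eq_prime ?_ h2
  have h := pow_card_eq_one' (x := (⟨x, h1⟩ : (P : Subgroup G)))
  rw [hP] at h
  exact congrArg Subtype.val h

theorem zpowers_sharp {x : G} (hx : x ∈ sharp P) : Subgroup.zpowers x = (P : Subgroup G) := by
  refine Subgroup.eq_of_le_of_card_ge (Subgroup.zpowers_le.2 (mem_sharp.1 hx).1) ?_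
  rw [Nat.card_zpowers, orderOf_sharp hP hx, hP]

variable (hC : Subgroup.centralizer ((P : Subgroup G) : Set G) = (P : Subgroup G))
include hC

theorem card_centralizer_sharp {x : G} (hx : x ∈ sharp P) :
    Nat.card (Subgroup.centralizer ({x} : Set G)) = p := by
  rw [BrauerReynolds.cen_eq hP hC (mem_sharp.1 hx).1 (mem_sharp.1 hx).2, hP]

/-- Summation over the group: identity, regular elements, Sylow subgroups. -/
theorem sum_split (f : G → ℂ) (hf : IsClassFunction G f) :
    ∑ g : G, f g = f 1 + ∑ g ∈ regSet G p, f g +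
      (Nat.card (Sylow p G) : ℂ) * ∑ x ∈ sharp P, f x := by
  classical
  set N := Subgroup.normalizer ((P : Subgroup G) : Set G)
  have hcount : ∀ g : G, g ≠ 1 → p ∣ orderOf g →
      BlockB.conjMemCount (P : Subgroup G) g = Nat.card N := by
    intro g hg1 hg
    obtain ⟨s, hs, hs1⟩ := BrauerReynolds.exists_conj_mem hP hC hg
    rw [BlockB.conjMemCount, ← Fintype.card_subtype, ← Nat.card_eq_fintype_card]
    refine Nat.card_congr ((Equiv.mulLeft s⁻¹).subtypeEquiv fun t => ?_)
    simp only [Equiv.coe_mulLeft]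
    constructor
    · intro ht
      have hxs : s⁻¹ * g * s ∈ sharp P := mem_sharp.2 ⟨hs, hs1⟩
      have hts : t⁻¹ * g * t ∈ sharp P := mem_sharp.2 ⟨ht, fun h => hg1 (by
        have := congrArg (fun y => t * y * t⁻¹) h
        simpa [mul_assoc] using this)⟩
      rw [← inv_mem_iff, Subgroup.mem_normalizer_iff]
      intro y
      have e : (P : Subgroup G).map (MulAut.conj ((s⁻¹ * t)⁻¹)).toMonoidHom = (P : Subgroup G) := by
        conv_lhs => rw [← zpowers_sharp hP hxs, MonoidHom.map_zpowers]
        conv_rhs => rw [← zpowers_sharp hP hts]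
        congr 1
        simp [mul_assoc]
      constructor
      · intro hy
        have h1 := Subgroup.mem_map_of_mem (MulAut.conj ((s⁻¹ * t)⁻¹)).toMonoidHom hy
        rw [e] at h1
        simpa [mul_assoc] using h1
      · intro hy
        rw [← e] at hy
        obtain ⟨y', hy', h2⟩ := Subgroup.mem_map.1 hy
        have : y' = y := (MulAut.conj ((s⁻¹ * t)⁻¹)).injective (by simpa [mul_assoc] using h2)
        exact this ▸ hy'
    · intro ht
      have h1 := (Subgroup.mem_normalizer_iff.1 (N.inv_mem ht) (s⁻¹ * g * s)).1 hs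
      simpa [mul_assoc] using h1
  have hone : BlockB.conjMemCount (P : Subgroup G) 1 = Nat.card G := by
    simp [BlockB.conjMemCount, Nat.card_eq_fintype_card]
  have hreg : ∀ g : G, g ≠ 1 → ¬ p ∣ orderOf g →
      BlockB.conjMemCount (P : Subgroup G) g = 0 := by
    intro g hg1 hg
    refine BlockB.conjMemCount_eq_zero_of_not_isPPower (p := p) _ P.isPGroup' g ?_
    rintro ⟨k, hk⟩
    rcases k with _ | k
    · exact hg1 (orderOf_eq_one_iff.1 (by simpa using hk))
    · exact hg (hk ▸ dvd_pow_self p k.succ_ne_zero)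
  have hsum : ∑ g : G, (BlockB.conjMemCount (P : Subgroup G) g : ℂ) * f g =
      (Nat.card G : ℂ) * (f 1 + ∑ x ∈ sharp P, f x) := by
    have h1 : ∀ g : G, (BlockB.conjMemCount (P : Subgroup G) g : ℂ) * f g =
        ∑ s : G, if s⁻¹ * g * s ∈ (P : Subgroup G) then f g else 0 := fun g => by
      rw [← Finset.sum_filter, Finset.sum_const, nsmul_eq_mul]
      rfl
    rw [Finset.sum_congr rfl fun g _ => h1 g, Finset.sum_comm]
    have h2 : ∀ s : G, (∑ g : G, if s⁻¹ * g * s ∈ (P : Subgroup G) then f g else 0) =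
        f 1 + ∑ x ∈ sharp P, f x := fun s => by
      rw [← sum_subgroup f, ← Finset.sum_subtype
        (Finset.univ.filter fun x => x ∈ (P : Subgroup G)) (by simp) f, Finset.sum_filter]
      refine Fintype.sum_equiv (MulAut.conj s⁻¹).toEquiv _ _ fun g => ?_
      simp only [MulEquiv.toEquiv_eq_coe, MulEquiv.coe_toEquiv, MulAut.conj_apply, inv_inv]
      rw [show f (s⁻¹ * g * s) = f g from by simpa using hf g s⁻¹]
    rw [Finset.sum_congr rfl fun s _ => h2 s, Finset.sum_const, Finset.card_univ, nsmul_eq_mul,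
      Nat.card_eq_fintype_card]
  set sing := Finset.univ.filter fun g : G => g ≠ 1 ∧ p ∣ orderOf g
  have hd : ∀ φ : G → ℂ, ∑ g : G, φ g = φ 1 + ∑ g ∈ regSet G p, φ g + ∑ g ∈ sing, φ g := by
    intro φ
    have hsp : (Finset.univ : Finset G).erase 1 = regSet G p ∪ sing := by
      ext g
      simp [mem_regSet, sing]
      tauto
    rw [← Finset.add_sum_erase _ φ (Finset.mem_univ (1 : G)), hsp,
      Finset.sum_union (by simp [Finset.disjoint_left, mem_regSet, sing]; tauto), add_assoc]
  rw [hd, Finset.sum_eq_zero (s := regSet G p) fun g hg => by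
      rw [hreg g (mem_regSet.1 hg).1 (mem_regSet.1 hg).2]; simp,
    Finset.sum_congr rfl (s₁ := sing) (g := fun g => (Nat.card N : ℂ) * f g) fun g hg => by
      simp only [sing, Finset.mem_filter] at hg
      rw [hcount g hg.2.1 hg.2.2],
    ← Finset.mul_sum, hone] at hsum
  rw [hd f]
  congr 1
  have hN : (Nat.card (Sylow p G) : ℂ) * (Nat.card N : ℂ) = (Nat.card G : ℂ) := by
    rw [Sylow.card_eq_index_normalizer P]
    exact_mod_cast Subgroup.index_mul_card _
  have h0 : (Nat.card N : ℂ) ≠ 0 := Char.natCard_ne_zero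
  apply mul_left_cancel₀ h0
  linear_combination hsum + (∑ x ∈ sharp P, f x) * (-hN)

end CfsgLib.Block.NP
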