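import Cfsg.Agent.Lib.Block.NP.KeyArith
import Cfsg.Agent.Lib.Block.NP.KeyCount
import Cfsg.Agent.Lib.BlockB.DefectZero
import Cfsg.Agent.Lib.BlockA.Galois
import Cfsg.Agent.Lib.Char.Galois

/-!
No group of order `a³ (a + 1)² p`, `p = a² + a + 1`, with `a ≥ 5` odd has the principal block of
`PSL₃(a)`-type degrees `1, a³, a (a + 1), (a + 1)²` at a self-centralizing Sylow `p`-subgroup.
-/

set_option autoImplicit false
set_option linter.unusedSectionVars false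

namespace CfsgLib.Block.NP

open Cfsg CfsgLib CfsgLib.Block
open scoped ComplexConjugate

universe u

variable {G : Type u} [Group G] [Finite G] {p : ℕ} [hpf : Fact p.Prime]

/-- The principal block in the case `p = a² + a + 1`. -/
structure KeyData (P : Sylow p G) (a : ℕ) (χ : IrrCharacter G) (Ψ Y : Finset (IrrCharacter G)) :
    Prop where
  ha : Odd a
  ha5 : 5 ≤ a
  hp : a ^ 2 + a + 1 = p
  hP : Nat.card P = p
  hC : Subgroup.centralizer ((P : Subgroup G) : Set G) = (P : Subgroup G)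
  hN : Nat.card (Sylow p G) = a ^ 2 * (a + 1) ^ 2
  hcard : Nat.card G = a ^ 3 * (a + 1) ^ 2 * p
  card_Ψ : Ψ.card + 2 = a
  card_Y : Y.card = a + 1
  χ_deg : (χ : G → ℂ) 1 = ((a ^ 3 : ℕ) : ℂ)
  Ψ_deg : ∀ ψ ∈ Ψ, (ψ : G → ℂ) 1 = ((a * (a + 1) : ℕ) : ℂ)
  Y_deg : ∀ η ∈ Y, (η : G → ℂ) 1 = (((a + 1) ^ 2 : ℕ) : ℂ)
  χ_val : ∀ x ∈ (P : Subgroup G), x ≠ 1 → (χ : G → ℂ) x = 1
  Ψ_val : ∀ ψ ∈ Ψ, ∀ x ∈ (P : Subgroup G), x ≠ 1 → (ψ : G → ℂ) x = -1
  regular : ∀ η ∈ Y, ∀ η' ∈ Y, ∀ g : G, ¬ p ∣ orderOf g → (η : G → ℂ) g = (η' : G → ℂ) g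
  other : ∀ ξ : IrrCharacter G, (ξ : G → ℂ) ≠ (fun _ => 1) → ξ ≠ χ → ξ ∉ Ψ → ξ ∉ Y →
    ∀ x ∈ (P : Subgroup G), x ≠ 1 → (ξ : G → ℂ) x = 0

namespace KeyData

variable {P : Sylow p G} {a : ℕ} {χ : IrrCharacter G} {Ψ Y : Finset (IrrCharacter G)}
  (K : KeyData P a χ Ψ Y)
include K

/-- The trivial character. -/
noncomputable abbrev one (_K : KeyData P a χ Ψ Y) : IrrCharacter G :=
  ⟨fun _ => 1, Char.isIrrCharacter_one⟩

theorem apos : 0 < a := by have := K.ha5; omega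

theorem deg_ne : a ^ 3 ≠ 1 ∧ a * (a + 1) ≠ 1 ∧ (a + 1) ^ 2 ≠ 1 ∧ a ^ 3 ≠ a * (a + 1) ∧
    a ^ 3 ≠ (a + 1) ^ 2 ∧ a * (a + 1) ≠ (a + 1) ^ 2 := by
  have h5 := K.ha5
  have hq : 5 * a ≤ a ^ 2 := by nlinarith
  have hc : 5 * a ^ 2 ≤ a ^ 3 := by nlinarith
  refine ⟨?_, ?_, ?_, ?_, ?_, ?_⟩ <;> intro h <;> nlinarith

theorem deg_inj {ξ : IrrCharacter G} {d e : ℕ} (h1 : (ξ : G → ℂ) 1 = (d : ℂ))
    (h2 : (ξ : G → ℂ) 1 = (e : ℂ)) : d = e := by
  exact_mod_cast h1.symm.trans h2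

theorem one_deg : (K.one : G → ℂ) 1 = ((1 : ℕ) : ℂ) := by simp

theorem ne_facts : χ ≠ K.one ∧ (∀ ξ ∈ Ψ, ξ ≠ K.one ∧ ξ ≠ χ ∧ ξ ∉ Y) ∧
    (∀ ξ ∈ Y, ξ ≠ K.one ∧ ξ ≠ χ) := by
  obtain ⟨d1, d2, d3, d4, d5, d6⟩ := K.deg_ne
  refine ⟨fun h => d1 (K.deg_inj K.χ_deg (h ▸ K.one_deg)), fun ξ hξ => ⟨fun h => d2 ?_,
    fun h => d4 ?_, fun h => d6 (K.deg_inj (K.Ψ_deg ξ hξ) (K.Y_deg ξ h))⟩,
    fun ξ hξ => ⟨fun h => d3 ?_, fun h => d5 ?_⟩⟩
  · exact K.deg_inj (K.Ψ_deg ξ hξ) (h ▸ K.one_deg)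
  · exact K.deg_inj K.χ_deg (h ▸ K.Ψ_deg ξ hξ)
  · exact K.deg_inj (K.Y_deg ξ hξ) (h ▸ K.one_deg)
  · exact K.deg_inj K.χ_deg (h ▸ K.Y_deg ξ hξ)

variable [Fintype G] [Fintype (IrrCharacter G)]

/-- A sum over the irreducible characters supported on the block. -/
theorem sum_block (F : IrrCharacter G → ℂ)
    (hF : ∀ ξ : IrrCharacter G, (∀ x ∈ sharp P, (ξ : G → ℂ) x = 0) → F ξ = 0) :
    ∑ ξ, F ξ = F K.one + F χ + ∑ ψ ∈ Ψ, F ψ + ∑ η ∈ Y, F η := by
  classical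
  obtain ⟨h1, h2, h3⟩ := K.ne_facts
  rw [← Finset.sum_subset (Finset.subset_univ (insert K.one (insert χ (Ψ ∪ Y)))) fun ξ _ hξ => ?_]
  · rw [Finset.sum_insert, Finset.sum_insert, Finset.sum_union]
    · ring
    · exact Finset.disjoint_left.2 fun ξ hξ => (h2 ξ hξ).2.2
    · simp only [Finset.mem_union]
      rintro (h | h)
      exacts [(h2 χ h).2.1 rfl, (h3 χ h).2 rfl]
    · simp only [Finset.mem_insert, Finset.mem_union]
      rintro (h | h | h)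
      exacts [h1 h.symm, (h2 _ h).1 rfl, (h3 _ h).1 rfl]
  · simp only [Finset.mem_insert, Finset.mem_union, not_or] at hξ
    refine hF ξ fun x hx => K.other ξ (fun h => hξ.1 (Subtype.ext h)) hξ.2.1 hξ.2.2.1 hξ.2.2.2 x
      (mem_sharp.1 hx).1 (mem_sharp.1 hx).2

theorem χ_sharp {x : G} (hx : x ∈ sharp P) : (χ : G → ℂ) x = 1 :=
  K.χ_val x (mem_sharp.1 hx).1 (mem_sharp.1 hx).2

theorem Ψ_sharp {ψ : IrrCharacter G} (hψ : ψ ∈ Ψ) {x : G} (hx : x ∈ sharp P) :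
    (ψ : G → ℂ) x = -1 :=
  K.Ψ_val ψ hψ x (mem_sharp.1 hx).1 (mem_sharp.1 hx).2

theorem card_cen_eq {g x : G} (hgx : IsConj g x) :
    Nat.card (Subgroup.centralizer ({g} : Set G)) = Nat.card (Subgroup.centralizer ({x} : Set G)) := by
  have e := ConjClasses.mk_eq_mk_iff_isConj.mpr hgx
  have h1 := Char.natCard_carrier_mul_centralizer g
  have h2 := Char.natCard_carrier_mul_centralizer x
  rw [e] at h1
  have : Nonempty (ConjClasses.mk x).carrier := ⟨⟨x, ConjClasses.mem_carrier_mk⟩⟩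
  exact Nat.eq_of_mul_eq_mul_left Nat.card_pos (h1.trans h2.symm)

open scoped Classical in
/-- Column orthogonality with a non-trivial element of `P`. -/
theorem col (g : G) {x : G} (hx : x ∈ sharp P) :
    1 + (χ : G → ℂ) g - ∑ ψ ∈ Ψ, (ψ : G → ℂ) g + ∑ η ∈ Y, (η : G → ℂ) g * conj ((η : G → ℂ) x) =
      if IsConj g x then (p : ℂ) else 0 := by
  have h := Char.column_orthogonality g x
  rw [K.sum_block _ fun ξ hξ => by simp [hξ x hx],
    Finset.sum_congr rfl (s₁ := Ψ) (g := fun ψ : IrrCharacter G => -(ψ : G → ℂ) g) fun ψ hψ => by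
      simp [K.Ψ_sharp hψ hx]] at h
  simp only [K.χ_sharp hx, map_one, mul_one, Finset.sum_neg_distrib] at h
  rw [sub_eq_add_neg, h]
  split_ifs with hc
  · rw [card_cen_eq K hc, card_centralizer_sharp K.hP K.hC hx]
  · rfl

theorem sum_Y_sharp {x : G} (hx : x ∈ sharp P) : ∑ η ∈ Y, (η : G → ℂ) x = -1 := by
  classical
  have h := K.col 1 hx
  rw [if_neg (fun hc => (mem_sharp.1 hx).2 (isConj_one_right.1 hc)) ,
    Finset.sum_congr rfl (s₁ := Ψ) K.Ψ_deg, Finset.sum_const, nsmul_eq_mul,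
    Finset.sum_congr rfl (s₁ := Y) (g := fun η : IrrCharacter G =>
      (((a + 1) ^ 2 : ℕ) : ℂ) * conj ((η : G → ℂ) x)) fun η hη => by rw [K.Y_deg η hη],
    ← Finset.mul_sum, K.χ_deg] at h
  have hΨ : (Ψ.card : ℂ) + 2 = (a : ℂ) := by exact_mod_cast K.card_Ψ
  rw [show (Ψ.card : ℂ) = (a : ℂ) - 2 by linear_combination hΨ] at h
  push_cast at h
  have h0 : ((a : ℂ) + 1) ^ 2 ≠ 0 := pow_ne_zero _ (by exact_mod_cast Nat.succ_ne_zero a)
  have h1 : ∑ η ∈ Y, conj ((η : G → ℂ) x) = -1 := by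
    apply mul_left_cancel₀ h0
    linear_combination h
  have h2 := congrArg conj h1
  rwa [map_sum, map_neg, map_one, Finset.sum_congr rfl fun η _ => Complex.conj_conj _] at h2

theorem sum_Y_conj_sharp {x : G} (hx : x ∈ sharp P) : ∑ η ∈ Y, conj ((η : G → ℂ) x) = -1 := by
  rw [← map_sum, K.sum_Y_sharp hx, map_neg, map_one]

theorem not_conj {g x : G} (hg : g ∈ regSet G p) (hx : x ∈ sharp P) : ¬ IsConj g x := by
  intro h
  obtain ⟨s, hs⟩ := isConj_iff.1 h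
  apply (mem_regSet.1 hg).2
  rw [← orderOf_sharp K.hP hx, ← hs]
  exact dvd_of_eq (MulEquiv.orderOf_eq (MulAut.conj s) g)

theorem exists_sharp : ∃ x, x ∈ sharp P := by
  refine Finset.card_pos.1 (show 0 < (sharp P).card from ?_)
  rw [card_sharp K.hP]
  have := hpf.out.two_le
  omega

/-- The common value on regular elements. -/
theorem Y_reg {g : G} (hg : g ∈ regSet G p) {η : IrrCharacter G} (hη : η ∈ Y) :
    (η : G → ℂ) g = 1 + (χ : G → ℂ) g - ∑ ψ ∈ Ψ, (ψ : G → ℂ) g := by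
  classical
  obtain ⟨x, hx⟩ := K.exists_sharp
  have h := K.col g hx
  rw [if_neg (K.not_conj hg hx), Finset.sum_congr rfl (s₁ := Y) (g := fun η' : IrrCharacter G =>
    (η : G → ℂ) g * conj ((η' : G → ℂ) x)) fun η' hη' => by
      rw [K.regular η' hη' η hη g (mem_regSet.1 hg).2],
    ← Finset.mul_sum, K.sum_Y_conj_sharp hx] at h
  linear_combination -h

theorem comp_pow_eq {m : ℕ} (hm : m.Coprime (Nat.card G)) (g : G) :
    1 + (χ : G → ℂ) (g ^ m) - ∑ ψ ∈ Ψ, (ψ : G → ℂ) (g ^ m) =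
      1 + (χ : G → ℂ) g - ∑ ψ ∈ Ψ, (ψ : G → ℂ) g := by
  classical
  obtain ⟨d1, d2, d3, d4, d5, d6⟩ := K.deg_ne
  let T : IrrCharacter G → IrrCharacter G := fun ξ =>
    ⟨fun g => (ξ : G → ℂ) (g ^ m), BlockA.isIrrCharacter_comp_pow hm ξ.2⟩
  have hinj : Function.Injective T := fun ξ ξ' h => Subtype.ext (funext fun y => by
    obtain ⟨y', rfl⟩ := (powCoprime hm.symm).surjective y
    exact congrFun (congrArg Subtype.val h) y')
  have hT1 : ∀ ξ : IrrCharacter G, (T ξ : G → ℂ) 1 = (ξ : G → ℂ) 1 := fun ξ => by simp [T]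
  obtain ⟨x, hx⟩ := K.exists_sharp
  have hxm : x ^ m ∈ sharp P := by
    refine mem_sharp.2 ⟨pow_mem (mem_sharp.1 hx).1 m, fun h => hpf.out.not_dvd_one ?_⟩
    have h1 : p ∣ m := orderOf_sharp K.hP hx ▸ orderOf_dvd_of_pow_eq_one h
    have h2 : p ∣ Nat.card G := K.hcard ▸ Dvd.intro_left _ rfl
    exact (Nat.coprime_iff_gcd_eq_one.1 hm) ▸ Nat.dvd_gcd h1 h2
  have hclass : ∀ (d : ℕ) (ξ : IrrCharacter G), (ξ : G → ℂ) 1 = (d : ℂ) → d ≠ 1 →
      (ξ : G → ℂ) (x ^ m) ≠ 0 → T ξ = χ ∧ d = a ^ 3 ∨ T ξ ∈ Ψ ∧ d = a * (a + 1) ∨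
        T ξ ∈ Y ∧ d = (a + 1) ^ 2 := by
    intro d ξ hd hd1 hv
    have hd' : (T ξ : G → ℂ) 1 = (d : ℂ) := (hT1 ξ).trans hd
    by_cases h1 : T ξ = χ
    · exact .inl ⟨h1, K.deg_inj hd' (h1 ▸ K.χ_deg)⟩
    by_cases h2 : T ξ ∈ Ψ
    · exact .inr (.inl ⟨h2, K.deg_inj hd' (K.Ψ_deg _ h2)⟩)
    by_cases h3 : T ξ ∈ Y
    · exact .inr (.inr ⟨h3, K.deg_inj hd' (K.Y_deg _ h3)⟩)
    refine absurd (K.other (T ξ) (fun h => hd1 ?_) h1 h2 h3 x (mem_sharp.1 hx).1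
      (mem_sharp.1 hx).2) hv
    exact K.deg_inj hd' (by rw [h]; simp)
  have hχ : T χ = χ := by
    rcases hclass _ χ K.χ_deg d1 (by rw [K.χ_sharp hxm]; exact one_ne_zero) with h | h | h
    exacts [h.1, absurd h.2 d4, absurd h.2 d5]
  have hΨ : Ψ.image T = Ψ := by
    refine Finset.eq_of_subset_of_card_le ?_ (by rw [Finset.card_image_of_injective _ hinj])
    intro ξ hξ
    obtain ⟨ψ, hψ, rfl⟩ := Finset.mem_image.1 hξ
    rcases hclass _ ψ (K.Ψ_deg ψ hψ) d2 (by rw [K.Ψ_sharp hψ hxm]; norm_num) with h | h | h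
    exacts [absurd h.2 d4.symm, h.1, absurd h.2 d6]
  have h1 : (χ : G → ℂ) (g ^ m) = (χ : G → ℂ) g := congrFun (congrArg Subtype.val hχ) g
  rw [h1]
  congr 1
  conv_rhs => rw [← hΨ, Finset.sum_image hinj.injOn]

theorem exists_int {g : G} (hg : g ∈ regSet G p) {η : IrrCharacter G} (hη : η ∈ Y) :
    ∃ z : ℤ, (η : G → ℂ) g = (z : ℂ) := by
  have hch := Char.irr_isCharacter η.2
  obtain ⟨q, hq⟩ := Char.exists_rat_of_emb_fixed (Char.charVal hch g) fun ψ => by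
    obtain ⟨m, hm, hψ⟩ := Char.exists_pow_of_emb (Nat.card_pos (α := G)) ψ
    rw [Char.emb_charVal hch ψ hψ g]
    have hgm : g ^ m ∈ regSet G p := by
      obtain ⟨hg1, hg2⟩ := mem_regSet.1 hg
      have ho : orderOf (g ^ m) = orderOf g :=
        Nat.Coprime.orderOf_pow ((hm.coprime_dvd_right (orderOf_dvd_natCard g)).symm)
      exact mem_regSet.2 ⟨fun h => hg1 (orderOf_eq_one_iff.1 (ho ▸ orderOf_eq_one_iff.2 h)),
        ho ▸ hg2⟩
    change (η : G → ℂ) (g ^ m) = (η : G → ℂ) g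
    rw [K.Y_reg hgm hη, K.Y_reg hg hη, K.comp_pow_eq hm g]
  obtain ⟨z, hz⟩ := Char.exists_int_of_isIntegral_rat (q := q) (by
    rw [← hq]; exact BlockB.irr_isIntegral η g)
  refine ⟨z, ?_⟩
  rw [show (η : G → ℂ) g = (q : ℂ) from hq, hz, Rat.cast_intCast]

theorem Y_nonempty : Y.Nonempty := Finset.card_pos.1 (by rw [K.card_Y]; omega)

/-- The common integer value of the `η` on regular elements. -/
theorem exists_hval : ∃ h : G → ℤ, ∀ g ∈ regSet G p, ∀ η ∈ Y, (η : G → ℂ) g = (h g : ℂ) := by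
  classical
  obtain ⟨η₀, hη₀⟩ := K.Y_nonempty
  refine ⟨fun g => if hg : g ∈ regSet G p then (K.exists_int hg hη₀).choose else 0,
    fun g hg η hη => ?_⟩
  simp only [dif_pos hg]
  rw [K.regular η hη η₀ hη₀ g (mem_regSet.1 hg).2]
  exact (K.exists_int hg hη₀).choose_spec

theorem card_sharp_cast : (((sharp P).card : ℕ) : ℂ) = (a : ℂ) * ((a : ℂ) + 1) := by
  rw [card_sharp K.hP, ← K.hp, Nat.add_sub_cancel]
  push_cast
  ring

theorem p_cast : (p : ℂ) = (a : ℂ) ^ 2 + a + 1 := by rw [← K.hp]; push_cast; ring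

theorem N_cast : (Nat.card (Sylow p G) : ℂ) = (a : ℂ) ^ 2 * ((a : ℂ) + 1) ^ 2 := by
  rw [K.hN]; push_cast; ring

theorem G_cast : (Nat.card G : ℂ) = (a : ℂ) ^ 3 * ((a : ℂ) + 1) ^ 2 * p := by
  rw [K.hcard]; push_cast; ring

theorem a1_ne : (a : ℂ) + 1 ≠ 0 := by exact_mod_cast Nat.succ_ne_zero a

theorem a_ne : (a : ℂ) ≠ 0 := by exact_mod_cast K.apos.ne'

section Moments

variable {h : G → ℤ} (hh : ∀ g ∈ regSet G p, ∀ η ∈ Y, (η : G → ℂ) g = (h g : ℂ))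
include hh

theorem split_Y {η : IrrCharacter G} (hη : η ∈ Y) :
    ((a : ℂ) + 1) ^ 2 + ∑ g ∈ regSet G p, (h g : ℂ) +
      (a : ℂ) ^ 2 * ((a : ℂ) + 1) ^ 2 * ∑ x ∈ sharp P, (η : G → ℂ) x = 0 := by
  have h0 : Cfsg.classInner (η : G → ℂ) (K.one : G → ℂ) = 0 :=
    Char.irr_classInner_ne η.2 Char.isIrrCharacter_one
      fun he => (K.ne_facts.2.2 η hη).1 (Subtype.ext he)
  rw [Char.classInner_def, mul_eq_zero, or_iff_right (inv_ne_zero Char.natCard_ne_zero)] at h0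
  simp only [map_one, mul_one] at h0
  rw [sum_split K.hP K.hC _ (Char.irr_isClassFunction η.2), K.N_cast, K.Y_deg η hη,
    Finset.sum_congr rfl fun g hg => hh g hg η hη] at h0
  push_cast at h0
  exact h0

theorem sum_sharp_Y {η : IrrCharacter G} (hη : η ∈ Y) :
    ∑ x ∈ sharp P, (η : G → ℂ) x = -(a : ℂ) := by
  have h1 : ∀ η' ∈ Y, ∑ x ∈ sharp P, (η' : G → ℂ) x = ∑ x ∈ sharp P, (η : G → ℂ) x := by
    intro η' hη'
    refine mul_left_cancel₀ (mul_ne_zero (pow_ne_zero 2 K.a_ne) (pow_ne_zero 2 K.a1_ne)) ?_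
    linear_combination K.split_Y hh hη' - K.split_Y hh hη
  have h2 : ∑ η' ∈ Y, ∑ x ∈ sharp P, (η' : G → ℂ) x = -((a : ℂ) * ((a : ℂ) + 1)) := by
    rw [Finset.sum_comm, Finset.sum_congr rfl fun x hx => K.sum_Y_sharp hx, Finset.sum_const,
      nsmul_eq_mul, K.card_sharp_cast]
    ring
  rw [Finset.sum_congr rfl h1, Finset.sum_const, nsmul_eq_mul, K.card_Y] at h2
  push_cast at h2
  exact mul_left_cancel₀ K.a1_ne (by linear_combination h2)

theorem sum_h : ∑ g ∈ regSet G p, (h g : ℂ) = ((a : ℂ) + 1) ^ 2 * ((a : ℂ) ^ 3 - 1) := by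
  obtain ⟨η, hη⟩ := K.Y_nonempty
  have := K.split_Y hh hη
  rw [K.sum_sharp_Y hh hη] at this
  linear_combination this

open scoped Classical in
/-- Each class meets `P` in `a` non-trivial elements. -/
theorem card_fusion {z : G} (hz : z ∈ sharp P) :
    ((sharp P).filter fun x => IsConj z x).card = a := by
  have h1 := Finset.sum_congr rfl (s₁ := sharp P) fun x hx => K.col z hx
  rw [← Finset.sum_filter, Finset.sum_const, nsmul_eq_mul] at h1
  simp only [K.χ_sharp hz, Finset.sum_congr rfl (s₁ := Ψ) fun ψ hψ => K.Ψ_sharp hψ hz] at h1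
  rw [Finset.sum_add_distrib, Finset.sum_const, Finset.sum_comm,
    Finset.sum_congr rfl (s₁ := Y) (g := fun η : IrrCharacter G => (η : G → ℂ) z * -(a : ℂ))
      fun η hη => by
        rw [← Finset.mul_sum, ← map_sum, K.sum_sharp_Y hh hη, map_neg, Complex.conj_natCast],
    ← Finset.sum_mul, K.sum_Y_sharp hz, Finset.sum_const, nsmul_eq_mul, nsmul_eq_mul,
    K.card_sharp_cast] at h1
  have hΨ : (Ψ.card : ℂ) + 2 = (a : ℂ) := by exact_mod_cast K.card_Ψ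
  have hp0 : (p : ℂ) ≠ 0 := by exact_mod_cast hpf.out.ne_zero
  have : (((sharp P).filter fun x => IsConj z x).card : ℂ) = (a : ℂ) := by
    apply mul_right_cancel₀ hp0
    linear_combination -h1 + (a : ℂ) * ((a : ℂ) + 1) * hΨ - (a : ℂ) * K.p_cast
  exact_mod_cast this

theorem exists_not_conj {z : G} (hz : z ∈ sharp P) : ∃ x ∈ sharp P, ¬ IsConj z x := by
  classical
  by_contra hc
  push_neg at hc
  have h1 := K.card_fusion hh hz
  rw [Finset.filter_true_of_mem hc, card_sharp K.hP, ← K.hp] at h1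
  have := K.ha5
  have : a ^ 2 + a + 1 - 1 = a ^ 2 + a := by omega
  nlinarith

theorem sum_h_sq : ∑ g ∈ regSet G p, (h g : ℂ) ^ 2 =
    ((a : ℂ) + 1) ^ 2 * (p : ℂ) * ((a : ℂ) ^ 2 - a - 1) := by
  have hsplit : ∀ η ∈ Y, ((a : ℂ) + 1) ^ 4 + ∑ g ∈ regSet G p, (h g : ℂ) ^ 2 +
      (a : ℂ) ^ 2 * ((a : ℂ) + 1) ^ 2 * ∑ x ∈ sharp P, (η : G → ℂ) x * conj ((η : G → ℂ) x) =
        (Nat.card G : ℂ) := by
    intro η hη
    have h0 := Char.irr_classInner_self η.2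
    rw [Char.classInner_def, inv_mul_eq_iff_eq_mul₀ Char.natCard_ne_zero, mul_one,
      sum_split K.hP K.hC _ (fun u v => by simp only [Char.irr_isClassFunction η.2 u v]),
      K.N_cast, K.Y_deg η hη, Finset.sum_congr rfl (s₁ := regSet G p)
        (g := fun g => (h g : ℂ) ^ 2) fun g hg => by
          rw [hh g hg η hη, map_intCast, sq]] at h0
    rw [Complex.conj_natCast] at h0
    push_cast at h0 ⊢
    linear_combination h0
  have hcol : ∀ z ∈ sharp P, ∑ η ∈ Y, (η : G → ℂ) z * conj ((η : G → ℂ) z) =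
      (p : ℂ) - a := by
    intro z hz
    have h1 := K.col z hz
    rw [if_pos (IsConj.refl z), K.χ_sharp hz, Finset.sum_congr rfl (s₁ := Ψ) fun ψ hψ =>
      K.Ψ_sharp hψ hz, Finset.sum_const, nsmul_eq_mul] at h1
    have hΨ : (Ψ.card : ℂ) + 2 = (a : ℂ) := by exact_mod_cast K.card_Ψ
    linear_combination h1 - hΨ
  have hswap : ∑ η ∈ Y, ∑ x ∈ sharp P, (η : G → ℂ) x * conj ((η : G → ℂ) x) =
      (a : ℂ) * ((a : ℂ) + 1) * ((p : ℂ) - a) := by
    rw [Finset.sum_comm, Finset.sum_congr rfl hcol, Finset.sum_const, nsmul_eq_mul,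
      K.card_sharp_cast]
  have htot := Finset.sum_congr rfl (s₁ := Y) hsplit
  simp only [Finset.sum_add_distrib, ← Finset.mul_sum, Finset.sum_const, nsmul_eq_mul,
    K.card_Y] at htot
  rw [hswap, K.G_cast] at htot
  push_cast at htot
  apply mul_left_cancel₀ K.a1_ne
  linear_combination htot - ((a : ℂ) + 1) ^ 3 * ((a : ℂ) ^ 2 - a - 1) * K.p_cast

/-- The third moment. -/
theorem sum_h_cube : ∃ k : ℤ, ∑ g ∈ regSet G p, (h g : ℂ) ^ 3 =
    ((a : ℂ) + 1) ^ 2 * (p : ℂ) *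
      ((k : ℂ) * (a : ℂ) ^ 3 - ((a : ℂ) + 1) * (2 * (a : ℂ) + 1)) := by
  classical
  obtain ⟨η, hη⟩ := K.Y_nonempty
  have hch := Char.irr_isCharacter η.2
  have hcub := Char.isCharacter_mul (Char.isCharacter_mul hch hch) hch
  have hcf : IsClassFunction G ((η : G → ℂ) * (η : G → ℂ) * (η : G → ℂ)) :=
    fun u v => by simp only [Pi.mul_apply, Char.irr_isClassFunction η.2 u v]
  obtain ⟨M₀, hM₀⟩ := Char.classInner_isCharacter_nat hcub Char.isCharacter_one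
  rw [Char.classInner_def, inv_mul_eq_iff_eq_mul₀ Char.natCard_ne_zero] at hM₀
  simp only [map_one, mul_one] at hM₀
  rw [sum_split K.hP K.hC _ hcf, K.N_cast, K.G_cast] at hM₀
  simp only [Pi.mul_apply] at hM₀
  rw [K.Y_deg η hη, Finset.sum_congr rfl (s₁ := regSet G p) (g := fun g => (h g : ℂ) ^ 3)
    fun g hg => by rw [hh g hg η hη]; ring] at hM₀
  have := Fintype.ofFinite (P : Subgroup G)
  obtain ⟨M₁, hM₁⟩ := Char.classInner_isCharacter_nat
    (Char.isCharacter_restrict hcub (P : Subgroup G)) (Char.isCharacter_one (G := (P : Subgroup G)))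
  rw [Char.classInner_def, inv_mul_eq_iff_eq_mul₀ Char.natCard_ne_zero, K.hP] at hM₁
  simp only [map_one, mul_one] at hM₁
  rw [sum_subgroup (P := P) fun x => ((η : G → ℂ) * (η : G → ℂ) * (η : G → ℂ)) x] at hM₁
  simp only [Pi.mul_apply] at hM₁
  rw [K.Y_deg η hη] at hM₁
  set S := ∑ x ∈ sharp P, (η : G → ℂ) x * (η : G → ℂ) x * (η : G → ℂ) x with hS
  set rest := (sharp P).image ConjClasses.mk with hrest
  have hfib : ∀ C ∈ rest, ∃ z : ℂ, IsIntegral ℤ z ∧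
      (∑ x ∈ (sharp P).filter fun x => ConjClasses.mk x = C,
        (η : G → ℂ) x * (η : G → ℂ) x * (η : G → ℂ) x) = (a : ℂ) * z := by
    intro C hC
    obtain ⟨z, hz, rfl⟩ := Finset.mem_image.1 hC
    refine ⟨(η : G → ℂ) z * (η : G → ℂ) z * (η : G → ℂ) z,
      ((BlockB.irr_isIntegral η z).mul (BlockB.irr_isIntegral η z)).mul
        (BlockB.irr_isIntegral η z), ?_⟩
    rw [Finset.sum_congr rfl (g := fun _ => (η : G → ℂ) z * (η : G → ℂ) z * (η : G → ℂ) z)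
      fun x hx => by
        rw [Char.isClassFunction_isConj (Char.irr_isClassFunction η.2)
          (ConjClasses.mk_eq_mk_iff_isConj.1 (Finset.mem_filter.1 hx).2)],
      Finset.sum_const, nsmul_eq_mul]
    congr 2
    rw [show ((sharp P).filter fun x => ConjClasses.mk x = ConjClasses.mk z) =
      (sharp P).filter fun x => IsConj z x from Finset.filter_congr fun x _ => by
        rw [ConjClasses.mk_eq_mk_iff_isConj, isConj_comm], K.card_fusion hh hz]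
  choose! z hzi hze using hfib
  have hSa : S = (a : ℂ) * ∑ C ∈ rest, z C := by
    rw [hS, ← Finset.sum_fiberwise_of_maps_to (g := ConjClasses.mk) (t := rest)
      (fun x hx => Finset.mem_image_of_mem _ hx), Finset.mul_sum]
    exact Finset.sum_congr rfl hze
  obtain ⟨J, hJ⟩ : ∃ J : ℤ, ((((a + 1) ^ 2 : ℕ) : ℂ) ^ 3) - (p : ℂ) * M₁ = (a : ℂ) * J := by
    have hq : ∑ C ∈ rest, z C =
        ((((p : ℚ) * M₁ - (((a + 1) ^ 2 : ℕ) : ℚ) ^ 3) / a : ℚ) : ℂ) := by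
      push_cast
      rw [eq_div_iff K.a_ne, mul_comm, ← hSa]
      push_cast at hM₁
      linear_combination hM₁
    obtain ⟨J, hJ⟩ := Char.exists_int_of_isIntegral_rat
      (by rw [← hq]; exact IsIntegral.sum _ hzi)
    refine ⟨-J, ?_⟩
    rw [hJ] at hq
    rw [hq] at hSa
    push_cast at hSa hM₁ ⊢
    linear_combination hM₁ - hSa
  -- `M₁ ≡ 1` modulo `a`
  obtain ⟨L, hL⟩ : ∃ L : ℤ, (M₁ : ℤ) = 1 + a * L := by
    have hJ' : ((a : ℤ) + 1) ^ 6 - ((a : ℤ) ^ 2 + a + 1) * M₁ = a * J := by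
      have h1 : ((((a : ℤ) + 1) ^ 6 - ((a : ℤ) ^ 2 + a + 1) * M₁ : ℤ) : ℂ) =
          (((a : ℤ) * J : ℤ) : ℂ) := by
        push_cast at hJ ⊢
        rw [K.p_cast] at hJ
        linear_combination hJ
      exact_mod_cast h1
    exact ⟨-J + (a : ℤ) ^ 5 + 6 * (a : ℤ) ^ 4 + 15 * (a : ℤ) ^ 3 + 20 * (a : ℤ) ^ 2 + 15 * a + 6
      - ((a : ℤ) + 1) * M₁, by linear_combination -hJ'⟩
  refine ⟨(M₀ : ℤ) - L + ((a : ℤ) ^ 3 + 5 * (a : ℤ) ^ 2 + 9 * a + 6), ?_⟩
  have hL' : (M₁ : ℂ) = 1 + (a : ℂ) * L := by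
    have : (((M₁ : ℕ) : ℤ) : ℂ) = ((1 + (a : ℤ) * L : ℤ) : ℂ) := by rw [hL]
    push_cast at this
    exact this
  rw [hL'] at hM₁
  push_cast at hM₀ hM₁ ⊢
  linear_combination hM₀ - (a : ℂ) ^ 2 * ((a : ℂ) + 1) ^ 2 * hM₁
    - ((a : ℂ) + 1) ^ 6 * ((a : ℂ) ^ 2 + a - 1) * K.p_cast

theorem χ_eq_zero {g : G} (hg : g ∈ regSet G p) (hne : h g ≠ 0) : (χ : G → ℂ) g = 0 := by
  obtain ⟨hg1, hgp⟩ := mem_regSet.1 hg
  obtain ⟨r, hr, hrg⟩ := Nat.exists_prime_and_dvd (mt orderOf_eq_one_iff.1 hg1)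
  have : Fact r.Prime := ⟨hr⟩
  have hrG : r ∣ Nat.card G := hrg.trans (orderOf_dvd_natCard g)
  have hrp : r ≠ p := fun he => hgp (he ▸ hrg)
  have hrp' : ¬ r ∣ p := fun hd => hrp ((Nat.prime_dvd_prime_iff_eq hr hpf.out).1 hd)
  have hrat : ¬ (r ∣ a ∧ r ∣ a + 1) := fun ⟨h1, h2⟩ =>
    hr.not_dvd_one ((Nat.dvd_add_right h1).1 h2)
  have hpow : r ^ (Nat.card G).factorization r ∣ a ^ 3 * (a + 1) ^ 2 * p :=
    K.hcard ▸ Nat.ordProj_dvd _ _
  have hcp := (hr.coprime_iff_not_dvd.2 hrp').pow_left ((Nat.card G).factorization r)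
  have hpow2 := hcp.dvd_of_dvd_mul_right hpow
  by_cases hra : r ∣ a
  · refine BlockB.irr_apply_eq_zero_of_defect_zero χ ?_ hrg
    have hcd : Cfsg.charDegree (χ : G → ℂ) = a ^ 3 := by
      exact_mod_cast (BlockB.irr_degree_cast χ).trans K.χ_deg
    rw [hcd]
    exact ((hr.coprime_iff_not_dvd.2 fun hd => hrat ⟨hra, hr.dvd_of_dvd_pow hd⟩).pow_left
      _).dvd_of_dvd_mul_right hpow2
  · exfalso
    obtain ⟨η, hη⟩ := K.Y_nonempty
    have hcd : Cfsg.charDegree (η : G → ℂ) = (a + 1) ^ 2 := by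
      exact_mod_cast (BlockB.irr_degree_cast η).trans (K.Y_deg η hη)
    have h0 := BlockB.irr_apply_eq_zero_of_defect_zero η (p := r) (by
      rw [hcd]
      exact ((hr.coprime_iff_not_dvd.2 fun hd => hra (hr.dvd_of_dvd_pow hd)).pow_left
        _).dvd_of_dvd_mul_left hpow2) hrg
    rw [hh g hg η hη] at h0
    exact hne (by exact_mod_cast h0)

theorem sum_Ψ_reg {g : G} (hg : g ∈ regSet G p) (hne : h g ≠ 0) :
    ∑ ψ ∈ Ψ, (ψ : G → ℂ) g = 1 - (h g : ℂ) := by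
  obtain ⟨η, hη⟩ := K.Y_nonempty
  have := K.Y_reg hg hη
  rw [hh g hg η hη, K.χ_eq_zero hh hg hne] at this
  linear_combination this

open scoped Classical in
theorem card_mulSet_sharp {g : G} (hg : g ∈ regSet G p) (hne : h g ≠ 0) {z x : G}
    (hz : z ∈ sharp P) (hx : x ∈ sharp P) :
    ((mulSet g z x).card : ℤ) = (a : ℤ) ^ 2 * p * ((a : ℤ) + 1 - h g) +
      (if IsConj z x then (a : ℤ) ^ 3 * p * h g else 0) := by
  have hf := card_mulSet g z x
  rw [card_centralizer_sharp K.hP K.hC hx, K.sum_block _ fun ξ hξ => by simp [hξ z hz]] at hf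
  have hcolz := K.col z hx
  rw [K.χ_sharp hz, Finset.sum_congr rfl (s₁ := Ψ) fun ψ hψ => K.Ψ_sharp hψ hz, Finset.sum_const,
    nsmul_eq_mul] at hcolz
  have hY : ∑ η ∈ Y, (η : G → ℂ) g * (η : G → ℂ) z * conj ((η : G → ℂ) x) / (η : G → ℂ) 1 =
      (h g : ℂ) / ((a : ℂ) + 1) ^ 2 * ∑ η ∈ Y, (η : G → ℂ) z * conj ((η : G → ℂ) x) := by
    rw [Finset.mul_sum]
    refine Finset.sum_congr rfl fun η hη => ?_
    rw [hh g hg η hη, K.Y_deg η hη]
    push_cast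
    ring
  have hΨs : ∑ ψ ∈ Ψ, (ψ : G → ℂ) g * (ψ : G → ℂ) z * conj ((ψ : G → ℂ) x) / (ψ : G → ℂ) 1 =
      (1 - (h g : ℂ)) / ((a : ℂ) * ((a : ℂ) + 1)) := by
    rw [← K.sum_Ψ_reg hh hg hne, Finset.sum_div]
    refine Finset.sum_congr rfl fun ψ hψ => ?_
    rw [K.Ψ_sharp hψ hz, K.Ψ_sharp hψ hx, K.Ψ_deg ψ hψ, map_neg, map_one]
    push_cast
    ring
  rw [hY, hΨs, K.χ_eq_zero hh hg hne] at hf
  simp only [map_one, mul_one, div_one, zero_mul, zero_div, add_zero] at hf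
  have hΨc : (Ψ.card : ℂ) + 2 = (a : ℂ) := by exact_mod_cast K.card_Ψ
  have hp0 : (p : ℂ) ≠ 0 := by exact_mod_cast hpf.out.ne_zero
  have hYv : ∑ η ∈ Y, (η : G → ℂ) z * conj ((η : G → ℂ) x) =
      (if IsConj z x then (p : ℂ) else 0) - (a : ℂ) := by
    linear_combination hcolz - hΨc
  rw [hYv, K.G_cast] at hf
  have ha0 := K.a_ne
  have ha1 := K.a1_ne
  suffices hC' : (((mulSet g z x).card : ℤ) : ℂ) = (((a : ℤ) ^ 2 * p * ((a : ℤ) + 1 - h g) +
      (if IsConj z x then (a : ℤ) ^ 3 * p * h g else 0) : ℤ) : ℂ) from Int.cast_injective hC'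
  apply mul_right_cancel₀ hp0
  split_ifs with hc
  · rw [if_pos hc] at hf
    push_cast
    rw [hf]
    field_simp
    rw [K.p_cast]
    ring
  · rw [if_neg hc] at hf
    push_cast
    rw [hf]
    field_simp
    rw [K.p_cast]
    ring

theorem abs_h_le {g : G} (hg : g ∈ regSet G p) : |h g| ≤ (a : ℤ) := by
  classical
  by_cases hne : h g = 0
  · rw [hne, abs_zero]; positivity
  obtain ⟨z, hz⟩ := K.exists_sharp
  have hf := card_mulSet g g⁻¹ z
  rw [card_centralizer_sharp K.hP K.hC hz, K.sum_block _ fun ξ hξ => by simp [hξ z hz]] at hf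
  set Q : ℝ := ∑ ψ ∈ Ψ, Complex.normSq ((ψ : G → ℂ) g) with hQ
  have hΨs : ∑ ψ ∈ Ψ, (ψ : G → ℂ) g * (ψ : G → ℂ) g⁻¹ * conj ((ψ : G → ℂ) z) / (ψ : G → ℂ) 1 =
      -(Q : ℂ) / ((a : ℂ) * ((a : ℂ) + 1)) := by
    rw [hQ, Complex.ofReal_sum, ← Finset.sum_neg_distrib, Finset.sum_div]
    refine Finset.sum_congr rfl fun ψ hψ => ?_
    rw [Char.char_inv (Char.irr_isCharacter ψ.2), K.Ψ_sharp hψ hz, K.Ψ_deg ψ hψ, map_neg, map_one,
      Complex.mul_conj]
    push_cast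
    ring
  have hY : ∑ η ∈ Y, (η : G → ℂ) g * (η : G → ℂ) g⁻¹ * conj ((η : G → ℂ) z) / (η : G → ℂ) 1 =
      -((h g : ℂ) ^ 2) / ((a : ℂ) + 1) ^ 2 := by
    rw [show -((h g : ℂ) ^ 2) / ((a : ℂ) + 1) ^ 2 =
      ((h g : ℂ) ^ 2) / ((a : ℂ) + 1) ^ 2 * ∑ η ∈ Y, conj ((η : G → ℂ) z) by
        rw [K.sum_Y_conj_sharp hz]; ring, Finset.mul_sum]
    refine Finset.sum_congr rfl fun η hη => ?_
    rw [Char.char_inv (Char.irr_isCharacter η.2), hh g hg η hη, K.Y_deg η hη, map_intCast]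
    push_cast
    ring
  rw [hΨs, hY, K.χ_eq_zero hh hg hne, K.G_cast] at hf
  simp only [map_one, mul_one, div_one, zero_mul, zero_div, add_zero] at hf
  have hp0 : (p : ℂ) ≠ 0 := by exact_mod_cast hpf.out.ne_zero
  have ha0 := K.a_ne
  have ha1 := K.a1_ne
  have hC' : (((mulSet g g⁻¹ z).card : ℝ) : ℂ) = (((a : ℝ) ^ 3 * ((a : ℝ) + 1) ^ 2 -
      (a : ℝ) ^ 2 * ((a : ℝ) + 1) * Q - (a : ℝ) ^ 3 * (h g : ℝ) ^ 2 : ℝ) : ℂ) := by
    apply mul_right_cancel₀ hp0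
    push_cast
    rw [hf]
    field_simp
    ring
  have hR := Complex.ofReal_injective hC'
  have hnn : (0 : ℝ) ≤ ((mulSet g g⁻¹ z).card : ℝ) := Nat.cast_nonneg _
  have hQ0 : 0 ≤ Q := Finset.sum_nonneg fun _ _ => Complex.normSq_nonneg _
  have hapos : (0 : ℝ) < a := by exact_mod_cast K.apos
  have ha3 : (0 : ℝ) < (a : ℝ) ^ 3 := by positivity
  have hsq : (h g : ℝ) ^ 2 ≤ ((a : ℝ) + 1) ^ 2 := by
    refine le_of_mul_le_mul_left ?_ ha3
    nlinarith [mul_nonneg (mul_nonneg (sq_nonneg (a : ℝ)) (show (0 : ℝ) ≤ (a : ℝ) + 1 by positivity))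
      hQ0]
  have hsqZ : (h g) ^ 2 ≤ ((a : ℤ) + 1) ^ 2 := by exact_mod_cast hsq
  have habs : |h g| ≤ (a : ℤ) + 1 := abs_le_of_sq_le_sq hsqZ (by positivity)
  rcases lt_or_eq_of_le habs with hl | he
  · omega
  exfalso
  have he2 : (h g : ℝ) ^ 2 = ((a : ℝ) + 1) ^ 2 := by
    have : (h g) ^ 2 = ((a : ℤ) + 1) ^ 2 := by rw [← sq_abs (h g), he]
    exact_mod_cast this
  have hQz : Q = 0 := by
    refine le_antisymm ?_ hQ0
    refine le_of_mul_le_mul_left (a := (a : ℝ) ^ 2 * ((a : ℝ) + 1)) ?_ (by positivity)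
    nlinarith
  have hψ0 := (Finset.sum_eq_zero_iff_of_nonneg fun _ _ => Complex.normSq_nonneg _).1 hQz
  have h1 := K.sum_Ψ_reg hh hg hne
  rw [Finset.sum_eq_zero fun ψ hψ => Complex.normSq_eq_zero.1 (hψ0 ψ hψ)] at h1
  have h2 : h g = 1 := by exact_mod_cast (show (h g : ℂ) = 1 by linear_combination h1)
  have := K.ha5
  rw [h2, abs_one] at he
  omega

theorem centralizer_dvd {g : G} (hg : g ∈ regSet G p) (hne : h g ≠ 0) :
    (Nat.card (Subgroup.centralizer ({g} : Set G)) : ℤ) ∣ (a : ℤ) ^ 2 * ((a : ℤ) + 1 - h g) ∧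
    (Nat.card (Subgroup.centralizer ({g} : Set G)) : ℤ) ∣ (a : ℤ) ^ 3 * h g := by
  classical
  obtain ⟨z, hz⟩ := K.exists_sharp
  obtain ⟨x, hx, hzx⟩ := K.exists_not_conj hh hz
  set c := Nat.card (Subgroup.centralizer ({g} : Set G)) with hc
  have hnp : ¬ p ∣ c := by
    intro hd
    obtain ⟨y, hy⟩ := exists_prime_orderOf_dvd_card' p hd
    rw [← Subgroup.orderOf_coe] at hy
    obtain ⟨s, hs, hs1⟩ := BrauerReynolds.exists_conj_mem K.hP K.hC (g := (y : G)) (dvd_of_eq hy.symm)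
    have hcomm : Commute (s⁻¹ * (y : G) * s) (s⁻¹ * g * s) := by
      have : Commute (y : G) g := (Subgroup.mem_centralizer_singleton_iff.1 y.2)
      have := this.map (MulAut.conj s⁻¹)
      simpa using this
    have hgP := BrauerReynolds.eq_one_of_commute K.hP K.hC hs hs1 hcomm
    have hgs : s⁻¹ * g * s ∈ sharp P := mem_sharp.2 ⟨hgP, fun h1 => (mem_regSet.1 hg).1 (by
      have := congrArg (fun y => s * y * s⁻¹) h1
      simpa [mul_assoc] using this)⟩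
    exact K.not_conj hg hgs (isConj_iff.2 ⟨s⁻¹, by simp⟩)
  have hcop : IsCoprime (c : ℤ) (p : ℤ) :=
    Nat.isCoprime_iff_coprime.2 ((hpf.out.coprime_iff_not_dvd.2 hnp).symm)
  have h1 : (c : ℤ) ∣ (a : ℤ) ^ 2 * p * ((a : ℤ) + 1 - h g) := by
    have := Int.natCast_dvd_natCast.2 (centralizer_dvd_mulSet g z x)
    rwa [K.card_mulSet_sharp hh hg hne hz hx, if_neg hzx, add_zero] at this
  have h2 : (c : ℤ) ∣ (a : ℤ) ^ 3 * p * h g := by
    have := Int.natCast_dvd_natCast.2 (centralizer_dvd_mulSet g z z)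
    rw [K.card_mulSet_sharp hh hg hne hz hz, if_pos (IsConj.refl z)] at this
    exact (dvd_add_right h1).1 this
  rw [show (a : ℤ) ^ 2 * p * ((a : ℤ) + 1 - h g) = (a : ℤ) ^ 2 * ((a : ℤ) + 1 - h g) * p by ring]
    at h1
  rw [show (a : ℤ) ^ 3 * p * h g = (a : ℤ) ^ 3 * h g * p by ring] at h2
  exact ⟨hcop.dvd_of_dvd_mul_right h1, hcop.dvd_of_dvd_mul_right h2⟩

theorem class_mul {g : G} : (Nat.card (ConjClasses.mk g).carrier : ℤ) *
    (Nat.card (Subgroup.centralizer ({g} : Set G)) : ℤ) =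
      (a : ℤ) ^ 3 * ((a : ℤ) + 1) ^ 2 * p := by
  have := congrArg (fun n : ℕ => (n : ℤ))
    ((Char.natCard_carrier_mul_centralizer g).trans K.hcard)
  push_cast at this
  exact this

open scoped Classical in
theorem filter_class {g : G} (hg : g ∈ regSet G p) :
    ((regSet G p).filter fun x => ConjClasses.mk x = ConjClasses.mk g).card =
        Nat.card (ConjClasses.mk g).carrier ∧
      ∀ x ∈ regSet G p, ConjClasses.mk x = ConjClasses.mk g → h x = h g := by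
  obtain ⟨η, hη⟩ := K.Y_nonempty
  refine ⟨?_, fun x hx hxg => ?_⟩
  · rw [Nat.card_eq_fintype_card, Fintype.card_subtype]
    congr 1
    ext x
    simp only [Finset.mem_filter, Finset.mem_univ, true_and, ConjClasses.mem_carrier_iff_mk_eq,
      and_iff_right_iff_imp]
    intro hxg
    obtain ⟨s, hs⟩ := isConj_iff.1 (ConjClasses.mk_eq_mk_iff_isConj.1 hxg.symm)
    obtain ⟨hg1, hgp⟩ := mem_regSet.1 hg
    subst hs
    refine mem_regSet.2 ⟨fun h1 => hg1 (conj_eq_one_iff.1 h1), ?_⟩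
    rwa [show orderOf (s * g * s⁻¹) = orderOf g from MulEquiv.orderOf_eq (MulAut.conj s) g]
  · have := Char.isClassFunction_isConj (Char.irr_isClassFunction η.2)
      (ConjClasses.mk_eq_mk_iff_isConj.1 hxg)
    rw [hh x hx η hη, hh g hg η hη] at this
    exact_mod_cast this

end Moments

/-- There is no group with this principal block. -/
theorem false : False := by
  classical
  obtain ⟨h, hh⟩ := K.exists_hval
  obtain ⟨k, hk⟩ := K.sum_h_cube hh
  set D : ℤ := ((a : ℤ) + 1) ^ 2 * p with hD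
  have hDpos : 0 < D := by
    have := hpf.out.pos
    positivity
  have h2 : ∑ g ∈ regSet G p, h g ^ 2 = D * ((a : ℤ) ^ 2 - a - 1) := by
    apply Int.cast_injective (α := ℂ)
    push_cast [hD]
    exact K.sum_h_sq hh
  have h3 : ∑ g ∈ regSet G p, h g ^ 3 =
      D * (k * (a : ℤ) ^ 3 - ((a : ℤ) + 1) * (2 * (a : ℤ) + 1)) := by
    apply Int.cast_injective (α := ℂ)
    push_cast [hD]
    exact hk
  refine keyArith (regSet G p) h (a : ℤ) D k (by exact_mod_cast K.ha) (by exact_mod_cast K.ha5)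
    hDpos h2 h3 ?_ (fun g hg => K.abs_h_le hh hg) ?_
  · rw [← Finset.sum_fiberwise_of_maps_to (g := ConjClasses.mk)
      (t := (regSet G p).image ConjClasses.mk) fun x hx => Finset.mem_image_of_mem _ hx]
    refine Finset.dvd_sum fun C hC => ?_
    obtain ⟨g, hg, rfl⟩ := Finset.mem_image.1 hC
    obtain ⟨hcard, hconst⟩ := K.filter_class hh hg
    rw [Finset.sum_congr rfl (g := fun _ => h g ^ 3 - h g ^ 2) fun x hx => by
      rw [hconst x (Finset.mem_filter.1 hx).1 (Finset.mem_filter.1 hx).2],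
      Finset.sum_const, nsmul_eq_mul, hcard]
    by_cases hne : h g = 0
    · simp [hne]
    obtain ⟨d1, d2⟩ := K.centralizer_dvd hh hg hne
    set c : ℤ := (Nat.card (Subgroup.centralizer ({g} : Set G)) : ℤ) with hc
    have hdd : c ∣ (a : ℤ) ^ 2 * (h g * (h g - 1)) := by
      rw [show (a : ℤ) ^ 2 * (h g * (h g - 1)) = (a : ℤ) ^ 3 * h g -
        (a : ℤ) ^ 2 * ((a : ℤ) + 1 - h g) * h g by ring]
      exact dvd_sub d2 (dvd_mul_of_dvd_left d1 (h g))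
    obtain ⟨I, hI⟩ := hdd
    have heven : Even (I * h g) := by
      rcases Int.even_or_odd (h g) with he | ho
      · exact he.mul_left I
      · have hlhs : Even (c * I) := by
          rw [← hI]
          exact Even.mul_left (Even.mul_left (ho.sub_odd odd_one) _) _
        have hcodd : Odd c := by
          rcases Int.even_or_odd c with hce | hco
          · exfalso
            have h2d := dvd_trans (even_iff_two_dvd.1 hce) d1
            have ha' : Odd (a : ℤ) := by exact_mod_cast K.ha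
            have : Odd ((a : ℤ) ^ 2 * ((a : ℤ) + 1 - h g)) :=
              (ha'.pow).mul ((ha'.add_odd odd_one).sub_odd ho)
            exact (Int.not_even_iff_odd.2 this) (even_iff_two_dvd.2 h2d)
          · exact hco
        exact ((Int.even_mul.1 hlhs).resolve_left (Int.not_even_iff_odd.2 hcodd)).mul_right _
    obtain ⟨J, hJ⟩ := even_iff_two_dvd.1 heven
    refine ⟨J, mul_left_cancel₀ (show c ≠ 0 by rw [hc]; exact_mod_cast Nat.card_pos.ne') ?_⟩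
    have hcm := K.class_mul hh (g := g)
    rw [← hc] at hcm
    rw [hD]
    linear_combination (h g ^ 3 - h g ^ 2) * hcm + (a : ℤ) * ((a : ℤ) + 1) ^ 2 * p * h g * hI +
      c * (a : ℤ) * ((a : ℤ) + 1) ^ 2 * p * hJ
  · intro g hg hpos
    obtain ⟨d1, -⟩ := K.centralizer_dvd hh hg hpos.ne'
    set c : ℤ := (Nat.card (Subgroup.centralizer ({g} : Set G)) : ℤ) with hc
    have hle := (abs_le.1 (K.abs_h_le hh hg)).2
    have hc0 : 0 < c := by rw [hc]; exact_mod_cast Nat.card_pos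
    have ha : (0 : ℤ) < a := by exact_mod_cast K.apos
    have hcle : c ≤ (a : ℤ) ^ 2 * ((a : ℤ) + 1 - h g) :=
      Int.le_of_dvd (mul_pos (by positivity) (by linarith)) d1
    obtain ⟨hcard, hconst⟩ := K.filter_class hh hg
    have hsub : (Nat.card (ConjClasses.mk g).carrier : ℤ) * h g ^ 2 ≤
        D * ((a : ℤ) ^ 2 - a - 1) := by
      rw [← h2, ← hcard, ← nsmul_eq_mul, ← Finset.sum_const]
      refine le_trans (le_of_eq (Finset.sum_congr rfl fun x hx => ?_))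
        (Finset.sum_le_sum_of_subset_of_nonneg (Finset.filter_subset _ _) fun x _ _ => sq_nonneg _)
      rw [hconst x (Finset.mem_filter.1 hx).1 (Finset.mem_filter.1 hx).2]
    have hcm := K.class_mul hh (g := g)
    rw [← hc] at hcm
    have hV : 0 ≤ (a : ℤ) ^ 2 - a - 1 := by
      have h5 : (5 : ℤ) ≤ a := by exact_mod_cast K.ha5
      nlinarith
    have h4 : (a : ℤ) ^ 3 * h g ^ 2 * D ≤
        (a : ℤ) ^ 2 * ((a : ℤ) + 1 - h g) * ((a : ℤ) ^ 2 - a - 1) * D := by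
      calc (a : ℤ) ^ 3 * h g ^ 2 * D =
            (Nat.card (ConjClasses.mk g).carrier : ℤ) * h g ^ 2 * c := by
              rw [hD]; linear_combination -(h g ^ 2) * hcm
        _ ≤ D * ((a : ℤ) ^ 2 - a - 1) * c := mul_le_mul_of_nonneg_right hsub hc0.le
        _ ≤ D * ((a : ℤ) ^ 2 - a - 1) * ((a : ℤ) ^ 2 * ((a : ℤ) + 1 - h g)) :=
              mul_le_mul_of_nonneg_left hcle (mul_nonneg hDpos.le hV)
        _ = _ := by ring
    have h5 := le_of_mul_le_mul_right h4 hDpos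
    refine le_of_mul_le_mul_left (a := (a : ℤ) ^ 2) ?_ (by positivity)
    linear_combination h5

end KeyData

/-- The case `p = a² + a + 1`, `a ≥ 5` odd, does not occur. -/
theorem keyData_false {P : Sylow p G} {a : ℕ} {χ : IrrCharacter G} {Ψ Y : Finset (IrrCharacter G)}
    (K : KeyData P a χ Ψ Y) : False :=
  @KeyData.false G _ _ p _ P a χ Ψ Y K (Fintype.ofFinite G) (Fintype.ofFinite (IrrCharacter G))

end CfsgLib.Block.NP
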