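import Cfsg.Agent.Lib.Block.NP.RecognizeSucc
import Cfsg.Agent.Lib.BlockA.InvolutionFS
import Cfsg.Agent.Lib.Char.Inner
import Mathlib

/-!
Characters of degrees `p + 1`, `p + 2` force `PSL(2, p + 1)`.
-/

set_option autoImplicit false

namespace CfsgLib.Block.NP

open CfsgLib.Char
open scoped ComplexConjugate

universe u

theorem defect_of_dvd {r : ℕ} (hr : r.Prime) {N a b : ℕ} (h : N = a * b) (ha : ¬ r ∣ a) :
    r ^ N.factorization r ∣ b := by
  have h1 : r ^ N.factorization r ∣ a * b := by rw [← h]; exact Nat.ordProj_dvd _ _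
  exact (Nat.Coprime.pow_left _ (hr.coprime_iff_not_dvd.2 ha)).dvd_of_dvd_mul_left h1

variable {G : Type u} [Group G] [Finite G] {p : ℕ}

/-- A simple group of order `p (p + 1) (p + 2)` with characters of degrees `p + 1` and `p + 2`
related on `p`-regular elements, the first taking the value `1` on `p`-singular ones. -/
theorem psl_succ [IsSimpleGroup G] (hp : p.Prime) (hp3 : 3 < p)
    (hcard : Nat.card G = p * (p + 1) * (p + 2)) (χ η : Cfsg.IrrCharacter G)
    (hχ : (χ : G → ℂ) 1 = ((p + 1 : ℕ) : ℂ)) (hη : (η : G → ℂ) 1 = ((p + 2 : ℕ) : ℂ))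
    (hsing : ∀ g : G, p ∣ orderOf g → (χ : G → ℂ) g = 1)
    (hrel : ∀ g : G, ¬ p ∣ orderOf g → (η : G → ℂ) g = 1 + (χ : G → ℂ) g) :
    (∃ k : ℕ, p + 1 = 2 ^ k) ∧ ∃ (F : Type) (_ : Field F) (_ : Fintype F),
      Fintype.card F = p + 1 ∧ Nonempty (G ≃* Matrix.ProjectiveSpecialLinearGroup (Fin 2) F) := by
  classical
  have := Fintype.ofFinite G
  have hdχ : Cfsg.charDegree (χ : G → ℂ) = p + 1 := by
    exact_mod_cast (BlockB.irr_degree_cast χ).trans hχ
  have hdη : Cfsg.charDegree (η : G → ℂ) = p + 2 := by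
    exact_mod_cast (BlockB.irr_degree_cast η).trans hη
  have hodd : Odd p := hp.odd_of_ne_two (by omega)
  obtain ⟨j, hj⟩ := hodd
  have hχr : ∀ r : ℕ, r.Prime → r ∣ p + 1 →
      r ^ (Nat.card G).factorization r ∣ Cfsg.charDegree (χ : G → ℂ) := fun r hr hd => by
    rw [hdχ]
    refine defect_of_dvd hr (a := p * (p + 2)) (by rw [hcard]; ring) fun h => ?_
    rcases hr.dvd_mul.1 h with h | h
    · obtain rfl := (Nat.prime_dvd_prime_iff_eq hr hp).1 h
      exact hr.not_dvd_one ((Nat.dvd_add_right dvd_rfl).1 hd)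
    · exact hr.not_dvd_one (by simpa using Nat.dvd_sub h hd)
  have hηr : ∀ r : ℕ, r.Prime → r ∣ p + 2 →
      r ^ (Nat.card G).factorization r ∣ Cfsg.charDegree (η : G → ℂ) := fun r hr hd => by
    rw [hdη]
    refine defect_of_dvd hr (a := p * (p + 1)) hcard fun h => ?_
    rcases hr.dvd_mul.1 h with h | h
    · obtain rfl := (Nat.prime_dvd_prime_iff_eq hr hp).1 h
      have := Nat.le_of_dvd two_pos ((Nat.dvd_add_right dvd_rfl).1 hd)
      omega
    · exact hr.not_dvd_one (by simpa using Nat.dvd_sub hd h)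
  -- vanishing
  have hvan : ∀ r : ℕ, r.Prime → r ∣ p + 1 → ∀ g : G, r ∣ orderOf g → (χ : G → ℂ) g = 0 :=
    fun r hr hd g hg => by
      have := Fact.mk hr
      exact BlockB.irr_apply_eq_zero_of_defect_zero χ (hχr r hr hd) hg
  have hsing' : ∀ r : ℕ, r.Prime → r ∣ p + 1 → ∀ g : G, r ∣ orderOf g → ¬ p ∣ orderOf g :=
    fun r hr hd g hg hpg => one_ne_zero ((hsing g hpg).symm.trans (hvan r hr hd g hg))
  set T := Finset.univ.filter fun g : G => ∃ r : ℕ, r.Prime ∧ r ∣ p + 1 ∧ r ∣ orderOf g with hT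
  have habs : ∀ g : G, g ≠ 1 → g ∉ T → (χ : G → ℂ) g = 1 ∨ (χ : G → ℂ) g = -1 := by
    intro g hg1 hgT
    by_cases hpg : p ∣ orderOf g
    · exact Or.inl (hsing g hpg)
    · right
      obtain ⟨r, hr, hrg⟩ := Nat.exists_prime_and_dvd (mt orderOf_eq_one_iff.1 hg1)
      have hrG : r ∣ p * (p + 1) * (p + 2) := hcard ▸ hrg.trans (orderOf_dvd_natCard g)
      rcases hr.dvd_mul.1 hrG with h | h
      · rcases hr.dvd_mul.1 h with h | h
        · exact absurd ((Nat.prime_dvd_prime_iff_eq hr hp).1 h ▸ hrg) hpg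
        · exact absurd (Finset.mem_filter.2 ⟨Finset.mem_univ g, r, hr, h, hrg⟩) hgT
      · have := Fact.mk hr
        have h0 := BlockB.irr_apply_eq_zero_of_defect_zero η (hηr r hr h) hrg
        rw [hrel g hpg] at h0
        linear_combination h0
  have hnorm : ∑ g : G, (χ : G → ℂ) g * conj ((χ : G → ℂ) g) = (Nat.card G : ℂ) := by
    have h := irr_classInner_self χ.2
    rw [classInner_def, inv_mul_eq_iff_eq_mul₀ natCard_ne_zero, mul_one] at h
    exact h
  have h1T : (1 : G) ∉ T := by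
    simp only [hT, Finset.mem_filter, orderOf_one, not_and, not_exists]
    exact fun _ r hr _ h => hr.not_dvd_one h
  have hTcard : T.card = p * (p + 2) := by
    have hg : ∀ g : G, (χ : G → ℂ) g * conj ((χ : G → ℂ) g) =
        if g = 1 then (((p + 1) * (p + 1) : ℕ) : ℂ) else if g ∈ T then 0 else 1 := by
      intro g
      by_cases h1 : g = 1
      · rw [if_pos h1, h1, hχ, Complex.conj_natCast, Nat.cast_mul]
      · rw [if_neg h1]
        by_cases h2 : g ∈ T
        · obtain ⟨r, hr, hd, hrg⟩ := (Finset.mem_filter.1 h2).2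
          rw [if_pos h2, hvan r hr hd g hrg, zero_mul]
        · rw [if_neg h2]
          rcases habs g h1 h2 with h | h <;> simp [h]
    rw [Finset.sum_congr rfl fun g _ => hg g, ← Finset.add_sum_erase _ _ (Finset.mem_univ (1 : G)),
      if_pos rfl, Finset.sum_congr rfl (g := fun g => if g ∈ T then (0 : ℂ) else 1)
        (fun g hg => if_neg (Finset.mem_erase.1 hg).1), Finset.sum_ite, Finset.sum_const_zero,
      zero_add, Finset.sum_const, nsmul_eq_mul, mul_one] at hnorm
    have hsub : ((Finset.univ.erase (1 : G)).filter fun g => g ∉ T) =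
        (Finset.univ.erase (1 : G)) \ T := by ext g; simp
    rw [hsub, Finset.card_sdiff_of_subset (fun g hg =>
      Finset.mem_erase.2 ⟨fun h => h1T (by subst h; exact hg), Finset.mem_univ g⟩)] at hnorm
    have h := Nat.cast_injective (R := ℂ) (by push_cast at hnorm ⊢; exact hnorm :
      (((p + 1) * (p + 1) + ((Finset.univ.erase (1 : G)).card - T.card) : ℕ) : ℂ) = (Nat.card G : ℂ))
    have hle : T.card ≤ (Finset.univ.erase (1 : G)).card := Finset.card_le_card fun g hg =>
      Finset.mem_erase.2 ⟨fun h => h1T (by subst h; exact hg), Finset.mem_univ g⟩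
    rw [Finset.card_erase_of_mem (Finset.mem_univ _), Finset.card_univ,
      ← Nat.card_eq_fintype_card] at h hle
    have hpos : 0 < Nat.card G := Nat.card_pos
    have : (p + 1) * (p + 1) = p * (p + 2) + 1 := by ring
    omega
  -- one class of involutions
  have h2p : 2 ∣ p + 1 := ⟨j + 1, by omega⟩
  have h2G : 2 ∣ Nat.card G := hcard ▸ (h2p.mul_left p).mul_right _
  obtain ⟨hconj, hcent, -⟩ := CfsgLib.BlockA.one_class_of_defect_zero (even_iff_two_dvd.2 h2G) χ
    (hχr 2 Nat.prime_two h2p) fun r hr hr2 ⟨g, hg⟩ => by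
      refine hχr r hr ?_
      have hrG : r ∣ p * (p + 1) * (p + 2) :=
        hcard ▸ (dvd_mul_left r 2).trans (hg ▸ orderOf_dvd_natCard g)
      rcases hr.dvd_mul.1 hrG with h | h
      · rcases hr.dvd_mul.1 h with h | h
        · exfalso
          exact hsing' 2 Nat.prime_two h2p g (hg ▸ dvd_mul_right 2 r)
            ((Nat.prime_dvd_prime_iff_eq hr hp).1 h ▸ hg ▸ dvd_mul_left r 2)
        · exact h
      · exfalso
        have hz := hvan 2 Nat.prime_two h2p g (hg ▸ dvd_mul_right 2 r)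
        have hnp := hsing' 2 Nat.prime_two h2p g (hg ▸ dvd_mul_right 2 r)
        have := Fact.mk hr
        have h0 := BlockB.irr_apply_eq_zero_of_defect_zero η (hηr r hr h) (hg ▸ dvd_mul_left r 2)
        rw [hrel g hnp, hz, add_zero] at h0
        exact one_ne_zero h0
  obtain ⟨s, hs⟩ := exists_prime_orderOf_dvd_card' (G := G) 2 h2G
  have hc : Nat.card (Subgroup.centralizer ({s} : Set G)) = p + 1 := (hcent s hs).1.trans hdχ
  refine psl_succ_of_one_class hp hp3 hcard hs hc fun r hr hd g hg => ?_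
  set Cl := Finset.univ.filter fun x : G => IsConj x s with hCl
  have hClT : Cl ⊆ T := fun x hx => by
    obtain ⟨c, hcx⟩ := isConj_iff.1 (Finset.mem_filter.1 hx).2
    refine Finset.mem_filter.2 ⟨Finset.mem_univ x, 2, Nat.prime_two, h2p, ?_⟩
    rw [← MulEquiv.orderOf_eq (MulAut.conj c) x, MulAut.conj_apply, hcx, hs]
  have hClcard : Cl.card = p * (p + 2) := by
    have hmul := Char.natCard_carrier_mul_centralizer s
    rw [hc, hcard, show p * (p + 1) * (p + 2) = p * (p + 2) * (p + 1) by ring] at hmul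
    have h := Nat.eq_of_mul_eq_mul_right (by omega) hmul
    rw [← h, hCl, ← Fintype.card_subtype, ← Nat.card_eq_fintype_card]
    refine Nat.card_congr (Equiv.subtypeEquivRight fun x => ?_)
    rw [ConjClasses.mem_carrier_iff_mk_eq, ConjClasses.mk_eq_mk_iff_isConj]
  have heq : Cl = T := Finset.eq_of_subset_of_card_le hClT (by rw [hTcard, hClcard])
  have hgT : g ∈ T := Finset.mem_filter.2 ⟨Finset.mem_univ g, r, hr, hd, hg⟩
  rw [← heq] at hgT
  exact (Finset.mem_filter.1 hgT).2

end CfsgLib.Block.NP
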