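import Cfsg.Agent.Lib.StructC.FewSylowPSolvable

/-!
Fewer than `p²` Sylow subgroups: the Sylow numbers of the listed simple groups, and the reduction
of the general classification of these numbers to simple groups.
-/

set_option autoImplicit false
set_option linter.style.haveILetI false

namespace CfsgLib.Block.NP.Wrap

universe u

/-- The list of simple groups with fewer than `p²` Sylow `p`-subgroups. -/
def Listed (S : Type u) [Group S] (p : ℕ) : Prop :=
  (∃ (F : Type) (_ : Field F) (_ : Fintype F), Fintype.card F = p ∧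
      Nonempty (S ≃* Matrix.ProjectiveSpecialLinearGroup (Fin 2) F)) ∨
   (p = 13 ∧ ∃ (F : Type) (_ : Field F) (_ : Fintype F), Fintype.card F = 3 ∧
      Nonempty (S ≃* Matrix.ProjectiveSpecialLinearGroup (Fin 3) F)) ∨
   (3 < p ∧ (∃ k : ℕ, p = 2 ^ k + 1) ∧ ∃ (F : Type) (_ : Field F) (_ : Fintype F),
      Fintype.card F = p - 1 ∧ Nonempty (S ≃* Matrix.ProjectiveSpecialLinearGroup (Fin 2) F)) ∨
   (3 < p ∧ (∃ k : ℕ, p + 1 = 2 ^ k) ∧ ∃ (F : Type) (_ : Field F) (_ : Fintype F),
      Fintype.card F = p + 1 ∧ Nonempty (S ≃* Matrix.ProjectiveSpecialLinearGroup (Fin 2) F))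

/-- The possible numbers. -/
def NumberListed (p n : ℕ) : Prop :=
  (∃ q k : ℕ, q.Prime ∧ n = q ^ k) ∨
    (p = 13 ∧ n = 144) ∨
    (p ≠ 2 ∧ (¬ ∃ k : ℕ, p + 1 = 2 ^ k) ∧ n = 1 + p) ∨
    (3 < p ∧ (∃ k : ℕ, p = 2 ^ k + 1) ∧ 2 * n = 2 + (p - 3) * p) ∨
    (3 < p ∧ (∃ k : ℕ, p + 1 = 2 ^ k) ∧ 2 * n = 2 + (p + 3) * p)

theorem numberListed_one (p : ℕ) : NumberListed p 1 :=
  Or.inl ⟨2, 0, Nat.prime_two, by simp⟩

variable {S : Type u} [Group S] [Finite S] {p : ℕ} [hp : Fact p.Prime]

theorem sylow_mod : Nat.card (Sylow p S) % p = 1 := by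
  rw [card_sylow_modEq_one p S]
  exact Nat.one_mod_eq_one.2 hp.out.ne_one

theorem sylow_one_or_le : Nat.card (Sylow p S) = 1 ∨ p + 1 ≤ Nat.card (Sylow p S) := by
  have h := Nat.div_add_mod (Nat.card (Sylow p S)) p
  rw [sylow_mod] at h
  rcases Nat.eq_zero_or_pos (Nat.card (Sylow p S) / p) with h0 | h0
  · rw [h0, mul_zero] at h; omega
  · have := Nat.le_mul_of_pos_right p h0; omega

theorem sylow_dvd {m : ℕ} (h : Nat.card (Sylow p S) ∣ p * m) : Nat.card (Sylow p S) ∣ m := by
  refine Nat.Coprime.dvd_of_dvd_mul_left ?_ h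
  refine ((Nat.Prime.coprime_iff_not_dvd hp.out).2 fun hd => ?_).symm
  have := sylow_mod (S := S) (p := p)
  rw [Nat.mod_eq_zero_of_dvd hd] at this
  omega

theorem sylow_dvd_card : Nat.card (Sylow p S) ∣ Nat.card S := by
  obtain ⟨P⟩ : Nonempty (Sylow p S) := inferInstance
  exact P.card_dvd_index.trans (Subgroup.index_dvd_card _)

/-- The cofactor of a Sylow number. -/
theorem cofactor {m : ℕ} (h : Nat.card (Sylow p S) ∣ m) :
    ∃ d, Nat.card (Sylow p S) * d = m ∧ d % p = m % p := by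
  obtain ⟨d, hd⟩ := h
  exact ⟨d, hd.symm, by rw [hd, Nat.mul_mod, sylow_mod, one_mul, Nat.mod_mod]⟩

theorem psl_prime {F : Type} [Field F] [Fintype F] (hF : Fintype.card F = p)
    (e : S ≃* Matrix.ProjectiveSpecialLinearGroup (Fin 2) F) :
    Nat.card (Sylow p S) ∣ p ^ 2 - 1 ∧ NumberListed p (Nat.card (Sylow p S)) := by
  have h := CfsgLib.Classical.card_psl_two_mul (F := F)
  rw [← Nat.card_congr e.toEquiv, hF] at h
  have hdvd : Nat.card (Sylow p S) ∣ p ^ 2 - 1 :=
    sylow_dvd (h ▸ dvd_mul_of_dvd_right sylow_dvd_card _)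
  refine ⟨hdvd, ?_⟩
  rcases sylow_one_or_le (S := S) (p := p) with h1 | h1
  · rw [h1]; exact numberListed_one p
  rcases eq_or_ne p 2 with rfl | h2
  · have := Nat.le_of_dvd (by norm_num) hdvd
    norm_num at this h1
    exact Or.inl ⟨3, 1, Nat.prime_three, by omega⟩
  obtain ⟨r, hr⟩ : ∃ r, p = 2 * r + 1 := hp.out.odd_of_ne_two h2
  have hr0 : 0 < r := by have := hp.out.two_le; omega
  have hg : Nat.gcd 2 (p - 1) = 2 := Nat.gcd_eq_left ⟨r, by omega⟩
  have hsq : p ^ 2 - 1 = 2 * (2 * r * (r + 1)) := Nat.sub_eq_of_eq_add (by rw [hr]; ring)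
  rw [hg, hsq, mul_left_comm] at h
  have hS : Nat.card S = p * (2 * r * (r + 1)) := Nat.eq_of_mul_eq_mul_left two_pos h
  obtain ⟨d, hd, hdm⟩ := cofactor (S := S) (p := p) (sylow_dvd (hS ▸ sylow_dvd_card))
  have hm : (2 * r * (r + 1)) % p = r := by
    rw [show 2 * r * (r + 1) = r + r * p by rw [hr]; ring, Nat.add_mul_mod_self_right,
      Nat.mod_eq_of_lt (by omega)]
  rw [hm] at hdm
  have hle : d ≤ r := by
    by_contra hgt
    have : (p + 1) * (r + 1) ≤ Nat.card (Sylow p S) * d := Nat.mul_le_mul h1 (by omega)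
    rw [hd, hr] at this
    nlinarith
  have hdr : d = r := by rw [← hdm]; exact (Nat.mod_eq_of_lt (by omega)).symm
  rw [hdr] at hd
  have hn : Nat.card (Sylow p S) = 1 + p := by
    refine Nat.eq_of_mul_eq_mul_right hr0 (hd.trans ?_)
    rw [hr]; ring
  by_cases hk : ∃ k : ℕ, p + 1 = 2 ^ k
  · obtain ⟨k, hk⟩ := hk
    exact Or.inl ⟨2, k, Nat.prime_two, by omega⟩
  · exact Or.inr <| Or.inr <| Or.inl ⟨h2, hk, hn⟩

theorem psl_pred (hp3 : 3 < p) {k : ℕ} (hk : p = 2 ^ k + 1) {F : Type} [Field F] [Fintype F]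
    (hF : Fintype.card F = p - 1) (e : S ≃* Matrix.ProjectiveSpecialLinearGroup (Fin 2) F) :
    Nat.card (Sylow p S) ∣ (p - 1) * (p - 2) ∧ NumberListed p (Nat.card (Sylow p S)) := by
  have hk0 : 0 < k := Nat.pos_of_ne_zero fun h => by rw [h] at hk; omega
  obtain ⟨e'⟩ := CfsgLib.Block.BrauerReynolds.psl_equiv_sl_char_two F hk0 (by rw [hF]; omega)
  have h := CfsgLib.Classical.card_sl_two_eq (F := F)
  rw [← Nat.card_congr e'.toEquiv, ← Nat.card_congr e.toEquiv, hF] at h
  obtain ⟨r, rfl⟩ : ∃ r, p = r + 4 := ⟨p - 4, by omega⟩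
  have e1 : r + 4 - 1 = r + 3 := rfl
  have e2 : r + 4 - 2 = r + 2 := rfl
  rw [e1, show (r + 3) ^ 2 - 1 = (r + 4) * (r + 2) from Nat.sub_eq_of_eq_add (by ring),
    mul_left_comm] at h
  rw [e1, e2]
  have hdvd : Nat.card (Sylow (r + 4) S) ∣ (r + 3) * (r + 2) := sylow_dvd (h ▸ sylow_dvd_card)
  refine ⟨hdvd, ?_⟩
  rcases sylow_one_or_le (S := S) (p := r + 4) with h1 | h1
  · rw [h1]; exact numberListed_one _
  obtain ⟨d, hd, hdm⟩ := cofactor hdvd
  rw [show (r + 3) * (r + 2) = 2 + (r + 1) * (r + 4) by ring, Nat.add_mul_mod_self_right,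
    Nat.mod_eq_of_lt (show 2 < r + 4 by omega)] at hdm
  have hlt : d < r + 4 := by
    by_contra hgt
    have : (r + 5) * (r + 4) ≤ Nat.card (Sylow (r + 4) S) * d := Nat.mul_le_mul h1 (by omega)
    rw [hd] at this
    nlinarith
  rw [Nat.mod_eq_of_lt hlt] at hdm
  subst hdm
  refine Or.inr <| Or.inr <| Or.inr <| Or.inl ⟨hp3, ⟨k, hk⟩, ?_⟩
  rw [mul_comm, hd, show r + 4 - 3 = r + 1 from rfl]
  ring

theorem psl_succ (hp3 : 3 < p) {k : ℕ} (hk : p + 1 = 2 ^ k) {F : Type} [Field F] [Fintype F]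
    (hF : Fintype.card F = p + 1) (e : S ≃* Matrix.ProjectiveSpecialLinearGroup (Fin 2) F) :
    2 * Nat.card (Sylow p S) ≤ (p + 1) * (p + 2) ∧ NumberListed p (Nat.card (Sylow p S)) := by
  have hk0 : 0 < k := Nat.pos_of_ne_zero fun h => by rw [h] at hk; omega
  obtain ⟨e'⟩ := CfsgLib.Block.BrauerReynolds.psl_equiv_sl_char_two F hk0 (by rw [hF, hk])
  have h := CfsgLib.Classical.card_sl_two_eq (F := F)
  rw [← Nat.card_congr e'.toEquiv, ← Nat.card_congr e.toEquiv, hF,
    show (p + 1) ^ 2 - 1 = p * (p + 2) from Nat.sub_eq_of_eq_add (by ring), mul_left_comm] at h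
  obtain ⟨d, hd, hdm⟩ := cofactor (S := S) (p := p) (sylow_dvd (h ▸ sylow_dvd_card))
  rw [show (p + 1) * (p + 2) = 2 + (p + 3) * p by ring, Nat.add_mul_mod_self_right,
    Nat.mod_eq_of_lt (show 2 < p by omega)] at hdm
  have h2 : 2 ≤ d := by rw [← hdm]; exact Nat.mod_le d p
  refine ⟨by rw [← hd, mul_comm 2]; exact Nat.mul_le_mul_left _ h2, ?_⟩
  rcases sylow_one_or_le (S := S) (p := p) with h1 | h1
  · rw [h1]; exact numberListed_one p
  have hle : d ≤ p + 2 := by
    by_contra hgt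
    have : (p + 1) * (p + 3) ≤ Nat.card (Sylow p S) * d := Nat.mul_le_mul h1 (by omega)
    rw [hd] at this
    nlinarith
  have hdd := Nat.div_add_mod d p
  rw [hdm] at hdd
  rcases Nat.lt_or_ge (d / p) 1 with hj | hj
  · have hd2 : d = 2 := by
      rw [Nat.lt_one_iff] at hj
      rw [hj, mul_zero] at hdd; omega
    subst hd2
    refine Or.inr <| Or.inr <| Or.inr <| Or.inr ⟨hp3, ⟨k, hk⟩, ?_⟩
    rw [mul_comm, hd]; ring
  · have := Nat.le_mul_of_pos_right p hj
    have hd2 : d = p + 2 := by omega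
    subst hd2
    exact Or.inl ⟨2, k, Nat.prime_two,
      (Nat.eq_of_mul_eq_mul_right (by omega) hd).trans hk⟩

omit hp in
theorem psl_three_three [Fact (Nat.Prime 13)] {F : Type} [Field F] [Fintype F]
    (hF : Fintype.card F = 3) (e : S ≃* Matrix.ProjectiveSpecialLinearGroup (Fin 3) F) :
    Nat.card (Sylow 13 S) = 1 ∨ Nat.card (Sylow 13 S) = 27 ∨ Nat.card (Sylow 13 S) = 144 := by
  have hcard : Nat.card S = 13 * 432 := by
    have := CfsgLib.Classical.card_psl_mul (F := F) (n := 3) (by norm_num)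
    rw [hF, Fin.prod_univ_three, ← Nat.card_congr e.toEquiv] at this
    norm_num [-Nat.card_eq_fintype_card] at this
    omega
  have hdvd : Nat.card (Sylow 13 S) ∣ 432 := sylow_dvd (hcard ▸ sylow_dvd_card)
  have hmod := sylow_mod (S := S) (p := 13)
  have h := Nat.div_add_mod (Nat.card (Sylow 13 S)) 13
  rw [hmod] at h
  have hj : Nat.card (Sylow 13 S) / 13 < 34 := by
    have := Nat.le_of_dvd (by norm_num) hdvd; omega
  have key : ∀ j < 34, 13 * j + 1 ∣ 432 → j = 0 ∨ j = 2 ∨ j = 11 := by decide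
  rcases key _ hj (h.symm ▸ hdvd) with hk | hk | hk <;> omega

/-- The listed groups have fewer than `p²` Sylow subgroups, and their number is on the list. -/
theorem of_listed (hL : Listed S p) :
    Nat.card (Sylow p S) < p ^ 2 ∧ NumberListed p (Nat.card (Sylow p S)) := by
  have hp2 := hp.out.two_le
  rcases hL with ⟨F, _, _, hF, ⟨e⟩⟩ | ⟨rfl, F, _, _, hF, ⟨e⟩⟩ | ⟨hp3, ⟨k, hk⟩, F, _, _, hF, ⟨e⟩⟩ |
    ⟨hp3, ⟨k, hk⟩, F, _, _, hF, ⟨e⟩⟩
  · obtain ⟨h, h'⟩ := psl_prime hF e
    have : 2 * 2 ≤ p * p := Nat.mul_le_mul hp2 hp2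
    rw [pow_two] at h ⊢
    have := Nat.le_of_dvd (by omega) h
    exact ⟨by omega, h'⟩
  · rcases psl_three_three hF e with h | h | h <;> rw [h]
    · exact ⟨by norm_num, numberListed_one _⟩
    · exact ⟨by norm_num, Or.inl ⟨3, 3, Nat.prime_three, by norm_num⟩⟩
    · exact ⟨by norm_num, Or.inr <| Or.inl ⟨rfl, rfl⟩⟩
  · obtain ⟨h, h'⟩ := psl_pred hp3 hk hF e
    obtain ⟨r, rfl⟩ : ∃ r, p = r + 4 := ⟨p - 4, by omega⟩
    rw [show r + 4 - 1 = r + 3 from rfl, show r + 4 - 2 = r + 2 from rfl] at h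
    exact ⟨lt_of_le_of_lt (Nat.le_of_dvd (by positivity) h) (by nlinarith), h'⟩
  · obtain ⟨h, h'⟩ := psl_succ hp3 hk hF e
    exact ⟨by nlinarith, h'⟩

/-- The classification of simple groups with fewer than `p²` Sylow subgroups, as a hypothesis. -/
def Classified : Prop :=
  ∀ (S : Type u) [Group S] [Finite S] [IsSimpleGroup S], ¬ IsMulCommutative S →
    ∀ (p : ℕ) [Fact p.Prime], p ∣ Nat.card S → Nat.card (Sylow p S) < p ^ 2 → Listed S p

theorem iff_listed [IsSimpleGroup S] (hC : Classified.{u}) (hS : ¬ IsMulCommutative S)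
    (hd : p ∣ Nat.card S) : Nat.card (Sylow p S) < p ^ 2 ↔ Listed S p :=
  ⟨hC S hS p hd, fun h => (of_listed h).1⟩

omit hp in
theorem eq_of_two_le {p a b : ℕ} (ha : a = 1 ∨ p + 1 ≤ a) (hb : b = 1 ∨ p + 1 ≤ b)
    (h : a * b < p ^ 2) : a = 1 ∨ b = 1 := by
  rcases ha with ha | ha
  · exact Or.inl ha
  rcases hb with hb | hb
  · exact Or.inr hb
  have := Nat.mul_le_mul ha hb
  nlinarith

/-- Reduction to simple groups. -/
theorem numberListed_aux (hC : Classified.{u}) (p : ℕ) [hp : Fact p.Prime] (N : ℕ) :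
    ∀ (G : Type u) [Group G] [Finite G], Nat.card G = N → Nat.card (Sylow p G) < p ^ 2 →
      NumberListed p (Nat.card (Sylow p G)) := by
  induction N using Nat.strong_induction_on with
  | _ N ih =>
    intro G _ _ hN hn
    subst hN
    rcases subsingleton_or_nontrivial G with hs | hs
    · have : Subsingleton (Sylow p G) := ⟨fun P Q => Sylow.ext (Subsingleton.elim _ _)⟩
      rw [Nat.card_unique]; exact numberListed_one p
    by_cases hK : ∃ K : Subgroup G, K.Normal ∧ K ≠ ⊥ ∧ K ≠ ⊤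
    swap
    · push Not at hK
      have : IsSimpleGroup G := ⟨fun H hH => or_iff_not_imp_left.2 fun h => hK H hH h⟩
      obtain ⟨P⟩ : Nonempty (Sylow p G) := inferInstance
      have hnormal : (P : Subgroup G).Normal → NumberListed p (Nat.card (Sylow p G)) := fun h => by
        have : Subsingleton (Sylow p G) := @Unique.instSubsingleton _ (Sylow.unique_of_normal P h)
        rw [Nat.card_unique]; exact numberListed_one p
      by_cases hab : IsMulCommutative G
      · exact hnormal ⟨fun x hx g => by rwa [hab.is_comm.comm g x, mul_inv_cancel_right]⟩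
      by_cases hd : p ∣ Nat.card G
      · exact (of_listed (hC G hab p hd hn)).2
      · refine hnormal ?_
        have : (P : Subgroup G) = ⊥ := Subgroup.eq_bot_of_card_eq _ (by
          rw [P.card_eq_multiplicity, Nat.factorization_eq_zero_of_not_dvd hd, pow_zero])
        rw [this]; infer_instance
    obtain ⟨K, hKn, hK0, hK1⟩ := hK
    obtain ⟨P⟩ : Nonempty (Sylow p G) := inferInstance
    set L := (P : Subgroup G) ⊔ K with hL
    set R := (P : Subgroup G) ⊓ K with hR
    set M := L ⊓ Subgroup.normalizer (R : Set G) with hM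
    have hMn : (R.subgroupOf M).Normal := Subgroup.normal_subgroupOf_of_le_normalizer inf_le_right
    have h1 := CfsgLib.StructC.card_sylow_eq_mul_quotient K P
    rw [CfsgLib.StructC.card_sylow_eq_mul_normal K L le_sup_right P le_sup_left M rfl (hn := hMn),
      ← mul_assoc] at h1
    set a := Nat.card (Sylow p (G ⧸ K))
    set b := Nat.card (Sylow p K)
    set c := Nat.card (Sylow p (M ⧸ R.subgroupOf M))
    rw [h1] at hn ⊢
    have ha : a = 1 ∨ p + 1 ≤ a := sylow_one_or_le
    have hb : b = 1 ∨ p + 1 ≤ b := sylow_one_or_le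
    have hc : c = 1 ∨ p + 1 ≤ c := sylow_one_or_le
    have hca : 0 < c := Nat.card_pos
    obtain ⟨hb1, hc1⟩ | ⟨ha1, hb1⟩ | ⟨ha1, hc1⟩ :
        (b = 1 ∧ c = 1) ∨ (a = 1 ∧ b = 1) ∨ (a = 1 ∧ c = 1) := by
      rcases eq_of_two_le ha hb (lt_of_le_of_lt (Nat.le_mul_of_pos_right _ hca) hn) with h | h
      · rw [h, one_mul] at hn
        rcases eq_of_two_le hb hc hn with h' | h'
        · exact Or.inr (Or.inl ⟨h, h'⟩)
        · exact Or.inr (Or.inr ⟨h, h'⟩)
      · rw [h, mul_one] at hn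
        rcases eq_of_two_le ha hc hn with h' | h'
        · exact Or.inr (Or.inl ⟨h', h⟩)
        · exact Or.inl ⟨h, h'⟩
    · rw [hb1, hc1, mul_one, mul_one] at hn ⊢
      refine ih _ ?_ (G ⧸ K) rfl hn
      rw [Subgroup.card_eq_card_quotient_mul_card_subgroup K]
      exact lt_mul_of_one_lt_right Nat.card_pos (K.one_lt_card_iff_ne_bot.2 hK0)
    · rw [ha1, hb1, one_mul, one_mul] at hn ⊢
      by_cases hlt : Nat.card (M ⧸ R.subgroupOf M) < Nat.card G
      · exact ih _ hlt _ rfl hn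
      -- `G` has a normal `p`-complement
      have h2 := Subgroup.card_eq_card_quotient_mul_card_subgroup (R.subgroupOf M)
      have h3 : Nat.card M ≤ Nat.card G := Subgroup.card_le_card_group M
      have h4 : Nat.card (R.subgroupOf M) = 1 := by
        by_contra hne
        have : Nat.card (M ⧸ R.subgroupOf M) < Nat.card M := h2 ▸
          lt_mul_of_one_lt_right Nat.card_pos (lt_of_le_of_ne Nat.card_pos (Ne.symm hne))
        omega
      rw [h4, mul_one] at h2
      have hMtop : M = ⊤ := Subgroup.eq_top_of_card_eq _ (by omega)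
      have hRbot : R = ⊥ := by
        rw [Subgroup.eq_bot_iff_forall]
        intro x hx
        have hm : x ∈ M := hMtop ▸ Subgroup.mem_top x
        exact congrArg Subtype.val ((Subgroup.eq_bot_iff_forall _).1
          (Subgroup.eq_bot_of_card_eq _ h4) ⟨x, hm⟩ hx)
      have hLtop : L = ⊤ := top_unique (hMtop ▸ inf_le_left)
      have hKp : ¬ p ∣ Nat.card K := fun hd => P.not_dvd_index (by
        have : (P : Subgroup G).relIndex K = Nat.card K := by
          rw [← Subgroup.inf_relIndex_right, ← hR, hRbot, Subgroup.relIndex_bot_left]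
        exact (this.symm ▸ hd).trans
          (CfsgLib.StructC.relIndex_dvd_index_right K (P : Subgroup G)))
      obtain ⟨l, hl, hlm⟩ := CfsgLib.StructC.exists_list_of_complement p K hKp P hLtop
      have hge : ∀ m ∈ l, p + 1 ≤ m := fun m hm => by
        obtain ⟨hpp, hmod⟩ := hlm m hm
        have h2 : 2 ≤ m := hpp.two_le
        by_contra hle
        rcases eq_or_lt_of_le (show m ≤ p by omega) with e | e
        · rw [e, Nat.mod_self] at hmod; omega
        · rw [Nat.mod_eq_of_lt e] at hmod; omega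
      have hG : Nat.card (Sylow p G) = c := by rw [h1, ha1, hb1, one_mul, one_mul]
      rw [← hG] at hn ⊢
      match l, hl, hlm, hge with
      | [], hl, _, _ => rw [← hl, List.prod_nil]; exact numberListed_one p
      | [m], hl, hlm, _ =>
        obtain ⟨r, k, hr, -, hrk⟩ := (hlm m (by simp)).1
        exact Or.inl ⟨r, k, hr.nat_prime, by rw [← hl, List.prod_singleton, hrk]⟩
      | m₁ :: m₂ :: r, hl, _, hge =>
        exfalso
        have hr : 0 < r.prod := Nat.pos_of_ne_zero fun h => by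
          rw [List.prod_eq_zero_iff] at h
          exact absurd (hge 0 (by simp [h])) (by omega)
        rw [← hl, List.prod_cons, List.prod_cons, ← mul_assoc] at hn
        rcases eq_of_two_le (Or.inr (hge m₁ (by simp))) (Or.inr (hge m₂ (by simp)))
          (lt_of_le_of_lt (Nat.le_mul_of_pos_right _ hr) hn) with e | e
        · have := hge m₁ (by simp); have := hp.out.two_le; omega
        · have := hge m₂ (by simp); have := hp.out.two_le; omega
    · rw [ha1, hc1, one_mul, mul_one] at hn ⊢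
      exact ih _ (lt_of_le_of_ne (Subgroup.card_le_card_group K)
        fun e => hK1 (Subgroup.eq_top_of_card_eq _ e)) K rfl hn

/-- The Sylow number is on the list. -/
theorem numberListed {G : Type u} [Group G] [Finite G] (hC : Classified.{u}) (p : ℕ)
    [Fact p.Prime] (hn : Nat.card (Sylow p G) < p ^ 2) : NumberListed p (Nat.card (Sylow p G)) :=
  numberListed_aux hC p _ G rfl hn

end CfsgLib.Block.NP.Wrap
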