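import Cfsg.Agent.Lib.Block.NP.Kernel
import Cfsg.Agent.Lib.Block.NP.FusionSign
import Cfsg.Agent.Lib.Block.NP.RecognizeSuccChar
import Cfsg.Agent.Lib.Block.NP.Key
import Cfsg.Agent.Lib.Block.NP.Wrappers
import Cfsg.Agent.Lib.Block.PrincipalSection
import Cfsg.Agent.Lib.Block.PrimeSylow
import Cfsg.Agent.Lib.StructC.LThreeByOrder
import Cfsg.Agent.Lib.Char.Column
import Mathlib

/-!
An exceptional family of degree `p + a` with `b` members: `PSL(2, p + 1)`, `PSL(3, 3)`, or the case
`p = a² + a + 1` which does not occur.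
-/

set_option autoImplicit false
set_option linter.unusedSectionVars false
set_option linter.style.haveILetI false

namespace CfsgLib.Block.NP.Data

open Cfsg CfsgLib CfsgLib.Block
open scoped ComplexConjugate

universe u

variable {G : Type u} [Group G] [Finite G] {p : ℕ} [hpf : Fact p.Prime]
  {M : Ideal AlgInt} {P : Sylow p G} {n e : ℕ} {V : Subgroup G} {t a b f d₀ : ℕ}
  {σ : ℤ} {Xa Xn Xb Xc Y : Finset (IrrCharacter G)}

theorem centralizer_eq (D : Data M P n e V t a b f d₀ σ Xa Xn Xb Xc Y) (hV : V = ⊥) :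
    Subgroup.centralizer ((P : Subgroup G) : Set G) = (P : Subgroup G) := by
  refine (Subgroup.eq_of_le_of_card_ge (fun x hx => ?_) ?_).symm
  · refine Subgroup.mem_centralizer_iff.2 fun y hy => ?_
    rcases eq_or_ne x 1 with rfl | hx1
    · simp
    obtain ⟨i, hi⟩ := Subgroup.mem_zpowers_iff.1 (mem_zpowers_of_prime_card
      (g := (⟨x, hx⟩ : P)) (g' := ⟨y, hy⟩) D.hyp.hP (fun h => hx1 (congrArg Subtype.val h)))
    rw [← show x ^ i = y from congrArg Subtype.val hi]
    exact ((Commute.refl x).zpow_left i).eq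
  · rw [D.hyp.card_C, hV, Subgroup.card_bot, mul_one, D.hyp.hP]

theorem singular_conj (D : Data M P n e V t a b f d₀ σ Xa Xn Xb Xc Y) (hV : V = ⊥) {g : G}
    (hg : p ∣ orderOf g) : ∃ x ∈ (P : Subgroup G), x ≠ 1 ∧ IsConj g x := by
  have hu : orderOf (g ^ (orderOf g / p)) = p := orderOf_pow_orderOf_div (orderOf_pos g).ne' hg
  obtain ⟨Q, hQ⟩ := (IsPGroup.of_card (n := 1) (G := Subgroup.zpowers (g ^ (orderOf g / p)))
    (by rw [Nat.card_zpowers, hu, pow_one])).exists_le_sylow
  obtain ⟨h, hh⟩ := MulAction.exists_smul_eq G Q P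
  have huP : h * g ^ (orderOf g / p) * h⁻¹ ∈ (P : Subgroup G) := by
    rw [← hh]
    exact Subgroup.smul_mem_pointwise_smul _ (MulAut.conj h) _ (hQ (Subgroup.mem_zpowers _))
  have hu1 : h * g ^ (orderOf g / p) * h⁻¹ ≠ 1 := fun e' => by
    have h1 : g ^ (orderOf g / p) = 1 := conj_eq_one_iff.1 e'
    rw [h1, orderOf_one] at hu
    exact hpf.out.ne_one hu.symm
  have hgC : h * g * h⁻¹ ∈ Subgroup.centralizer ((P : Subgroup G) : Set G) := by
    refine Fusion.mem_centralizer_of_commute P D.hyp.hP huP hu1 ?_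
    rw [← conj_pow]
    exact Commute.self_pow _ _
  rw [centralizer_eq D hV] at hgC
  refine ⟨_, hgC, fun e' => ?_, isConj_iff.2 ⟨h, rfl⟩⟩
  rw [conj_eq_one_iff.1 e', orderOf_one] at hg
  exact hpf.out.not_dvd_one hg

/-- Characters outside the principal block vanish on `P \ 1` when `C(P) = P`. -/
theorem other_eq_zero (D : Data M P n e V t a b f d₀ σ Xa Xn Xb Xc Y) (hV : V = ⊥)
    {ξ : IrrCharacter G} (hξ : ξ ∉ principalBlock M G) {x : G} (hx : x ∈ (P : Subgroup G))
    (hx1 : x ≠ 1) : (ξ : G → ℂ) x = 0 := by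
  classical
  have := Fintype.ofFinite G
  have := Fintype.ofFinite (IrrCharacter G)
  have hC : Subgroup.centralizer ({x} : Set G) = (P : Subgroup G) :=
    (BrauerReynolds.centralizer_mem_eq P D.hyp.hP hx hx1).trans (centralizer_eq D hV)
  have hxo : orderOf x = p := by
    have h : orderOf x ∣ p := D.hyp.hP ▸ (Subgroup.orderOf_mk x hx ▸ orderOf_dvd_natCard _)
    exact (hpf.out.eq_one_or_self_of_dvd _ h).resolve_left (mt orderOf_eq_one_iff.1 hx1)
  have hcard : Nat.card (Subgroup.centralizer ({x} : Set G)) = p := by rw [hC]; exact D.hyp.hP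
  have hnpc : Cfsg.HasNormalPComplement p (Subgroup.centralizer ({x} : Set G)) := by
    have htop : IsPGroup p (⊤ : Subgroup (Subgroup.centralizer ({x} : Set G))) :=
      IsPGroup.of_card (n := 1) (by rw [Subgroup.card_top, hcard, pow_one])
    obtain ⟨Q, hQ⟩ := htop.exists_le_sylow
    exact ⟨Q, ⊥, inferInstance, by rw [top_le_iff.1 hQ]; exact Subgroup.isComplement'_bot_top⟩
  have hsec := (principal_section D.hM ⟨1, by rw [hxo, pow_one]⟩ hnpc).2
  rw [hcard, hpf.out.factorization_self, pow_one,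
    finsum_mem_eq_toFinset_sum] at hsec
  have hall := Char.column_orthogonality x x
  rw [if_pos (IsConj.refl x), hcard] at hall
  rw [← Finset.sum_add_sum_compl (principalBlock M G).toFinset, hsec] at hall
  have h0 : ∑ χ ∈ (principalBlock M G).toFinsetᶜ, (χ : G → ℂ) x * conj ((χ : G → ℂ) x) = 0 := by
    linear_combination hall
  have h1 := congrArg Complex.re h0
  rw [Complex.re_sum, Complex.zero_re, Finset.sum_eq_zero_iff_of_nonneg] at h1
  · have h2 := h1 ξ (by simpa using hξ)
    rwa [Complex.mul_conj, Complex.ofReal_re, Complex.normSq_eq_zero] at h2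
  · intro i _
    rw [Complex.mul_conj, Complex.ofReal_re]
    exact Complex.normSq_nonneg _

/-- An element of `N(P)` inducing a generator of `N(P) / C(P)`. -/
theorem exists_generator (D : Data M P n e V t a b f d₀ σ Xa Xn Xb Xc Y) :
    ∃ g : G, g ∈ Subgroup.normalizer ((P : Subgroup G) : Set G) ∧
      ∀ k : ℕ, g ^ k ∈ Subgroup.centralizer ((P : Subgroup G) : Set G) ↔ e ∣ k := by
  classical
  obtain ⟨z, ε, -, -, -, hker⟩ := exists_prime_sylow_data P D.hyp.hP
  obtain ⟨⟨w, y, rfl⟩, hgen⟩ := IsCyclic.exists_generator (α := ε.range)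
  have hcard : Nat.card ε.range = e := by
    rw [← Subgroup.index_ker, hker]
    exact D.hyp.e_eq
  have ho : orderOf (ε y) = e := by
    rw [← hcard, ← orderOf_eq_card_of_forall_mem_zpowers hgen]
    exact (Subgroup.orderOf_mk _ _).symm
  refine ⟨y, y.2, fun k => ?_⟩
  rw [← ho, orderOf_dvd_iff_pow_eq_one, ← map_pow, ← MonoidHom.mem_ker, hker,
    Subgroup.mem_subgroupOf, SubmonoidClass.coe_pow]

/-- A member of degree `p - 1`, `V = 1` and an even number `e` need an even `t`. -/
theorem even_t (D : Data M P n e V t a b f d₀ σ Xa Xn Xb Xc Y) (hV : V = ⊥) (hB : Xb.Nonempty)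
    (he : Even e) : Even t := by
  classical
  haveI := D.hyp.simple
  obtain ⟨g, hgN, hgen⟩ := exists_generator D
  obtain ⟨m, hm⟩ := he
  have he2 := D.hyp.e_two
  have hge : g ^ e = 1 := by
    by_contra hne
    have h : g ^ e ∈ (P : Subgroup G) := centralizer_eq D hV ▸ (hgen e).2 dvd_rfl
    have h1 := Fusion.mem_centralizer_of_commute P D.hyp.hP h hne (Commute.self_pow g e)
    have := Nat.dvd_one.1 ((hgen 1).1 (by rwa [pow_one]))
    omega
  obtain ⟨χ, hχ⟩ := hB
  have hzero : ∀ k : ℕ, ¬ e ∣ k → (χ : G → ℂ) (g ^ k) = 0 := fun k hk =>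
    D.Xb_apply_eq_zero hχ (pow_mem hgN k) (mt (hgen k).1 hk)
  have hdeg := D.Xb_deg χ hχ
  obtain ⟨N, ρ, -, hρ⟩ := χ.2
  obtain ⟨ι, hι, B, ε, hB, -, hεchar, -⟩ := CfsgLib.Char.exists_char_eigen ρ g
  have hεe : ∀ i, ε i ^ e = 1 := by
    intro i
    have h1 : ∀ k : ℕ, (ρ g ^ k) (B i) = ε i ^ k • B i := fun k => by
      induction k with
      | zero => simp
      | succ k ih => rw [pow_succ', Module.End.mul_apply, ih, map_smul, hB, smul_smul, pow_succ]
    have h2 := h1 e
    rw [← map_pow, hge, map_one, Module.End.one_apply] at h2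
    exact smul_left_injective ℂ (B.ne_zero i) (h2.symm.trans (one_smul ℂ _).symm)
  have hprim := Complex.isPrimitiveRoot_exp e (by omega)
  set ζ := Complex.exp (2 * Real.pi * Complex.I / e)
  have hprod := Kernel.prod_eq_of_pow_sums (o := e) (by omega) ε
    (fun x : Fin e × Fin t => ζ ^ (x.1 : ℕ)) hεe
    (fun x => by rw [← pow_mul, mul_comm, pow_mul, hprim.pow_eq_one, one_pow]) fun k => by
      rw [Fintype.sum_prod_type, Finset.sum_congr rfl (g := fun i : Fin e => (t : ℂ) * (ζ ^ k) ^ (i : ℕ))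
        fun i _ => by
          show ∑ _j : Fin t, (ζ ^ (i : ℕ)) ^ k = _
          rw [Finset.sum_const, Finset.card_univ, Fintype.card_fin, nsmul_eq_mul, ← pow_mul,
            ← pow_mul, mul_comm k],
        ← Finset.mul_sum, Fin.sum_univ_eq_sum_range (fun i => (ζ ^ k) ^ i) e, ← hεchar k, hρ]
      by_cases hk : e ∣ k
      · obtain ⟨j, rfl⟩ := hk
        rw [pow_mul, hge, one_pow, hdeg, pow_mul, hprim.pow_eq_one, one_pow]
        simp only [one_pow, Finset.sum_const, Finset.card_range, nsmul_eq_mul, mul_one]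
        rw [← Nat.cast_mul, ← D.hte, Nat.add_sub_cancel]
      · rw [hzero k hk, geom_sum_eq (fun h => hk (hprim.pow_eq_one_iff_dvd k |>.1 h)), ← pow_mul,
          mul_comm k, pow_mul, hprim.pow_eq_one, one_pow, sub_self, zero_div, mul_zero]
  have hdet : LinearMap.det (ρ g) = ∏ i, ε i := by
    rw [← LinearMap.det_toMatrix B, show LinearMap.toMatrix B B (ρ g) = Matrix.diagonal ε from ?_,
      Matrix.det_diagonal]
    ext i j
    rw [LinearMap.toMatrix_apply, hB, map_smul, B.repr_self, Finsupp.smul_single, smul_eq_mul,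
      mul_one, Finsupp.single_apply, Matrix.diagonal_apply]
    by_cases hij : i = j
    · rw [if_pos hij.symm, if_pos hij, hij]
    · rw [if_neg (Ne.symm hij), if_neg hij]
  have hdet1 : LinearMap.det (ρ g) = 1 := by
    let L : G →* ℂ := LinearMap.det.comp ρ
    have hker : L.toHomUnits.ker = ⊤ :=
      top_le_iff.1 (D.hyp.perfect ▸ Abelianization.commutator_subset_ker L.toHomUnits)
    exact congrArg Units.val (MonoidHom.mem_ker.1 (hker ▸ Subgroup.mem_top g))
  rw [hdet, hprod, Fintype.prod_prod_type] at hdet1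
  simp only [Finset.prod_const, Finset.card_univ, Fintype.card_fin] at hdet1
  rw [Finset.prod_pow, Fin.prod_univ_eq_prod_range (fun i => ζ ^ i) e, Finset.prod_pow_eq_pow_sum,
    Finset.sum_range_id] at hdet1
  have hneg : ζ ^ m = -1 := by
    refine (sq_eq_one_iff.1 ?_).resolve_left (hprim.pow_ne_one_of_pos_of_lt (by omega) (by omega))
    rw [← pow_mul, mul_two, ← hm, hprim.pow_eq_one]
  have hidx : e * (e - 1) / 2 = m * (e - 1) := by
    rw [show e * (e - 1) = m * (e - 1) * 2 by rw [hm]; ring, Nat.mul_div_cancel _ two_pos]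
  rw [hidx, pow_mul, hneg, ← pow_mul, neg_one_pow_eq_one_iff_even (by norm_num : (-1 : ℂ) ≠ 1)] at hdet1
  exact (Nat.even_mul.1 hdet1).resolve_left (Nat.not_even_iff_odd.2 ⟨m - 1, by omega⟩)

/-- The exceptional family of degree `p + a` with `b` members. -/
theorem case_two_one (D : Data M P n e V t a b f d₀ σ Xa Xn Xb Xc Y) (hf : f = 1) (h2 : f * t = b)
    (hσ : σ = 1) : Wrap.Listed G p := by
  classical
  haveI := D.hyp.simple
  have ha := D.a_two
  have hab := D.hab
  have hal := D.a_le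
  obtain ⟨ht, he, hd⟩ : 2 ≤ t ∧ e = a ∧ d₀ = p + a := by
    rcases D.alt with h | h | h | h | h
    · omega
    · omega
    · exact ⟨h.1, by rw [h.2.2.1, hf, mul_one], by rw [h.2.2.2.1, hf, one_mul]⟩
    · omega
    · omega
  subst e
  rw [hf, one_mul] at h2
  subst t
  have hY : Y.Nonempty := Finset.card_pos.1 (by rw [D.card_Y ht]; omega)
  have hV := D.V_eq_bot_of_fix hY hf.le
  have hC := centralizer_eq D hV
  have hXn := D.Xn_empty hV ht
  have hn := D.n_eq
  have hN := D.N_eq
  have hG : Nat.card G = p * a * (1 + n * p) := by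
    rw [D.hyp.card_G, hV, Subgroup.card_bot, mul_one]
  have hlt : a < b := by
    refine lt_of_le_of_ne hal fun hab' => ?_
    have hea : Even a := by
      obtain ⟨j, hj⟩ := D.p_odd
      have : Even (a * b) := ⟨j, by omega⟩
      rw [← hab', Nat.even_mul, or_self] at this
      exact this
    have hev := Fusion.even_card_sylow D.hyp.perfect P D.hyp.hP
      (by rw [D.hyp.hn, pow_two]; have := Nat.mul_le_mul_right p D.hyp.n_lt; rw [Nat.succ_mul] at this
          have := hpf.out.two_le; omega)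
      (by rw [D.hyp.e_eq]; exact hea)
    rw [D.hyp.hn, Nat.even_add, Nat.even_mul] at hev
    have hnev : Even n := by
      rw [show n = a * b by omega, Nat.even_mul]
      exact Or.inl hea
    exact Nat.not_even_one (hev.2 (Or.inl hnev))
  have hXc : Xc = ∅ := by
    by_contra hne
    have := Nat.le_of_dvd (by omega) (D.b_dvd (Finset.nonempty_iff_ne_empty.2 hne))
    omega
  have hcount := D.count ht
  rw [hXn, hXc, Finset.card_empty, add_zero, add_zero] at hcount
  have hpb : b ≤ p := by have := Nat.le_mul_of_pos_left b (by omega : 0 < a); omega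
  have hA : Xa.card = 1 := by
    have hdeg := D.deg_eq
    rw [hXn, hXc, hd, hσ, Finset.card_empty] at hdeg
    push_cast [Nat.cast_sub hpb, Nat.cast_sub (show 1 ≤ p from hpf.out.one_le)] at hdeg
    have hp' : (p : ℤ) = (a : ℤ) * b + 1 := by exact_mod_cast hab.symm
    have hB' : (Xb.card : ℤ) = a - 1 - Xa.card := by
      have : ((Xa.card + Xb.card + 1 : ℕ) : ℤ) = (a : ℤ) := by exact_mod_cast hcount
      push_cast at this
      linarith
    rw [hp', hB'] at hdeg
    have h : (a : ℤ) * (((Xa.card : ℤ) - 1) * ((a : ℤ) * b + 1)) = 0 := by linear_combination hdeg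
    rcases mul_eq_zero.1 h with h | h
    · omega
    rcases mul_eq_zero.1 h with h | h
    · omega
    · have : (0 : ℤ) < (a : ℤ) * b + 1 := by positivity
      omega
  obtain ⟨χ, hXa⟩ := Finset.card_eq_one.1 hA
  have hχ : χ ∈ Xa := by rw [hXa]; exact Finset.mem_singleton_self χ
  have hB : Xb.card + 2 = a := by omega
  have hval : ∀ x ∈ (P : Subgroup G), x ≠ 1 → (χ : G → ℂ) x = 1 := fun x hx hx1 => by
    have := D.Xa_val χ hχ x hx hx1 1 (one_mem _)
    rwa [mul_one] at this
  rcases eq_or_lt_of_le ha with ha2 | ha3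
  · -- `PSL(2, p + 1)`
    subst ha2
    have hXb : Xb = ∅ := Finset.card_eq_zero.1 (by omega)
    obtain ⟨η, hη⟩ := hY
    have hp3 : 3 < p := by omega
    obtain ⟨hk, hF⟩ := psl_succ hpf.out hp3
      (show Nat.card G = p * (p + 1) * (p + 2) by
        rw [hG, hN, show p + 1 = 2 * (p - b) by omega]; ring)
      χ η (by rw [D.Xa_deg χ hχ, show 2 * (p - b) = p + 1 by omega])
      (by rw [D.Y_deg η hη, hd])
      (fun g hg => by
        obtain ⟨x, hx, hx1, hc⟩ := singular_conj D hV hg
        rw [Char.isClassFunction_isConj (Char.irr_isClassFunction χ.2) hc]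
        exact hval x hx hx1)
      (fun g hg => by
        have h := D.relation η hη g hg
        rw [hXa, hXn, hXc, hXb, hσ] at h
        simp at h
        exact h.symm)
    exact Or.inr (Or.inr (Or.inr ⟨hp3, hk, hF⟩))
  obtain ⟨ψ, hψ⟩ : Xb.Nonempty := Finset.card_pos.1 (by omega)
  have hb : b = a + 1 := by
    have hdvd : p - 1 ∣ Nat.card G := by
      have h := BlockB.irr_degree_dvd_card ψ
      rwa [show Cfsg.charDegree (ψ : G → ℂ) = p - 1 from
        by exact_mod_cast (BlockB.irr_degree_cast ψ).trans (D.Xb_deg ψ hψ)] at h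
    rw [hG, hN] at hdvd
    obtain ⟨k, hk⟩ := hdvd
    rw [show p - 1 = a * b by omega] at hk
    have hk' : (p : ℤ) * ((p + a) * (p - b)) = b * k := by
      have h : ((p * a * ((p + a) * (p - b)) : ℕ) : ℤ) = ((a * b * k : ℕ) : ℤ) := by rw [hk]
      push_cast [Nat.cast_sub hpb] at h
      exact mul_left_cancel₀ (show (a : ℤ) ≠ 0 by omega) (by linear_combination h)
    have hd1 : (b : ℤ) ∣ ((a + 1 : ℕ) : ℤ) := by
      have hp' : (p : ℤ) = (a : ℤ) * b + 1 := by exact_mod_cast hab.symm
      refine ⟨(k : ℤ) - ((a : ℤ) * ((p + 1) * (p + a) + 1) - p * (p + a)), ?_⟩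
      rw [hp'] at hk' ⊢
      push_cast
      linear_combination hk'
    have := Nat.le_of_dvd (by omega) (Int.natCast_dvd_natCast.1 hd1)
    omega
  subst hb
  have hp2 : a ^ 2 + a + 1 = p := by rw [← hab]; ring
  have hodd : Odd a := by
    by_contra hev
    rw [Nat.not_odd_iff_even] at hev
    exact Nat.not_even_iff_odd.2 hev.add_one (even_t D hV ⟨ψ, hψ⟩ hev)
  have hcard : Nat.card G = a ^ 3 * (a + 1) ^ 2 * p := by
    rw [hG, hN, show p + a = (a + 1) ^ 2 by rw [← hp2]; ring,
      show p - (a + 1) = a ^ 2 by omega]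
    ring
  rcases Nat.lt_or_ge a 5 with ha5 | ha5
  · -- `PSL(3, 3)`
    obtain rfl : a = 3 := by
      rcases hodd with ⟨j, hj⟩; omega
    obtain rfl : p = 13 := by omega
    haveI : Fact (Nat.Prime 3) := ⟨Nat.prime_three⟩
    exact Or.inr (Or.inl ⟨rfl, ZMod 3, inferInstance, inferInstance, ZMod.card 3,
      StructC.LThreeByOrder.equiv_psl (by rw [hcard]; norm_num)⟩)
  exfalso
  refine keyData_false (P := P) (a := a) (χ := χ) (Ψ := Xb) (Y := Y)
    { ha := hodd
      ha5 := ha5
      hp := hp2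
      hP := D.hyp.hP
      hC := hC
      hN := ?_
      hcard := hcard
      card_Ψ := hB
      card_Y := D.card_Y ht
      χ_deg := ?_
      Ψ_deg := ?_
      Y_deg := ?_
      χ_val := hval
      Ψ_val := fun ψ hψ x hx hx1 => by
        have := D.Xb_val ψ hψ x hx hx1 1 (one_mem _)
        rwa [mul_one] at this
      regular := D.regular
      other := fun ξ h1 hne hΨ hY' x hx hx1 => other_eq_zero D hV ?_ hx hx1 }
  · rw [D.hyp.hn, hN, show p + a = (a + 1) ^ 2 by rw [← hp2]; ring,
      show p - (a + 1) = a ^ 2 by omega, mul_comm]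
  · rw [D.Xa_deg χ hχ, show p - (a + 1) = a ^ 2 by omega, pow_succ' a 2]
  · intro ψ hψ
    rw [D.Xb_deg ψ hψ, show p - 1 = a * (a + 1) by omega]
  · intro η hη
    rw [D.Y_deg η hη, hd, show p + a = (a + 1) ^ 2 by rw [← hp2]; ring]
  · rw [D.mem, hXa, hXn, hXc]
    simp [h1, hne, hΨ, hY']

end CfsgLib.Block.NP.Data
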