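import Cfsg.Agent.Lib.Transfer.SylowAction

/-!
Fusion at a Sylow subgroup of prime order with fewer than `p ^ 2` conjugates: no element of
`N(P) \ C(P)` is conjugate into `C(P)`.
-/

set_option autoImplicit false
set_option linter.style.haveILetI false

namespace CfsgLib.Block.NP.Fusion

open Subgroup
open scoped Pointwise

universe u

variable {G : Type u} [Group G] [Finite G] {p : ℕ} [hp : Fact p.Prime]

omit [Finite G] in
/-- A non-trivial element of `P` moves every other Sylow subgroup. -/
theorem eq_of_smul_eq (P Q : Sylow p G) (hP : Nat.card P = p) {u : G}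
    (hu : u ∈ (P : Subgroup G)) (h : u • Q = Q) : u = 1 ∨ Q = P := by
  rcases eq_or_ne u 1 with h1 | h1
  · exact Or.inl h1
  refine Or.inr (Sylow.ext (P.3 Q.2 fun x hx => ?_))
  have hn : u ∈ normalizer ((Q : Subgroup G) : Set G) := Sylow.smul_eq_iff_mem_normalizer.1 h
  have huQ : u ∈ (Q : Subgroup G) := by
    have hm : u ∈ (P : Subgroup G) ⊓ normalizer ((Q : Subgroup G) : Set G) := ⟨hu, hn⟩
    exact ((P.2.inf_normalizer_sylow Q).le hm).2
  obtain ⟨i, rfl⟩ : ∃ i : ℤ, u ^ i = x := by
    have := mem_zpowers_of_prime_card (g := (⟨u, hu⟩ : P)) (g' := ⟨x, hx⟩) hP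
      (fun hh => h1 (congrArg Subtype.val hh))
    obtain ⟨i, hi⟩ := mem_zpowers_iff.1 this
    exact ⟨i, congrArg Subtype.val hi⟩
  exact zpow_mem huQ i

omit [Finite G] in
/-- If an element of `N(P)` commutes with a non-trivial element of `P` it centralizes `P`. -/
theorem mem_centralizer_of_commute (P : Sylow p G) (hP : Nat.card P = p) {x u : G}
    (hu : u ∈ (P : Subgroup G)) (h1 : u ≠ 1) (h : Commute x u) :
    x ∈ centralizer ((P : Subgroup G) : Set G) := by
  refine mem_centralizer_iff.2 fun y hy => ?_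
  obtain ⟨i, hi⟩ := mem_zpowers_iff.1 (mem_zpowers_of_prime_card (g := (⟨u, hu⟩ : P))
    (g' := ⟨y, hy⟩) hP (fun hh => h1 (congrArg Subtype.val hh)))
  rw [show y = u ^ i from (congrArg Subtype.val hi).symm]
  exact ((h.zpow_right i).eq).symm

/-- An element of `N(P) \ C(P)` fixes at most one point in each regular `P`-orbit. -/
theorem fixed_le (P : Sylow p G) (hP : Nat.card P = p) {x : G}
    (hxN : x ∈ normalizer ((P : Subgroup G) : Set G))
    (hx : x ∉ centralizer ((P : Subgroup G) : Set G)) :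
    (Nat.card {Q : Sylow p G // x • Q = Q} - 1) * p + 1 ≤ Nat.card (Sylow p G) := by
  classical
  let F := {Q : Sylow p G // x • Q = Q ∧ Q ≠ P}
  let f : F × P → {Q : Sylow p G // Q ≠ P} := fun a => ⟨(a.2 : G) • a.1.1, fun he =>
    a.1.2.2 (by
      have hP' : (a.2 : G) • P = P :=
        Sylow.smul_eq_iff_mem_normalizer.2 (le_normalizer a.2.2)
      exact MulAction.injective (a.2 : G) (he.trans hP'.symm))⟩
  have hf : Function.Injective f := by
    rintro ⟨⟨Q, hQ, hQP⟩, u⟩ ⟨⟨R, hR, hRP⟩, v⟩ he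
    have he' : (u : G) • Q = (v : G) • R := congrArg Subtype.val he
    set w : G := (v : G)⁻¹ * u
    have hw : w • Q = R := by rw [mul_smul, he', inv_smul_smul]
    have hwP : w ∈ (P : Subgroup G) := mul_mem (inv_mem v.2) u.2
    have hconj : x * w * x⁻¹ ∈ (P : Subgroup G) := (mem_normalizer_iff.1 hxN w).1 hwP
    have hcw : (x * w * x⁻¹) • Q = R := by
      have hxi : x⁻¹ • Q = Q := inv_smul_eq_iff.2 hQ.symm
      rw [mul_smul, mul_smul, hxi, hw, hR]
    have h2 : (w⁻¹ * (x * w * x⁻¹)) • Q = Q := by rw [mul_smul, hcw, ← hw, inv_smul_smul]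
    have h3 : w⁻¹ * (x * w * x⁻¹) = 1 :=
      (eq_of_smul_eq P Q hP (mul_mem (inv_mem hwP) hconj) h2).resolve_right hQP
    have hw1 : w = 1 := by
      by_contra hne
      refine hx (mem_centralizer_of_commute P hP hwP hne ?_)
      have h4 : x * w * x⁻¹ = w := (inv_mul_eq_one.1 h3).symm
      exact mul_inv_eq_iff_eq_mul.1 h4
    have huv : u = v := Subtype.ext (inv_mul_eq_one.1 hw1).symm
    subst huv
    have hQR : Q = R := MulAction.injective (u : G) he'
    subst hQR
    rfl
  have hle := Nat.card_le_card_of_injective f hf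
  rw [Nat.card_prod, hP] at hle
  have hFix : Nat.card {Q : Sylow p G // x • Q = Q} = Nat.card F + 1 := by
    have hPx : x • P = P := Sylow.smul_eq_iff_mem_normalizer.2 hxN
    haveI := Fintype.ofFinite (Sylow p G)
    rw [Nat.card_eq_fintype_card, Nat.card_eq_fintype_card, Fintype.card_subtype,
      Fintype.card_subtype]
    rw [← Finset.card_erase_add_one (a := P) (s := Finset.univ.filter fun Q => x • Q = Q)
      (by simpa using hPx)]
    congr 2
    ext Q
    simp [and_comm]
  have hne : Nat.card {Q : Sylow p G // Q ≠ P} + 1 = Nat.card (Sylow p G) := by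
    haveI := Fintype.ofFinite (Sylow p G)
    rw [Nat.card_eq_fintype_card, Nat.card_eq_fintype_card, Fintype.card_subtype_compl,
      Fintype.card_subtype_eq]
    have := Fintype.card_pos_iff.2 (⟨P⟩ : Nonempty (Sylow p G))
    omega
  rw [hFix, Nat.add_sub_cancel]
  omega

/-- Fewer than `p ^ 2` Sylow subgroups: an element of `N(P)` conjugate into `C(P)` is in `C(P)`. -/
theorem mem_centralizer_of_isConj (P : Sylow p G) (hP : Nat.card P = p)
    (hN : Nat.card (Sylow p G) < p ^ 2) {v x : G}
    (hv : v ∈ centralizer ((P : Subgroup G) : Set G))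
    (hxN : x ∈ normalizer ((P : Subgroup G) : Set G)) (hc : IsConj v x) :
    x ∈ centralizer ((P : Subgroup G) : Set G) := by
  classical
  by_contra hx
  haveI := Fintype.ofFinite (Sylow p G)
  obtain ⟨g, hg⟩ := isConj_iff.1 hc
  have hmod := CfsgLib.Transfer.fixed_sylow_modEq_one P hv
  rw [← Fintype.card_subtype, ← Nat.card_eq_fintype_card] at hmod
  have hxv : ∀ Q : Sylow p G, x • (g • Q) = g • Q ↔ v • Q = Q := fun Q => by
    rw [← hg, mul_smul, mul_smul, inv_smul_smul, (MulAction.injective g).eq_iff]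
  let eF : {Q : Sylow p G // v • Q = Q} ≃ {Q : Sylow p G // x • Q = Q} :=
    (MulAction.toPerm g).subtypeEquiv fun Q => (hxv Q).symm
  have hle := fixed_le P hP hxN hx
  rw [← Nat.card_congr eF] at hle
  have hone : Nat.card {Q : Sylow p G // v • Q = Q} = 1 := by
    generalize hf : Nat.card {Q : Sylow p G // v • Q = Q} = f at hmod hle
    have hlt : (f - 1) * p + 1 < p * p := by rw [← sq]; omega
    have hfp : f - 1 < p := by
      by_contra hh
      push Not at hh
      have := Nat.mul_le_mul_right p hh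
      omega
    have h1 := Nat.div_add_mod f p
    rcases Nat.eq_zero_or_pos (f / p) with h0 | h0
    · rw [h0, mul_zero] at h1; omega
    · have := Nat.le_mul_of_pos_right p h0
      omega
  rw [Nat.card_eq_one_iff_unique] at hone
  have hvP : v • P = P := Sylow.smul_eq_iff_mem_normalizer.2 (centralizer_le_normalizer _ hv)
  have hgP : v • (g⁻¹ • P) = g⁻¹ • P := (hxv _).1 (by
    rw [smul_inv_smul]
    exact Sylow.smul_eq_iff_mem_normalizer.2 hxN)
  have heq : g⁻¹ • P = P :=
    congrArg Subtype.val (hone.1.elim (⟨_, hgP⟩ : {Q : Sylow p G // v • Q = Q}) ⟨P, hvP⟩)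
  have hgN : g ∈ normalizer ((P : Subgroup G) : Set G) :=
    inv_inv g ▸ inv_mem (Sylow.smul_eq_iff_mem_normalizer.1 heq)
  refine hx (mem_centralizer_iff.2 fun y hy => ?_)
  have hy' : g⁻¹ * y * g ∈ ((P : Subgroup G) : Set G) :=
    (mem_normalizer_iff''.1 hgN y).1 hy
  have := mem_centralizer_iff.1 hv _ hy'
  rw [← hg]
  calc y * (g * v * g⁻¹) = g * ((g⁻¹ * y * g) * v) * g⁻¹ := by group
    _ = g * (v * (g⁻¹ * y * g)) * g⁻¹ := by rw [this]
    _ = g * v * g⁻¹ * y := by group

end CfsgLib.Block.NP.Fusion
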