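import Cfsg.Agent.Lib.Block.NP.Setup
import Cfsg.Agent.Lib.Block.NP.Fusion
import Cfsg.Agent.Lib.Char.Diag
import Cfsg.Agent.Lib.Char.Basic
import Cfsg.Prelude.Def_Characters
import Mathlib

/-!
A character which is constant on the sections of a Sylow subgroup `P` of order `p` and has at most
a one-dimensional space of fixed points of `P` kills the `p`-regular part of `C(P)`.
-/

set_option autoImplicit false
set_option linter.unusedSectionVars false
set_option linter.style.haveILetI false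

namespace CfsgLib.Block.NP.Kernel

open Module

universe u

/-- Families of roots of unity with equal power sums have equal products. -/
theorem prod_eq_of_pow_sums {ι κ : Type*} [Fintype ι] [Fintype κ] {o : ℕ} (ho : 0 < o) (μ : ι → ℂ)
    (ν : κ → ℂ) (hμ : ∀ i, μ i ^ o = 1) (hν : ∀ i, ν i ^ o = 1)
    (h : ∀ k : ℕ, ∑ i, μ i ^ k = ∑ i, ν i ^ k) : ∏ i, μ i = ∏ i, ν i := by
  classical
  have hgeom : ∀ x : ℂ, x ^ o = 1 → ∑ k ∈ Finset.range o, x ^ k = if x = 1 then (o : ℂ) else 0 := by
    intro x hx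
    by_cases h1 : x = 1
    · simp [h1]
    · rw [if_neg h1, geom_sum_eq h1, hx, sub_self, zero_div]
  have hcnt : ∀ (F : ι ⊕ κ → ℂ) (S : Finset (ι ⊕ κ)) (ζ : ℂ), (∀ i ∈ S, F i ^ o = 1) → ζ ^ o = 1 →
      (o : ℂ) * ((S.filter fun i => F i = ζ).card : ℂ) =
        ∑ k ∈ Finset.range o, (∑ i ∈ S, F i ^ k) * (ζ⁻¹) ^ k := by
    intro F S ζ hf hζ
    have hζ0 : ζ ≠ 0 := fun e => by rw [e, zero_pow ho.ne'] at hζ; exact zero_ne_one hζ
    calc (o : ℂ) * ((S.filter fun i => F i = ζ).card : ℂ)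
        = ∑ i ∈ S, (if F i = ζ then (o : ℂ) else 0) := by
          rw [← Finset.sum_filter, Finset.sum_const, nsmul_eq_mul, mul_comm]
      _ = ∑ i ∈ S, ∑ k ∈ Finset.range o, (F i * ζ⁻¹) ^ k := Finset.sum_congr rfl fun i hi => by
          rw [hgeom _ (by rw [mul_pow, hf i hi, inv_pow, hζ, inv_one, one_mul])]
          exact if_congr (mul_inv_eq_one₀ hζ0).symm rfl rfl
      _ = _ := by
          rw [Finset.sum_comm]
          exact Finset.sum_congr rfl fun k _ => by
            rw [Finset.sum_mul]; exact Finset.sum_congr rfl fun i _ => by rw [mul_pow]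
  have hms : (Finset.univ : Finset ι).val.map μ = (Finset.univ : Finset κ).val.map ν := by
    ext ζ
    rw [Multiset.count_map, Multiset.count_map]
    show (Finset.univ.filter fun i => ζ = μ i).card = (Finset.univ.filter fun i => ζ = ν i).card
    by_cases hζ : ζ ^ o = 1
    · have e1 := hcnt (Sum.elim μ ν) (Finset.univ.map Function.Embedding.inl) ζ
        (by simp [hμ]) hζ
      have e2 := hcnt (Sum.elim μ ν) (Finset.univ.map Function.Embedding.inr) ζ
        (by simp [hν]) hζ
      simp only [Finset.sum_map, Finset.filter_map, Finset.card_map, Function.Embedding.inl_apply,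
        Function.Embedding.inr_apply, Function.comp_def, Sum.elim_inl, Sum.elim_inr] at e1 e2
      simp only [h] at e1
      rw [← e2] at e1
      have := mul_left_cancel₀ (by exact_mod_cast ho.ne' : (o : ℂ) ≠ 0) e1
      simp only [eq_comm (a := ζ)]
      exact_mod_cast this
    · rw [Finset.filter_false_of_mem fun i _ e => hζ (by rw [e]; exact hμ i),
        Finset.filter_false_of_mem fun i _ e => hζ (by rw [e]; exact hν i)]
      simp
  show ((Finset.univ : Finset ι).val.map μ).prod = ((Finset.univ : Finset κ).val.map ν).prod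
  rw [hms]

variable {G : Type u} [Group G] [Finite G] {p : ℕ} [hp : Fact p.Prime]

/-- Perfectness of a non-commutative simple group. -/
theorem commutator_eq_top [IsSimpleGroup G] (hG : ¬ IsMulCommutative G) : commutator G = ⊤ := by
  refine (IsSimpleGroup.eq_bot_or_eq_top_of_normal _ inferInstance).resolve_left fun e =>
    hG ⟨⟨fun x y => ?_⟩⟩
  rw [← commutatorElement_eq_one_iff_mul_comm, ← Subgroup.mem_bot, ← e, commutator_def]
  exact Subgroup.commutator_mem_commutator (Subgroup.mem_top x) (Subgroup.mem_top y)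

/-- A non-trivial irreducible character of a simple group takes its degree only at `1`. -/
theorem eq_one_of_value [IsSimpleGroup G] (χ : Cfsg.IrrCharacter G)
    (hχ : (χ : G → ℂ) ≠ fun _ => 1) {v : G} (hv : (χ : G → ℂ) v = (χ : G → ℂ) 1) : v = 1 := by
  obtain ⟨n, ρ, hirr, hρ⟩ := χ.2
  rw [← hρ, Representation.char_one] at hv
  have hid := (CfsgLib.Char.char_eq_finrank_iff ρ v).1 hv
  let K : Subgroup G :=
    { carrier := {g | ρ g = LinearMap.id}
      one_mem' := map_one ρ
      mul_mem' := fun {x y} hx hy => by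
        show ρ (x * y) = LinearMap.id
        rw [map_mul, show ρ x = LinearMap.id from hx, show ρ y = LinearMap.id from hy]; rfl
      inv_mem' := fun {x} hx => by
        show ρ x⁻¹ = LinearMap.id
        have h : ρ x⁻¹ * ρ x = 1 := by rw [← map_mul, inv_mul_cancel, map_one]
        rw [show ρ x = 1 from hx, mul_one] at h
        exact h }
  haveI : K.Normal := ⟨fun x hx y => by
    show ρ (y * x * y⁻¹) = LinearMap.id
    rw [map_mul, map_mul, show ρ x = 1 from hx, mul_one, ← map_mul, mul_inv_cancel, map_one]; rfl⟩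
  rcases IsSimpleGroup.eq_bot_or_eq_top_of_normal K inferInstance with h | h
  · exact Subgroup.mem_bot.1 (h ▸ (hid : v ∈ K))
  · exfalso
    have hall : ∀ g : G, ρ g = LinearMap.id := fun g => (h ▸ Subgroup.mem_top g : g ∈ K)
    have hval : ∀ g : G, (χ : G → ℂ) g = (finrank ℂ (Fin n → ℂ) : ℂ) := fun g => by
      rw [← hρ]; exact (CfsgLib.Char.char_eq_finrank_iff ρ g).2 (hall g)
    haveI := CfsgLib.Char.nontrivial_of_isIrreducible ρ
    obtain ⟨x, hx⟩ := exists_ne (0 : Fin n → ℂ)
    let W : Subrepresentation ρ :=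
      { toSubmodule := ℂ ∙ x
        apply_mem_toSubmodule := fun g w hw => by rw [hall g]; exact hw }
    rcases eq_bot_or_eq_top W with hW | hW
    · exact hx (Submodule.mem_bot ℂ |>.1 (by
        have : W.toSubmodule = ⊥ := by rw [hW]; rfl
        exact this ▸ Submodule.mem_span_singleton_self x))
    · refine hχ (funext fun g => ?_)
      have htop : (ℂ ∙ x) = ⊤ := by
        have : W.toSubmodule = ⊤ := by rw [hW]; rfl
        exact this
      have h1 := finrank_span_singleton (K := ℂ) hx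
      rw [htop, finrank_top] at h1
      rw [hval g, h1, Nat.cast_one]

/-- The `p`-regular part of `C(P)` is killed by a character constant on the sections of `P` with at
most one fixed line of `P`. -/
theorem eq_one_of_fixed_le_one [IsSimpleGroup G] (hG : ¬ IsMulCommutative G) (P : Sylow p G)
    (hP : Nat.card P = p) (χ : Cfsg.IrrCharacter G) (hχ : (χ : G → ℂ) ≠ fun _ => 1) {v : G}
    (hv : v ∈ Subgroup.centralizer ((P : Subgroup G) : Set G)) (hvp : (orderOf v).Coprime p)
    (hsec : ∀ u ∈ (P : Subgroup G), u ≠ 1 → ∀ k : ℕ, (χ : G → ℂ) (u * v ^ k) = (χ : G → ℂ) u)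
    {f : ℕ} (hf : f ≤ 1) (hfix : ∑ᶠ u : (P : Subgroup G), (χ : G → ℂ) u = (f : ℂ) * p) : v = 1 := by
  classical
  have := Fintype.ofFinite G
  haveI : Fintype (P : Subgroup G) := Fintype.ofFinite _
  refine eq_one_of_value χ hχ ?_
  rw [finsum_eq_sum_of_fintype] at hfix
  obtain ⟨n, ρ, -, hρ⟩ := χ.2
  have hpc : (p : ℂ) ≠ 0 := by exact_mod_cast hp.out.ne_zero
  have hcard : Fintype.card (P : Subgroup G) = p := Nat.card_eq_fintype_card.symm.trans hP
  set e : Module.End ℂ (Fin n → ℂ) := (p : ℂ)⁻¹ • ∑ u : (P : Subgroup G), ρ (u : G) with he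
  have htr : ∀ k : ℕ, LinearMap.trace ℂ _ (e * ρ v ^ k) =
      (p : ℂ)⁻¹ * ∑ u : (P : Subgroup G), (χ : G → ℂ) ((u : G) * v ^ k) := by
    intro k
    rw [he, smul_mul_assoc, map_smul, smul_eq_mul, Finset.sum_mul, map_sum]
    refine congrArg _ (Finset.sum_congr rfl fun u _ => ?_)
    rw [← map_pow, ← map_mul, ← hρ]; rfl
  have hidem : e * e = e := by
    have hu : ∀ u : (P : Subgroup G), ρ (u : G) * (∑ w : (P : Subgroup G), ρ (w : G)) =
        ∑ w : (P : Subgroup G), ρ (w : G) := fun u => by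
      rw [Finset.mul_sum]
      exact Fintype.sum_equiv (Equiv.mulLeft u) _ _ fun w => (map_mul ρ _ _).symm
    rw [he, smul_mul_smul_comm, Finset.sum_mul, Finset.sum_congr rfl fun u _ => hu u,
      Finset.sum_const, Finset.card_univ, hcard, ← Nat.cast_smul_eq_nsmul ℂ, smul_smul, mul_assoc,
      inv_mul_cancel₀ hpc, mul_one]
  have hproj : LinearMap.IsProj (LinearMap.range e) e :=
    ⟨fun x => ⟨x, rfl⟩, fun x hx => by
      obtain ⟨y, rfl⟩ := hx
      exact LinearMap.congr_fun hidem y⟩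
  have hrank : Module.finrank ℂ (LinearMap.range e) = f := by
    have h0 := hproj.trace
    have h1 := htr 0
    rw [pow_zero, mul_one, h0] at h1
    simp only [pow_zero, mul_one] at h1
    rw [hfix, mul_comm (f : ℂ), ← mul_assoc, inv_mul_cancel₀ hpc, one_mul] at h1
    exact_mod_cast h1
  -- the scalar by which `v` acts on the fixed points
  obtain ⟨μ, hμ, hμpow⟩ : ∃ μ : ℂ, (∀ k : ℕ, LinearMap.trace ℂ _ (e * ρ v ^ k) = (f : ℂ) * μ ^ k) ∧
      μ ^ orderOf v = 1 := by
    rcases (by omega : f = 0 ∨ f = 1) with rfl | rfl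
    · refine ⟨1, fun k => ?_, one_pow _⟩
      have hbot := Submodule.finrank_eq_zero.1 hrank
      rw [LinearMap.range_eq_bot] at hbot
      rw [hbot, zero_mul, map_zero, Nat.cast_zero, zero_mul]
    · obtain ⟨w, hw, hspan⟩ := finrank_eq_one_iff'.1 hrank
      have hcomm : e * ρ v = ρ v * e := by
        rw [he, smul_mul_assoc, mul_smul_comm, Finset.sum_mul, Finset.mul_sum]
        refine congrArg _ (Finset.sum_congr rfl fun u _ => ?_)
        rw [← map_mul, ← map_mul, Subgroup.mem_centralizer_iff.1 hv u u.2]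
      obtain ⟨μ, hμw⟩ : ∃ μ : ℂ, μ • (w : Fin n → ℂ) = ρ v w := by
        have hmem : ρ v w ∈ LinearMap.range e := by
          obtain ⟨y, hy⟩ := w.2
          exact ⟨ρ v y, by rw [← hy]; exact LinearMap.congr_fun hcomm y⟩
        obtain ⟨c, hc⟩ := hspan ⟨_, hmem⟩
        exact ⟨c, congrArg Subtype.val hc⟩
      have hw0 : (w : Fin n → ℂ) ≠ 0 := fun h => hw (Subtype.ext h)
      have hpow : ∀ k : ℕ, (ρ v ^ k) (w : Fin n → ℂ) = μ ^ k • (w : Fin n → ℂ) := fun k => by
        induction k with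
        | zero => simp
        | succ k ih =>
          rw [pow_succ', Module.End.mul_apply, ih, map_smul, ← hμw, smul_smul, pow_succ]
      refine ⟨μ, fun k => ?_, ?_⟩
      · have h1 : ρ v ^ k * e = μ ^ k • e := by
          refine LinearMap.ext fun y => ?_
          obtain ⟨c, hc⟩ := hspan ⟨e y, ⟨y, rfl⟩⟩
          have hc' : c • (w : Fin n → ℂ) = e y := congrArg Subtype.val hc
          show (ρ v ^ k) (e y) = μ ^ k • e y
          rw [← hc', map_smul, hpow, smul_comm]
        have hck : e * ρ v ^ k = ρ v ^ k * e := Commute.pow_right hcomm k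
        rw [hck, h1, map_smul, hproj.trace, hrank, smul_eq_mul, mul_comm]
      · have h1 := hpow (orderOf v)
        rw [CfsgLib.Char.rep_pow_orderOf, Module.End.one_apply] at h1
        exact (smul_left_injective ℂ hw0 (h1.symm.trans (one_smul ℂ _).symm) :)
  -- the values at the powers of `v`
  have hval : ∀ k : ℕ, (χ : G → ℂ) (v ^ k) = (χ : G → ℂ) 1 - (f : ℂ) * p + (f : ℂ) * p * μ ^ k := by
    intro k
    have h1 := (htr k).symm.trans (hμ k)
    rw [inv_mul_eq_iff_eq_mul₀ hpc, ← Finset.add_sum_erase _ _ (Finset.mem_univ 1),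
      Finset.sum_congr rfl fun (u : (P : Subgroup G)) hu =>
        hsec (u : G) u.2 (fun e' => (Finset.mem_erase.1 hu).1 (Subtype.ext e')) k,
      OneMemClass.coe_one, one_mul] at h1
    have h2 := hfix
    rw [← Finset.add_sum_erase _ _ (Finset.mem_univ 1), OneMemClass.coe_one] at h2
    linear_combination h1 - h2
  rcases (by omega : f = 0 ∨ f = 1) with rfl | rfl
  · have := hval 1
    rwa [pow_one, Nat.cast_zero, zero_mul, zero_mul, sub_zero, add_zero] at this
  -- a fixed line: the determinant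
  suffices μ = 1 by
    have h := hval 1
    rwa [pow_one, this, pow_one, mul_one, sub_add_cancel] at h
  obtain ⟨ι, hι, b, ε, hb, hεpow, hεchar, -⟩ := CfsgLib.Char.exists_char_eigen ρ v
  have hprod : ∏ i, ε i = μ ^ p := by
    have h := prod_eq_of_pow_sums (orderOf_pos v) (Sum.elim ε fun _ : Fin p => (1 : ℂ))
      (Sum.elim (fun _ : Fin n => (1 : ℂ)) fun _ : Fin p => μ)
      (by rintro (i | i) <;> simp [hεpow]) (by rintro (i | i) <;> simp [hμpow]) fun k => by
        rw [Fintype.sum_sum_type, Fintype.sum_sum_type]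
        have h := hval k
        rw [← hρ, Representation.char_one, hεchar k] at h
        simp only [Sum.elim_inl, Sum.elim_inr, one_pow, Finset.sum_const, Finset.card_univ,
          Fintype.card_fin, nsmul_eq_mul, mul_one]
        rw [h, Module.finrank_fin_fun, Nat.cast_one, one_mul]
        ring
    rw [Fintype.prod_sum_type, Fintype.prod_sum_type] at h
    simpa using h
  have hdet : LinearMap.det (ρ v) = ∏ i, ε i := by
    rw [← LinearMap.det_toMatrix b, show LinearMap.toMatrix b b (ρ v) = Matrix.diagonal ε from ?_,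
      Matrix.det_diagonal]
    ext i j
    rw [LinearMap.toMatrix_apply, hb, map_smul, b.repr_self, Finsupp.smul_single, smul_eq_mul,
      mul_one, Finsupp.single_apply, Matrix.diagonal_apply]
    by_cases hij : i = j
    · rw [if_pos hij.symm, if_pos hij, hij]
    · rw [if_neg (Ne.symm hij), if_neg hij]
  have hdet1 : LinearMap.det (ρ v) = 1 := by
    let D : G →* ℂ := LinearMap.det.comp ρ
    have hker : D.toHomUnits.ker = ⊤ :=
      top_le_iff.1 (commutator_eq_top hG ▸ Abelianization.commutator_subset_ker D.toHomUnits)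
    exact congrArg Units.val (MonoidHom.mem_ker.1 (hker ▸ Subgroup.mem_top v))
  rw [hdet, hprod] at hdet1
  have hg := pow_gcd_eq_one.2 ⟨hμpow, hdet1⟩
  rwa [hvp.gcd_eq_one, pow_one] at hg

/-- A character without fixed points of `P` vanishes on `N(P) \ C(P)`. -/
theorem apply_eq_zero_of_fixed_zero (P : Sylow p G) (hP : Nat.card P = p) (χ : Cfsg.IrrCharacter G)
    (hfix : ∑ᶠ u : (P : Subgroup G), (χ : G → ℂ) u = 0) {x : G}
    (hxN : x ∈ Subgroup.normalizer ((P : Subgroup G) : Set G))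
    (hx : x ∉ Subgroup.centralizer ((P : Subgroup G) : Set G)) : (χ : G → ℂ) x = 0 := by
  classical
  haveI : Fintype (P : Subgroup G) := Fintype.ofFinite _
  rw [finsum_eq_sum_of_fintype] at hfix
  obtain ⟨n, ρ, -, hρ⟩ := χ.2
  have hpc : (p : ℂ) ≠ 0 := by exact_mod_cast hp.out.ne_zero
  have hcard : Fintype.card (P : Subgroup G) = p := Nat.card_eq_fintype_card.symm.trans hP
  set e : Module.End ℂ (Fin n → ℂ) := (p : ℂ)⁻¹ • ∑ u : (P : Subgroup G), ρ (u : G) with he
  have hidem : e * e = e := by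
    have hu : ∀ u : (P : Subgroup G), ρ (u : G) * (∑ w : (P : Subgroup G), ρ (w : G)) =
        ∑ w : (P : Subgroup G), ρ (w : G) := fun u => by
      rw [Finset.mul_sum]
      exact Fintype.sum_equiv (Equiv.mulLeft u) _ _ fun w => (map_mul ρ _ _).symm
    rw [he, smul_mul_smul_comm, Finset.sum_mul, Finset.sum_congr rfl fun u _ => hu u,
      Finset.sum_const, Finset.card_univ, hcard, ← Nat.cast_smul_eq_nsmul ℂ, smul_smul, mul_assoc,
      inv_mul_cancel₀ hpc, mul_one]
  have hproj : LinearMap.IsProj (LinearMap.range e) e :=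
    ⟨fun x => ⟨x, rfl⟩, fun x hx => by
      obtain ⟨y, rfl⟩ := hx
      exact LinearMap.congr_fun hidem y⟩
  have h0 : (Module.finrank ℂ (LinearMap.range e) : ℂ) = 0 := by
    rw [← hproj.trace, he, map_smul, map_sum, smul_eq_mul]
    rw [show ∑ u : (P : Subgroup G), LinearMap.trace ℂ _ (ρ (u : G)) = 0 by
      rw [← hfix]; exact Finset.sum_congr rfl fun u _ => by rw [← hρ]; rfl, mul_zero]
  have he0 : e = 0 := LinearMap.range_eq_bot.1 (Submodule.finrank_eq_zero.1 (by exact_mod_cast h0))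
  have hsum : ∑ u : (P : Subgroup G), (χ : G → ℂ) ((u : G) * x) = 0 := by
    have h1 : LinearMap.trace ℂ _ (e * ρ x) = 0 := by rw [he0, zero_mul, map_zero]
    rw [he, smul_mul_assoc, map_smul, Finset.sum_mul, map_sum, smul_eq_mul, mul_eq_zero,
      or_iff_right (inv_ne_zero hpc)] at h1
    rw [← h1]
    exact Finset.sum_congr rfl fun u _ => by rw [← map_mul, ← hρ]; rfl
  -- the coset is one class under `P`
  let c : ↥(P : Subgroup G) → ↥(P : Subgroup G) := fun w =>
    w * (⟨x * (w : G)⁻¹ * x⁻¹, (Subgroup.mem_normalizer_iff.1 hxN _).1 (inv_mem w.2)⟩ :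
      (P : Subgroup G))
  have hc : ∀ w, ((c w : (P : Subgroup G)) : G) * x = (w : G) * x * (w : G)⁻¹ := fun w => by
    show (w : G) * (x * (w : G)⁻¹ * x⁻¹) * x = _
    group
  have hinj : Function.Injective c := fun w w' e' => by
    by_contra hne
    have h1 : (w : G) * x * (w : G)⁻¹ = (w' : G) * x * (w' : G)⁻¹ := by rw [← hc, ← hc, e']
    refine hx (Fusion.mem_centralizer_of_commute P hP (u := (w' : G)⁻¹ * w)
      (mul_mem (inv_mem w'.2) w.2) (fun h => hne (Subtype.ext (inv_mul_eq_one.1 h).symm)) ?_)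
    show x * ((w' : G)⁻¹ * w) = (w' : G)⁻¹ * w * x
    calc x * ((w' : G)⁻¹ * w) = (w' : G)⁻¹ * ((w' : G) * x * (w' : G)⁻¹) * w := by group
      _ = (w' : G)⁻¹ * w * x := by rw [← h1]; group
  rw [← (Finite.injective_iff_bijective.1 hinj).sum_comp] at hsum
  rw [Finset.sum_congr rfl fun w _ => show (χ : G → ℂ) ((c w : G) * x) = (χ : G → ℂ) x by
    rw [hc]
    exact (Char.isClassFunction_isConj (Char.irr_isClassFunction χ.2)
      (isConj_iff.2 ⟨(w : G), rfl⟩)).symm, Finset.sum_const, Finset.card_univ, hcard, nsmul_eq_mul,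
    mul_eq_zero, or_iff_right hpc] at hsum
  exact hsum

end CfsgLib.Block.NP.Kernel

namespace CfsgLib.Block.NP.Data

open Cfsg CfsgLib CfsgLib.Block

universe u

variable {G : Type u} [Group G] [Finite G] {p : ℕ} [hpf : Fact p.Prime]
  {M : Ideal AlgInt} {P : Sylow p G} {n e : ℕ} {V : Subgroup G} {t a b f d₀ : ℕ}
  {σ : ℤ} {Xa Xn Xb Xc Y : Finset (IrrCharacter G)}

theorem not_comm (D : Data M P n e V t a b f d₀ σ Xa Xn Xb Xc Y) : ¬ IsMulCommutative G := fun h => by
  haveI := h
  haveI := D.hyp.simple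
  have hbot : commutator G = ⊥ := by
    rw [commutator_def, Subgroup.commutator_eq_bot_iff_le_centralizer]
    exact fun x _ => Subgroup.mem_centralizer_iff.2 fun y _ => mul_comm' y x
  exact bot_ne_top (hbot.symm.trans D.hyp.perfect)

theorem ne_one_of_mem (D : Data M P n e V t a b f d₀ σ Xa Xn Xb Xc Y) {χ : IrrCharacter G}
    (hχ : χ ∈ Xb ∨ χ ∈ Y) : (χ : G → ℂ) ≠ fun _ => 1 := fun h => by
  have e' : χ = ⟨fun _ => 1, Char.isIrrCharacter_one⟩ := Subtype.ext h
  rcases hχ with h' | h'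
  · exact D.one_not.2.2.1 (e' ▸ h')
  · exact D.one_not.2.2.2.2 (e' ▸ h')

theorem fixed_Xb (D : Data M P n e V t a b f d₀ σ Xa Xn Xb Xc Y) {χ : IrrCharacter G}
    (hχ : χ ∈ Xb) : ∑ᶠ u : (P : Subgroup G), (χ : G → ℂ) u = 0 := by
  classical
  haveI : Fintype (P : Subgroup G) := Fintype.ofFinite _
  rw [finsum_eq_sum_of_fintype, ← Finset.add_sum_erase _ _ (Finset.mem_univ 1),
    Finset.sum_congr rfl (g := fun _ => (-1 : ℂ)) fun (u : (P : Subgroup G)) hu => by
      have := D.Xb_val χ hχ u u.2 (fun e' => (Finset.mem_erase.1 hu).1 (Subtype.ext e')) 1 (one_mem _)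
      rwa [mul_one] at this,
    Finset.sum_const, Finset.card_erase_of_mem (Finset.mem_univ _), Finset.card_univ,
    ← Nat.card_eq_fintype_card, D.hyp.hP, OneMemClass.coe_one, D.Xb_deg χ hχ, nsmul_eq_mul]
  ring

/-- A member of degree `p - 1` kills `V`. -/
theorem V_eq_bot_of_Xb (D : Data M P n e V t a b f d₀ σ Xa Xn Xb Xc Y) (h : Xb.Nonempty) :
    V = ⊥ := by
  haveI := D.hyp.simple
  obtain ⟨χ, hχ⟩ := h
  refine (Subgroup.eq_bot_iff_forall V).2 fun v hv => ?_
  obtain ⟨hvC, hvp⟩ := (D.hyp.mem_V v).1 hv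
  refine Kernel.eq_one_of_fixed_le_one D.not_comm P D.hyp.hP χ (D.ne_one_of_mem (Or.inl hχ)) hvC
    (hpf.out.coprime_iff_not_dvd.2 hvp).symm (fun u hu hu1 k => ?_) zero_le_one
    (by rw [D.fixed_Xb hχ]; simp)
  have h1 := D.Xb_val χ hχ u hu hu1 1 (one_mem _)
  rw [mul_one] at h1
  rw [D.Xb_val χ hχ u hu hu1 _ (pow_mem hv k), h1]

/-- An exceptional member with at most one fixed line of `P` kills `V`. -/
theorem V_eq_bot_of_fix (D : Data M P n e V t a b f d₀ σ Xa Xn Xb Xc Y) (hY : Y.Nonempty)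
    (hf : f ≤ 1) : V = ⊥ := by
  haveI := D.hyp.simple
  obtain ⟨χ, hχ⟩ := hY
  refine (Subgroup.eq_bot_iff_forall V).2 fun v hv => ?_
  obtain ⟨hvC, hvp⟩ := (D.hyp.mem_V v).1 hv
  exact Kernel.eq_one_of_fixed_le_one D.not_comm P D.hyp.hP χ (D.ne_one_of_mem (Or.inr hχ)) hvC
    (hpf.out.coprime_iff_not_dvd.2 hvp).symm
    (fun u hu hu1 k => D.Y_val χ hχ u hu hu1 _ (pow_mem hv k)) hf
    (by rw [D.Y_sum χ hχ]; push_cast; ring)

/-- The members of degree `p - 1` vanish on `N(P) \ C(P)`. -/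
theorem Xb_apply_eq_zero (D : Data M P n e V t a b f d₀ σ Xa Xn Xb Xc Y) {χ : IrrCharacter G}
    (hχ : χ ∈ Xb) {x : G} (hxN : x ∈ Subgroup.normalizer ((P : Subgroup G) : Set G))
    (hx : x ∉ Subgroup.centralizer ((P : Subgroup G) : Set G)) : (χ : G → ℂ) x = 0 :=
  Kernel.apply_eq_zero_of_fixed_zero P D.hyp.hP χ (D.fixed_Xb hχ) hxN hx

/-- An exceptional member without fixed points of `P` vanishes on `N(P) \ C(P)`. -/
theorem Y_apply_eq_zero (D : Data M P n e V t a b f d₀ σ Xa Xn Xb Xc Y) (hf : f = 0)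
    {χ : IrrCharacter G} (hχ : χ ∈ Y) {x : G}
    (hxN : x ∈ Subgroup.normalizer ((P : Subgroup G) : Set G))
    (hx : x ∉ Subgroup.centralizer ((P : Subgroup G) : Set G)) : (χ : G → ℂ) x = 0 :=
  Kernel.apply_eq_zero_of_fixed_zero P D.hyp.hP χ (by rw [D.Y_sum χ hχ, hf]; simp) hxN hx

/-- The square of the degree of a character is at most the group order. -/
theorem sq_degree_le (χ : IrrCharacter G) {d : ℕ} (h : (χ : G → ℂ) 1 = (d : ℂ)) :
    d * d ≤ Nat.card G := by
  classical
  have := Fintype.ofFinite G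
  have hn : ∑ g : G, (χ : G → ℂ) g * (starRingEnd ℂ) ((χ : G → ℂ) g) = (Nat.card G : ℂ) := by
    have h := Char.irr_classInner_self χ.2
    rw [Char.classInner_def, inv_mul_eq_iff_eq_mul₀ Char.natCard_ne_zero, mul_one] at h
    exact h
  have h1 : ((d : ℝ) * d) ≤ ∑ g : G, Complex.normSq ((χ : G → ℂ) g) := by
    refine le_trans ?_ (Finset.single_le_sum (fun g _ => Complex.normSq_nonneg _) (Finset.mem_univ (1 : G)))
    rw [h, Complex.normSq_natCast]
  have h2 : ∑ g : G, Complex.normSq ((χ : G → ℂ) g) = (Nat.card G : ℝ) := by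
    have h3 := congrArg Complex.re hn
    rw [Complex.re_sum, Complex.natCast_re] at h3
    rw [← h3]
    exact Finset.sum_congr rfl fun g _ => by rw [Complex.mul_conj, Complex.ofReal_re]
  rw [h2] at h1
  exact_mod_cast h1

/-- There is no member of degree `1 + n p` when `V = 1` and `t ≥ 2`. -/
theorem Xn_empty (D : Data M P n e V t a b f d₀ σ Xa Xn Xb Xc Y) (hV : V = ⊥) (ht : 2 ≤ t) :
    Xn = ∅ := by
  by_contra hne
  obtain ⟨χ, hχ⟩ := Finset.nonempty_iff_ne_empty.2 hne
  have h := sq_degree_le χ (D.Xn_deg χ hχ)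
  rw [D.hyp.card_G, hV, Subgroup.card_bot, mul_one] at h
  have h1 : 1 + n * p ≤ p * e := Nat.le_of_mul_le_mul_right h (by omega)
  have h2 := D.hte
  have h3 := D.hab
  have h4 := D.n_eq
  have ha := D.a_two
  have hte2 : 2 * e ≤ t * e := Nat.mul_le_mul_right e ht
  have h5 : 2 * b ≤ a * b := Nat.mul_le_mul_right b ha
  have h6 : n < e := by
    by_contra hge
    have := Nat.mul_le_mul_left p (not_lt.1 hge)
    rw [Nat.mul_comm n p] at h1
    omega
  omega

end CfsgLib.Block.NP.Data
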