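import Cfsg.Agent.Lib.Block.NP.Setup
import Cfsg.Agent.Lib.Block.NP.FusionSign
import Cfsg.Agent.Lib.Char.Integral
import Cfsg.Agent.Lib.Char.Diag

/-!
The arithmetic which excludes the shapes of the principal block with `t = 1` or with an
exceptional fixed dimension `f ≥ 2`: parity, existence of a generator of `N(P) / C(P)`, degrees.
-/

set_option autoImplicit false
set_option linter.style.haveILetI false
set_option linter.unusedSectionVars false

namespace CfsgLib.Block.NP

open Cfsg CfsgLib CfsgLib.Block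

universe u

theorem not_isIntegral_inv {m : ℕ} (hm : 2 ≤ m) (h : IsIntegral ℤ ((1 : ℂ) / (m : ℂ))) : False := by
  have h1 := Char.dvd_of_isIntegral_div (a := 1) (b := m) (by omega) (by rw [Nat.cast_one]; exact h)
  have := Nat.le_of_dvd one_pos h1
  omega

theorem not_isIntegral_of_mul {m : ℕ} (hm : 2 ≤ m) {x : ℂ} (hx : IsIntegral ℤ x)
    (h : (m : ℂ) * x = 1) : False := by
  refine not_isIntegral_inv hm ?_
  have : (1 : ℂ) / (m : ℂ) = x := by
    rw [← h, mul_div_cancel_left₀ x (by exact_mod_cast (by omega : m ≠ 0))]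
  rwa [this]

variable {G : Type u} [Group G] [Finite G]

theorem irr_isIntegral (χ : IrrCharacter G) (g : G) : IsIntegral ℤ ((χ : G → ℂ) g) := by
  obtain ⟨_, ρ, _, h⟩ := χ.2
  rw [← h]
  exact Char.char_isIntegral ρ g

namespace Data

variable {p : ℕ} [hpf : Fact p.Prime] {M : Ideal AlgInt} {P : Sylow p G} {n e : ℕ} {V : Subgroup G}
  {t a b f d₀ : ℕ} {σ : ℤ} {Xa Xn Xb Xc Y : Finset (IrrCharacter G)}

theorem N_lt (D : Data M P n e V t a b f d₀ σ Xa Xn Xb Xc Y) : Nat.card (Sylow p G) < p ^ 2 := by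
  rw [D.hyp.hn, sq]
  have h1 := Nat.mul_le_mul_right p (Nat.succ_le_of_lt D.hyp.n_lt)
  have := hpf.out.two_le
  rw [Nat.succ_mul] at h1
  omega

theorem b_lt (D : Data M P n e V t a b f d₀ σ Xa Xn Xb Xc Y) : b < p := by
  have := D.hab
  have := Nat.mul_le_mul_right b D.a_two
  omega

/-- If `N(P) / C(P)` has even order then exactly one of `a`, `b` is even. -/
theorem parity (D : Data M P n e V t a b f d₀ σ Xa Xn Xb Xc Y) (he : Even e) :
    (Even a ∧ Odd b) ∨ (Odd a ∧ Even b) := by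
  have hev := Fusion.even_card_sylow D.hyp.perfect P D.hyp.hP D.N_lt (by rw [D.hyp.e_eq]; exact he)
  rw [D.hyp.hn, add_comm, Nat.even_add_one, Nat.not_even_iff_odd, Nat.odd_mul] at hev
  have hab : Even (a * b) := by
    have h := D.p_odd
    rw [← D.hab, Nat.odd_add_one, Nat.not_odd_iff_even] at h
    exact h
  have hn : Odd (n + b + (a * b + a)) → False := by
    rw [D.n_eq]
    exact fun h => Nat.not_even_iff_odd.2 h ⟨_, rfl⟩
  rcases Nat.even_or_odd a with ha | ha <;> rcases Nat.even_or_odd b with hb | hb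
  · exact absurd ((hev.1.add_even hb).add_even (hab.add ha)) hn
  · exact Or.inl ⟨ha, hb⟩
  · exact Or.inr ⟨ha, hb⟩
  · exact absurd hab (Nat.not_even_iff_odd.2 (ha.mul hb))

/-- A generator of `N(P)` modulo `C(P)`, of order prime to `p`. -/
theorem exists_gen (D : Data M P n e V t a b f d₀ σ Xa Xn Xb Xc Y) :
    ∃ g : G, g ∈ Subgroup.normalizer ((P : Subgroup G) : Set G) ∧
      (∀ k : ℕ, g ^ k ∈ Subgroup.centralizer ((P : Subgroup G) : Set G) ↔ e ∣ k) ∧
      g ∉ Subgroup.centralizer ((P : Subgroup G) : Set G) ∧ ¬ p ∣ orderOf g := by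
  classical
  obtain ⟨z, ε, -, -, -, hker⟩ := exists_prime_sylow_data P D.hyp.hP
  have hcard : Nat.card ε.range = e := by
    rw [← Subgroup.index_ker, hker, ← D.hyp.e_eq]
    rfl
  obtain ⟨⟨w, y, rfl⟩, hgen⟩ := IsCyclic.exists_generator (α := ε.range)
  have ho := orderOf_eq_card_of_forall_mem_zpowers hgen
  rw [hcard, ← Subgroup.orderOf_coe] at ho
  change orderOf (ε y) = e at ho
  have hiff : ∀ k : ℕ,
      (y : G) ^ k ∈ Subgroup.centralizer ((P : Subgroup G) : Set G) ↔ e ∣ k := fun k => by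
    rw [← ho, orderOf_dvd_iff_pow_eq_one, ← map_pow, ← MonoidHom.mem_ker, hker,
      Subgroup.mem_subgroupOf, SubmonoidClass.coe_pow]
  have hnot : (y : G) ∉ Subgroup.centralizer ((P : Subgroup G) : Set G) := fun h => by
    have := Nat.le_of_dvd one_pos ((hiff 1).1 (by rw [pow_one]; exact h))
    have := D.hyp.e_two
    omega
  refine ⟨y, y.2, hiff, hnot, fun hp => hnot ?_⟩
  set u := (y : G) ^ (orderOf (y : G) / p) with hu
  have huo : orderOf u = p := orderOf_pow_orderOf_div (orderOf_pos _).ne' hp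
  have hu1 : u ≠ 1 := fun h => hpf.out.ne_one (by rw [← huo, h, orderOf_one])
  have hup : IsPGroup p (Subgroup.zpowers u) :=
    IsPGroup.of_card (n := 1) (by rw [Nat.card_zpowers, huo, pow_one])
  have huP : u ∈ (P : Subgroup G) :=
    ((hup.inf_normalizer_sylow P).le ⟨Subgroup.mem_zpowers u, pow_mem y.2 _⟩).2
  exact Fusion.mem_centralizer_of_commute P D.hyp.hP huP hu1 (Commute.self_pow _ _)

/-- The linear part of the degree equation. -/
theorem deg_linear (D : Data M P n e V t a b f d₀ σ Xa Xn Xb Xc Y) (ht : 2 ≤ t)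
    (hd : (d₀ : ℤ) = p * f + σ * e) (hσ : σ * σ = 1) :
    (Xa.card : ℤ) * ((a : ℤ) - 1) + Xn.card * (n : ℤ) - Xb.card - Xc.card * ((b : ℤ) + 1) =
      σ * f := by
  have hc : ((Xa.card + Xn.card + Xb.card + Xc.card + 1 : ℕ) : ℤ) = e := by
    exact_mod_cast D.count ht
  have hpab : ((a : ℤ) * b + 1) = p := by exact_mod_cast D.hab
  have h := D.deg_eq
  have hp1 : 1 ≤ p := hpf.out.one_le
  push_cast [Nat.cast_sub D.b_lt.le, Nat.cast_sub hp1] at h hc
  rw [hd] at h
  refine mul_left_cancel₀ (a := (p : ℤ)) (by exact_mod_cast hpf.out.ne_zero) ?_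
  linear_combination h + (e : ℤ) * hσ - hc + (Xa.card : ℤ) * hpab + (Xc.card : ℤ) * hpab

end Data

end CfsgLib.Block.NP
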