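import Cfsg.Agent.Lib.Block.NP.BranchIV
import Cfsg.Agent.Lib.Block.NP.KillArith
import Cfsg.Agent.Lib.Block.NP.Kernel
import Cfsg.Agent.Lib.Block.NP.CaseTwo
import Cfsg.Agent.Lib.Block.BRMain

/-!
The exceptional degree `N / t` does not occur.
-/

set_option autoImplicit false
set_option linter.unusedSectionVars false

namespace CfsgLib.Block.NP.Data

open Cfsg CfsgLib CfsgLib.Block

universe u

variable {G : Type u} [Group G] [Finite G] {p : ℕ} [hpf : Fact p.Prime]
  {M : Ideal AlgInt} {P : Sylow p G} {n e : ℕ} {V : Subgroup G}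
  {t a b f d₀ : ℕ} {σ : ℤ} {Xa Xn Xb Xc Y : Finset (IrrCharacter G)}

/-- The exceptional degree `N / t`. -/
theorem case_four_false (D : Data M P n e V t a b f d₀ σ Xa Xn Xb Xc Y) (h4 : f * t = n + 1)
    (htd : t * d₀ = 1 + n * p) (hσ : σ = -1) (ht : 2 ≤ t) : False := by
  classical
  have ha := D.a_two
  have hle := D.a_le
  have hbp := D.b_lt
  have hte := D.hte
  have hab := D.hab
  have hnq := D.n_eq
  have hp := hpf.out
  have he2 := D.hyp.e_two
  have hd : (d₀ : ℤ) = p * f + σ * e := by
    have h1 : (t : ℤ) * d₀ = 1 + n * p := by exact_mod_cast htd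
    have h2 : (f : ℤ) * t = n + 1 := by exact_mod_cast h4
    have h3 : (t : ℤ) * e + 1 = p := by exact_mod_cast hte
    refine mul_left_cancel₀ (a := (t : ℤ)) (by exact_mod_cast (by omega : t ≠ 0)) ?_
    rw [hσ]
    linear_combination h1 - (p : ℤ) * h2 + h3
  have hlin := D.deg_linear ht hd (by rw [hσ]; norm_num)
  have hc := D.count ht
  have hcz : (Xa.card : ℤ) + Xn.card + Xb.card + Xc.card + 1 = e := by exact_mod_cast hc
  have hf0 : 0 < f := Nat.pos_of_ne_zero fun h => by rw [h, zero_mul] at h4; omega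
  have key : (t : ℤ) * ((Xa.card : ℤ) * a + Xn.card * ((n : ℤ) + 1) - Xc.card * b) =
      (b : ℤ) - a - 1 - t := by
    have h2 : (f : ℤ) * t = n + 1 := by exact_mod_cast h4
    have h3 : (t : ℤ) * e + 1 = p := by exact_mod_cast hte
    have h5 : (a : ℤ) * b + 1 = p := by exact_mod_cast hab
    have h6 : (n : ℤ) + b = a * b + a := by exact_mod_cast hnq
    rw [hσ] at hlin
    linear_combination (t : ℤ) * hlin + (t : ℤ) * hcz - h2 + h3 - h5 - h6
  have hbn : b ≤ n + 1 := by
    have : 2 * b ≤ a * b := Nat.mul_le_mul_right b ha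
    omega
  by_cases hA : Xa.Nonempty
  · have hA1 : 0 < Xa.card := Finset.card_pos.2 hA
    obtain ⟨α, hα⟩ := D.a_dvd hA
    have htα : t * α = b := by
      refine Nat.eq_of_mul_eq_mul_left (show 0 < a by omega) ?_
      have : t * (a * α) + 1 = a * b + 1 := by rw [← hα, hte, hab]
      linarith
    by_cases hC : Xc.Nonempty
    · obtain ⟨β, hβ⟩ := D.b_dvd hC
      have htβ : t * β = a := by
        refine Nat.eq_of_mul_eq_mul_left (show 0 < b by omega) ?_
        have : t * (b * β) + 1 = a * b + 1 := by rw [← hβ, hte, hab]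
        linarith
      have h1 : (t : ℤ) ∣ 1 :=
        ⟨(α : ℤ) - β - 1 - ((Xa.card : ℤ) * a + Xn.card * ((n : ℤ) + 1) - Xc.card * b), by
          have h7 : (t : ℤ) * α = b := by exact_mod_cast htα
          have h8 : (t : ℤ) * β = a := by exact_mod_cast htβ
          linear_combination key - h7 + h8⟩
      have := Int.le_of_dvd one_pos h1
      omega
    · rw [Finset.not_nonempty_iff_eq_empty] at hC
      have hn0 : Xn = ∅ := by
        by_contra hne
        have h1 : 0 < Xn.card := Finset.card_pos.2 (Finset.nonempty_iff_ne_empty.2 hne)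
        rw [hC, Finset.card_empty] at key
        have h2 : (1 : ℤ) * ((n : ℤ) + 1) ≤ Xn.card * ((n : ℤ) + 1) :=
          mul_le_mul_of_nonneg_right (by exact_mod_cast h1) (by positivity)
        have h3 : (0 : ℤ) ≤ (Xa.card : ℤ) * a := by positivity
        have h4' : (b : ℤ) ≤ n + 1 := by exact_mod_cast hbn
        have h5 : (1 : ℤ) * ((Xa.card : ℤ) * a + Xn.card * ((n : ℤ) + 1)) ≤
            (t : ℤ) * ((Xa.card : ℤ) * a + Xn.card * ((n : ℤ) + 1)) :=
          mul_le_mul_of_nonneg_right (by exact_mod_cast (by omega : 1 ≤ t)) (by positivity)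
        push_cast at key
        have ht0 : (2 : ℤ) ≤ t := by exact_mod_cast ht
        nlinarith
      rw [hn0, hC, hσ, Finset.card_empty] at hlin
      have hB : Xb.Nonempty := by
        by_contra hB
        rw [Finset.not_nonempty_iff_eq_empty.1 hB, Finset.card_empty] at hlin
        have h2 : (0 : ℤ) ≤ (Xa.card : ℤ) * ((a : ℤ) - 1) :=
          mul_nonneg (by positivity) (by linarith [(by exact_mod_cast ha : (2 : ℤ) ≤ a)])
        have h3 : (0 : ℤ) < f := by exact_mod_cast hf0
        push_cast at hlin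
        linarith
      exact D.four_false (D.V_eq_bot_of_Xb hB) ⟨ht, h4, htd, hσ⟩ hn0 hC hA
  rw [Finset.not_nonempty_iff_eq_empty] at hA
  rw [hA, Finset.card_empty] at key hcz hlin hc
  by_cases hC : Xc.Nonempty
  · have hC1 : 0 < Xc.card := Finset.card_pos.2 hC
    obtain ⟨β, hβ⟩ := D.b_dvd hC
    have htβ : t * β = a := by
      refine Nat.eq_of_mul_eq_mul_left (show 0 < b by omega) ?_
      have : t * (b * β) + 1 = a * b + 1 := by rw [← hβ, hte, hab]
      linarith
    have hta : t ≤ a := Nat.le_of_dvd (by omega) ⟨β, htβ.symm⟩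
    by_cases hB : Xb.Nonempty
    · have hn0 := D.Xn_empty (D.V_eq_bot_of_Xb hB) ht
      rw [hn0, Finset.card_empty] at key
      have h1 : (t : ℤ) * b * 1 ≤ t * b * Xc.card :=
        mul_le_mul_of_nonneg_left (by exact_mod_cast hC1) (by positivity)
      have h2 : (2 : ℤ) * b ≤ t * b :=
        mul_le_mul_of_nonneg_right (by exact_mod_cast ht) (by positivity)
      have h3 : (t : ℤ) ≤ a := by exact_mod_cast hta
      have h4' : (a : ℤ) ≤ b := by exact_mod_cast hle
      have h5 : (2 : ℤ) ≤ a := by exact_mod_cast ha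
      push_cast at key
      nlinarith
    · rw [Finset.not_nonempty_iff_eq_empty] at hB
      rw [hB, Finset.card_empty] at hcz
      push_cast at hcz key
      have h2 : (t : ℤ) * e = (a : ℤ) * b := by exact_mod_cast (by omega : t * e = a * b)
      have h6 : (n : ℤ) + b = a * b + a := by exact_mod_cast hnq
      have hK : ((a : ℤ) * b + a + 1) ∣ (t : ℤ) * ((b : ℤ) + 1) :=
        ⟨(b : ℤ) - 1 - t * Xn.card, by
          linear_combination key + (t : ℤ) * b * hcz + (b : ℤ) * h2 - (t : ℤ) * Xn.card * h6⟩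
      have h7 := Int.le_of_dvd (by positivity) hK
      have h8 : (t : ℤ) * ((b : ℤ) + 1) ≤ (a : ℤ) * ((b : ℤ) + 1) :=
        mul_le_mul_of_nonneg_right (by exact_mod_cast hta) (by positivity)
      linarith
  rw [Finset.not_nonempty_iff_eq_empty] at hC
  rw [hC, Finset.card_empty] at key hlin hc
  push_cast at key hlin
  have hn0 : Xn = ∅ := by
    by_contra hne
    have h1 : 0 < Xn.card := Finset.card_pos.2 (Finset.nonempty_iff_ne_empty.2 hne)
    have h2 : (1 : ℤ) * ((n : ℤ) + 1) ≤ Xn.card * ((n : ℤ) + 1) :=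
      mul_le_mul_of_nonneg_right (by exact_mod_cast h1) (by positivity)
    have h4' : (b : ℤ) ≤ n + 1 := by exact_mod_cast hbn
    have h5 : (1 : ℤ) * ((Xn.card : ℤ) * ((n : ℤ) + 1)) ≤
        (t : ℤ) * ((Xn.card : ℤ) * ((n : ℤ) + 1)) :=
      mul_le_mul_of_nonneg_right (by exact_mod_cast (by omega : 1 ≤ t)) (by positivity)
    nlinarith
  rw [hn0, Finset.card_empty] at key hlin hc
  push_cast at key hlin
  have hBc : Xb.card + 1 = e := by omega
  have hfB : f = Xb.card := by
    rw [hσ] at hlin
    exact_mod_cast (by linarith : (f : ℤ) = (Xb.card : ℤ))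
  have hb' : b = a + 1 + t := by exact_mod_cast (by linarith : (b : ℤ) = a + 1 + t)
  have hBne : Xb.Nonempty := Finset.card_pos.1 (by omega)
  have hV := D.V_eq_bot_of_Xb hBne
  have hcen := D.centralizer_eq hV
  subst hA hn0 hC hσ
  have hD : BrauerReynolds.Data M P n e t 0 Xb.card f d₀ (-1) ∅ Xb Y :=
    { hte := hte, e_two := he2, n_pos := D.hyp.n_pos, e_eq := D.hyp.e_eq
      card_Xp := rfl, card_Xm := rfl
      b_pos := Finset.card_pos.2 hBne
      card_Y := D.card_Y ht
      count := by omega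
      count' := by rw [hfB]; omega
      alt := Or.inr ⟨hf0, h4.symm, htd, rfl⟩
      disj₁ := Finset.disjoint_empty_left _
      disj₂ := Finset.disjoint_empty_left _
      disj₃ := D.disj_bY
      one_not := ⟨Finset.notMem_empty _, D.one_not.2.2.1, D.one_not.2.2.2.2⟩
      mem := fun χ => by rw [D.mem χ]; simp
      Xp_deg := fun χ h => absurd h (Finset.notMem_empty χ)
      Xp_val := fun χ h => absurd h (Finset.notMem_empty χ)
      Xm_deg := D.Xb_deg
      Xm_val := fun χ hχ y hy hy1 z hz hzr =>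
        D.Xb_val χ hχ y hy hy1 z ((D.hyp.mem_V z).2 ⟨hz, hzr⟩)
      Y_deg := D.Y_deg
      Y_sum := fun χ hχ => by
        rw [D.Y_sum χ hχ]
        have hd' : (d₀ : ℂ) = (p : ℂ) * f + (((-1 : ℤ)) : ℂ) * e := by exact_mod_cast hd
        push_cast at hd' ⊢
        linear_combination -hd'
      regular := D.regular
      relation := fun η hη g hg => by
        have h := D.relation η hη g hg
        simp only [Finset.sum_empty, add_zero, sub_zero] at h ⊢
        exact h }
  rcases BrauerReynolds.dichotomy D.hyp.hP hcen D.hM D.hyp.hn hD with ⟨h1, -⟩ | ⟨h1, h2, -⟩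
  · omega
  · subst h1
    have : 2 * b ≤ a * b := Nat.mul_le_mul_right b ha
    omega

end CfsgLib.Block.NP.Data
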