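import Cfsg.Agent.Lib.Block.NP.Kill
import Cfsg.Agent.Lib.Block.NP.Kernel

/-!
The two shapes of the principal block excluded by arithmetic alone once `C(P) = P`:
exceptional degree `e`, and exceptional degree `p - b`.
-/

set_option autoImplicit false
set_option linter.unusedSectionVars false

namespace CfsgLib.Block.NP.Data

open Cfsg CfsgLib CfsgLib.Block

universe u

variable {G : Type u} [Group G] [Finite G] {p : ℕ} [hpf : Fact p.Prime]
  {M : Ideal AlgInt} {P : Sylow p G} {n e : ℕ} {V : Subgroup G}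
  {t a b f d₀ : ℕ} {σ : ℤ} {Xa Xn Xb Xc Y : Finset (IrrCharacter G)}

/-- The degree equation without members of degree `1 + n p`, divided by `p`. -/
theorem deg_eq_div (D : Data M P n e V t a b f d₀ σ Xa Xn Xb Xc Y) (hn : Xn = ∅) (ht : 2 ≤ t)
    (hs : σ * (d₀ : ℤ) = (e : ℤ) + (p : ℤ) * (σ * (f : ℤ))) :
    (Xa.card : ℤ) * ((a : ℤ) - 1) - Xb.card - Xc.card * ((b : ℤ) + 1) = σ * (f : ℤ) := by
  have h := D.deg_eq
  have hc := D.count ht
  rw [hn, Finset.card_empty] at h hc
  have hbp : b ≤ p := D.b_lt.le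
  have hp1 : 1 ≤ p := hpf.out.one_le
  push_cast [Nat.cast_sub hbp, Nat.cast_sub hp1] at h
  have hab : (a : ℤ) * b + 1 = p := by exact_mod_cast D.hab
  have hcz : (Xa.card : ℤ) + Xb.card + Xc.card + 1 = e := by exact_mod_cast (by omega)
  have hp0 : (p : ℤ) ≠ 0 := by exact_mod_cast hpf.out.ne_zero
  refine mul_left_cancel₀ hp0 ?_
  linear_combination h + hs + ((Xa.card : ℤ) + Xc.card) * hab - hcz

/-- The exceptional degree `e` does not occur. -/
theorem case_I_false (D : Data M P n e V t a b f d₀ σ Xa Xn Xb Xc Y) (ht : 2 ≤ t) (hf : f = 0)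
    (hd : d₀ = e) (hσ : σ = 1) : False := by
  have hY : Y.Nonempty := Finset.card_pos.1 (by rw [D.card_Y ht]; omega)
  have hV := D.V_eq_bot_of_fix hY (by omega)
  have hn := D.Xn_empty hV ht
  have hA := D.deg_eq_div hn ht (by rw [hσ, hd, hf]; simp)
  have hc := D.count ht
  rw [hn, Finset.card_empty] at hc
  rw [hσ, hf] at hA
  simp only [Nat.cast_zero, mul_zero] at hA
  have he := D.hyp.e_two
  have ha := D.a_two
  have hle := D.a_le
  have hcz : (Xa.card : ℤ) + Xb.card + Xc.card + 1 = e := by exact_mod_cast (by omega)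
  have hA0 : 0 < Xa.card := by
    by_contra h0
    have h0' : Xa.card = 0 := by omega
    rw [h0'] at hA hcz
    have : (Xc.card : ℤ) ≤ Xc.card * ((b : ℤ) + 1) :=
      le_mul_of_one_le_right (by positivity) (by linarith [Int.natCast_nonneg b])
    push_cast at hA hcz
    have he' : (2 : ℤ) ≤ e := by exact_mod_cast he
    linarith
  obtain ⟨e', he'⟩ := D.a_dvd (Finset.card_pos.1 hA0)
  have hez : (e : ℤ) = a * e' := by exact_mod_cast he'
  have key : (a : ℤ) * ((Xa.card : ℤ) - e') = (Xc.card : ℤ) * b - 1 := by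
    linear_combination hA + hcz + hez
  rcases Nat.eq_zero_or_pos Xc.card with hC | hC
  · rw [hC] at key
    have h1 : (a : ℤ) ∣ 1 := ⟨(e' : ℤ) - Xa.card, by push_cast at key; linarith⟩
    have := Int.le_of_dvd one_pos h1
    omega
  · obtain ⟨k, hk⟩ := D.b_dvd (Finset.card_pos.1 hC)
    have hco : IsCoprime (a : ℤ) (b : ℤ) :=
      ⟨(e' : ℤ) - Xa.card, Xc.card, by linear_combination -key⟩
    have hdvd : ((a : ℤ) * b) ∣ (e : ℤ) := hco.mul_dvd ⟨e', hez⟩ ⟨k, by exact_mod_cast hk⟩
    have hab : a * b ∣ e := by exact_mod_cast hdvd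
    have := Nat.le_of_dvd (by omega) hab
    have h2 := D.hte
    have h3 := D.hab
    have : 2 * e ≤ t * e := Nat.mul_le_mul_right e ht
    omega

/-- The exceptional degree `p - b` does not occur. -/
theorem case_III_false (D : Data M P n e V t a b f d₀ σ Xa Xn Xb Xc Y) (ht : 2 ≤ t) (hf : f = 1)
    (he : e = b * f) (hd : d₀ = f * (p - b)) (hσ : σ = -1) : False := by
  rw [hf, mul_one] at he
  rw [hf, one_mul] at hd
  have hY : Y.Nonempty := Finset.card_pos.1 (by rw [D.card_Y ht]; omega)
  have hV := D.V_eq_bot_of_fix hY (by omega)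
  have hn := D.Xn_empty hV ht
  have hA := D.deg_eq_div hn ht (by
    rw [hσ, hd, hf, he, Nat.cast_sub D.b_lt.le]; push_cast; ring)
  have hc := D.count ht
  rw [hn, Finset.card_empty] at hc
  rw [hσ, hf] at hA
  simp only [Nat.cast_one, mul_one] at hA
  have ha := D.a_two
  have hle := D.a_le
  have hcz : (Xa.card : ℤ) + Xb.card + Xc.card + 1 = b := by exact_mod_cast (by omega)
  have key : (Xa.card : ℤ) * a = (Xc.card : ℤ) * b + b - 2 := by
    linear_combination hA + hcz
  have hb2 : Even b ∧ Even a := by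
    rcases Nat.eq_zero_or_pos Xa.card with hA0 | hA0
    · rw [hA0] at key
      have hb : b = 2 := by
        rcases Nat.eq_zero_or_pos Xc.card with hC | hC
        · rw [hC] at key; push_cast at key; omega
        · have : (1 : ℤ) * b ≤ Xc.card * b :=
            mul_le_mul_of_nonneg_right (by exact_mod_cast hC) (by positivity)
          push_cast at key
          omega
      exact ⟨by rw [hb]; exact even_two, by rw [show a = 2 by omega]; exact even_two⟩
    · obtain ⟨k, hk⟩ := D.a_dvd (Finset.card_pos.1 hA0)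
      rw [he] at hk
      have hkz : (b : ℤ) = a * k := by exact_mod_cast hk
      have h2 : (a : ℤ) ∣ 2 :=
        ⟨(Xc.card : ℤ) * k + k - Xa.card, by linear_combination key + ((Xc.card : ℤ) + 1) * hkz⟩
      have := Int.le_of_dvd two_pos h2
      have ha2 : a = 2 := by omega
      exact ⟨by rw [hk, ha2]; exact even_two_mul k, by rw [ha2]; exact even_two⟩
  rcases D.parity (he ▸ hb2.1) with ⟨-, hb⟩ | ⟨ha', -⟩
  · exact Nat.not_even_iff_odd.2 hb hb2.1
  · exact Nat.not_even_iff_odd.2 ha' hb2.2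

end CfsgLib.Block.NP.Data
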