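import Cfsg.Agent.Lib.Block.NP.IntegralCount

/-!
Integrality of the sums over the principal block at a generator of `N(P)` modulo `C(P)`.
-/

set_option autoImplicit false
set_option linter.unusedSectionVars false

namespace CfsgLib.Block.NP.Data

open Cfsg CfsgLib CfsgLib.Block
open scoped ComplexConjugate

universe u

variable {G : Type u} [Group G] [Finite G] {p : ℕ} [hpf : Fact p.Prime]
  {M : Ideal AlgInt} {P : Sylow p G} {n e : ℕ} {V : Subgroup G} {t a b f d₀ : ℕ}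
  {σ : ℤ} {Xa Xn Xb Xc Y : Finset (IrrCharacter G)}

theorem bounds (D : Data M P n e V t a b f d₀ σ Xa Xn Xb Xc Y) : 0 < a ∧ 0 < b ∧ b < p := by
  have h1 : 2 * b ≤ a * b := Nat.mul_le_mul_right _ D.a_two
  have h2 := D.hab
  have h3 := D.a_two
  have h4 := D.a_le
  omega

theorem value_at (χ : IrrCharacter G) {c : ℂ} (h : ∀ y ∈ (P : Subgroup G), y ≠ 1 → ∀ z ∈ V,
    (χ : G → ℂ) (y * z) = c) {x : G} (hx : x ∈ (P : Subgroup G)) (hx1 : x ≠ 1) :
    (χ : G → ℂ) x = c := by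
  have := h x hx hx1 1 V.one_mem
  rwa [mul_one] at this

/-- A sum over the principal block, part by part. -/
theorem sum_principal (D : Data M P n e V t a b f d₀ σ Xa Xn Xb Xc Y) (F : IrrCharacter G → ℂ) :
    ∑ᶠ χ ∈ principalBlock M G, F χ = F ⟨fun _ => 1, Char.isIrrCharacter_one⟩ + ∑ χ ∈ Xa, F χ +
      ∑ χ ∈ Xn, F χ + ∑ χ ∈ Xb, F χ + ∑ χ ∈ Xc, F χ + ∑ χ ∈ Y, F χ := by
  classical
  set one : IrrCharacter G := ⟨fun _ => 1, Char.isIrrCharacter_one⟩
  have hset : principalBlock M G =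
      ↑(({one} ∪ Xa ∪ Xn ∪ Xb ∪ Xc ∪ Y : Finset (IrrCharacter G))) := by
    ext χ
    rw [D.mem χ]
    simp only [Finset.coe_union, Finset.coe_singleton, Set.mem_union, Set.mem_singleton_iff,
      Finset.mem_coe, or_assoc]
    exact or_congr_left (Subtype.ext_iff (a1 := χ) (a2 := one)).symm
  obtain ⟨h1a, h1n, h1b, h1c, h1y⟩ : one ∉ Xa ∧ one ∉ Xn ∧ one ∉ Xb ∧ one ∉ Xc ∧ one ∉ Y :=
    D.one_not
  rw [hset, finsum_mem_coe_finset,
    Finset.sum_union (by simp [Finset.disjoint_union_left, h1y, D.disj_aY, D.disj_nY, D.disj_bY,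
      D.disj_cY]),
    Finset.sum_union (by simp [Finset.disjoint_union_left, h1c, D.disj_ac, D.disj_nc, D.disj_bc]),
    Finset.sum_union (by simp [Finset.disjoint_union_left, h1b, D.disj_ab, D.disj_nb]),
    Finset.sum_union (by simp [Finset.disjoint_union_left, h1n, D.disj_an]),
    Finset.sum_union (by simp [h1a]), Finset.sum_singleton]

/-- Pairing two columns of `P \ 1` on the exceptional characters. -/
theorem Y_pair (D : Data M P n e V t a b f d₀ σ Xa Xn Xb Xc Y) (ht : 2 ≤ t) {x x' : G}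
    (hx : x ∈ (P : Subgroup G)) (hx1 : x ≠ 1) (hx' : x' ∈ (P : Subgroup G)) (hx1' : x' ≠ 1) :
    ∑ η ∈ Y, (η : G → ℂ) x' * conj ((η : G → ℂ) x) =
      (open Classical in if IsConj x x' then (p : ℂ) else 0) - e := by
  classical
  have := isPrime_of_pmodular D.hM
  have hB : ∑ᶠ χ ∈ principalBlock M G, (χ : G → ℂ) x' * conj ((χ : G → ℂ) x) =
      if IsConj x x' then (p : ℂ) else 0 := by
    split_ifs with hc
    · rw [← (Separation.principal_column D.hM P D.hyp.hP hx hx1).2]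
      refine finsum_mem_congr rfl fun χ _ => ?_
      rw [Char.isClassFunction_isConj (Char.irr_isClassFunction χ.2) hc.symm]
    · have hpp : ∀ w ∈ (P : Subgroup G), IsPPart p w w := fun w hw =>
        isPPart_self (IsPGroup.iff_orderOf.1 P.isPGroup' ⟨w, hw⟩ |>.imp
          fun k hk => by rwa [Subgroup.orderOf_mk] at hk) hpf.out
      exact sum_block_eq_zero D.hM isPBlock_principalBlock (hpp x' hx') (hpp x hx)
        fun h => hc h.symm
  rw [D.sum_principal,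
    Finset.sum_congr rfl (s₁ := Xa) (g := fun _ => (1 : ℂ)) (fun χ hχ => by
      rw [value_at χ (D.Xa_val χ hχ) hx hx1, value_at χ (D.Xa_val χ hχ) hx' hx1', map_one,
        mul_one]),
    Finset.sum_congr rfl (s₁ := Xn) (g := fun _ => (1 : ℂ)) (fun χ hχ => by
      rw [value_at χ (D.Xn_val χ hχ) hx hx1, value_at χ (D.Xn_val χ hχ) hx' hx1', map_one,
        mul_one]),
    Finset.sum_congr rfl (s₁ := Xb) (g := fun _ => (1 : ℂ)) (fun χ hχ => by
      rw [value_at χ (D.Xb_val χ hχ) hx hx1, value_at χ (D.Xb_val χ hχ) hx' hx1']; simp),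
    Finset.sum_congr rfl (s₁ := Xc) (g := fun _ => (1 : ℂ)) (fun χ hχ => by
      rw [value_at χ (D.Xc_val χ hχ) hx hx1, value_at χ (D.Xc_val χ hχ) hx' hx1']; simp)] at hB
  simp only [map_one, mul_one, Finset.sum_const, nsmul_eq_mul] at hB
  have hcnt : ((Xa.card + Xn.card + Xb.card + Xc.card + 1 : ℕ) : ℂ) = (e : ℂ) := by
    rw [D.count ht]
  push_cast at hcnt
  linear_combination hB - hcnt

/-- The integers behind the pair count. -/
theorem exists_count (D : Data M P n e V t a b f d₀ σ Xa Xn Xb Xc Y) {g : G}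
    (hg : g ∈ Subgroup.normalizer ((P : Subgroup G) : Set G))
    (hgen : ∀ k : ℕ, g ^ k ∈ Subgroup.centralizer ((P : Subgroup G) : Set G) ↔ e ∣ k) {x x' : G}
    (hx : x ∈ (P : Subgroup G)) (hx1 : x ≠ 1) (hx' : x' ∈ (P : Subgroup G)) (hx1' : x' ≠ 1) :
    ∃ m : ℕ, (p : ℂ) * m = ((1 + n * p : ℕ) : ℂ) * (1 +
      (∑ χ ∈ Xa, (χ : G → ℂ) g) / ((a * (p - b) : ℕ) : ℂ) +
      (∑ χ ∈ Xn, (χ : G → ℂ) g) / ((1 + n * p : ℕ) : ℂ) +
      (∑ χ ∈ Xc, (χ : G → ℂ) g) / ((b * (p + a) : ℕ) : ℂ) +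
      ∑ η ∈ Y, conj ((η : G → ℂ) x) * (η : G → ℂ) x' * (η : G → ℂ) g / (d₀ : ℂ)) := by
  classical
  have := Fintype.ofFinite G
  have := Fintype.ofFinite (IrrCharacter G)
  obtain ⟨hgC, -⟩ := D.regular_of_gen hg hgen
  set C := Subgroup.centralizer ((P : Subgroup G) : Set G) with hCdef
  have heo : e ∣ orderOf g := (hgen _).1 (by rw [pow_orderOf_eq_one]; exact one_mem _)
  have hlt : Nat.card (Sylow p G) < p ^ 2 := by
    rw [D.hyp.hn, pow_two]
    have := Nat.mul_le_mul_right p (show n + 1 ≤ p from D.hyp.n_lt)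
    rw [add_mul, one_mul] at this
    have := hpf.out.two_le
    omega
  have hfus : ∀ i : ℤ, (∃ c ∈ C, IsConj c (g ^ i)) → (e : ℤ) ∣ i := by
    rintro i ⟨c, hc, hcon⟩
    have hiC := Fusion.mem_centralizer_of_isConj P D.hyp.hP hlt hc (zpow_mem hg i) hcon
    have ho : (0 : ℤ) < orderOf g := by exact_mod_cast orderOf_pos g
    obtain ⟨k, hk⟩ := Int.eq_ofNat_of_zero_le (Int.emod_nonneg i ho.ne')
    rw [← zpow_mod_orderOf, hk, zpow_natCast, hgen] at hiC
    have h1 : (e : ℤ) ∣ i % (orderOf g : ℤ) := hk ▸ Int.natCast_dvd_natCast.2 hiC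
    have h2 : (e : ℤ) ∣ (orderOf g : ℤ) := Int.natCast_dvd_natCast.2 heo
    exact (Int.dvd_iff_dvd_of_dvd_sub (h2.trans Int.dvd_self_sub_emod)).2 h1
  obtain ⟨m, hm⟩ := Integral.dvd_card_pairSet P (y := x) hx' heo hfus
  refine ⟨m, ?_⟩
  have hS := Integral.card_pairSet D.hM P D.hyp.hP (y' := x') hx hx1 g
  rw [hm, D.hyp.card_C, D.hyp.card_G, D.sum_principal,
    Finset.sum_congr rfl (s₁ := Xa)
      (g := fun χ : IrrCharacter G => (χ : G → ℂ) g / ((a * (p - b) : ℕ) : ℂ)) (fun χ hχ => by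
      rw [value_at χ (D.Xa_val χ hχ) hx hx1, value_at χ (D.Xa_val χ hχ) hx' hx1', D.Xa_deg χ hχ,
        map_one, one_mul, one_mul]),
    Finset.sum_congr rfl (s₁ := Xn)
      (g := fun χ : IrrCharacter G => (χ : G → ℂ) g / ((1 + n * p : ℕ) : ℂ)) (fun χ hχ => by
      rw [value_at χ (D.Xn_val χ hχ) hx hx1, value_at χ (D.Xn_val χ hχ) hx' hx1', D.Xn_deg χ hχ,
        map_one, one_mul, one_mul]),
    Finset.sum_eq_zero (s := Xb) (fun χ hχ => by
      rw [D.Xb_apply_eq_zero_sep hχ hg hgC, mul_zero, zero_div]),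
    Finset.sum_congr rfl (s₁ := Xc)
      (g := fun χ : IrrCharacter G => (χ : G → ℂ) g / ((b * (p + a) : ℕ) : ℂ)) (fun χ hχ => by
      rw [value_at χ (D.Xc_val χ hχ) hx hx1, value_at χ (D.Xc_val χ hχ) hx' hx1', D.Xc_deg χ hχ]
      simp),
    Finset.sum_congr rfl (s₁ := Y) (g := fun η : IrrCharacter G =>
      conj ((η : G → ℂ) x) * (η : G → ℂ) x' * (η : G → ℂ) g / (d₀ : ℂ)) (fun χ hχ => by
      rw [D.Y_deg χ hχ]),
    ← Finset.sum_div, ← Finset.sum_div, ← Finset.sum_div] at hS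
  simp only [map_one, mul_one, one_mul, div_one, add_zero] at hS
  have hne : ((p * e * Nat.card V : ℕ) : ℂ) ≠ 0 := by
    rw [← D.hyp.card_N]
    exact Char.natCard_ne_zero
  refine mul_left_cancel₀ hne ?_
  push_cast at hS ⊢
  simp only [← Finset.sum_div] at hS ⊢
  linear_combination hS

/-- Not all elements of `P \ 1` are conjugate when the exceptional family occurs. -/
theorem exists_not_conj (D : Data M P n e V t a b f d₀ σ Xa Xn Xb Xc Y) (ht : 2 ≤ t) {x : G}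
    (hx : x ∈ (P : Subgroup G)) (hx1 : x ≠ 1) :
    ∃ x' ∈ (P : Subgroup G), x' ≠ 1 ∧ ¬ IsConj x x' := by
  classical
  by_contra hcon
  push Not at hcon
  have := Fintype.ofFinite G
  obtain ⟨η, hη⟩ : Y.Nonempty := Finset.card_pos.1 (by rw [D.card_Y ht]; omega)
  have hS := D.Y_sum η hη
  rw [finsum_eq_sum_of_fintype, ← Finset.add_sum_erase _ _ (Finset.mem_univ 1),
    Finset.sum_congr rfl (g := fun _ => (η : G → ℂ) x) (fun (u : ↥(P : Subgroup G)) hu =>
      (Char.isClassFunction_isConj (Char.irr_isClassFunction η.2) (hcon u u.2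
        fun h => (Finset.mem_erase.1 hu).1 (Subtype.ext h))).symm),
    Finset.sum_const, Finset.card_erase_of_mem (Finset.mem_univ _), Finset.card_univ,
    ← Nat.card_eq_fintype_card, D.hyp.hP, Subgroup.coe_one, D.Y_deg η hη, nsmul_eq_mul] at hS
  have hd : ((d₀ : ℤ) : ℂ) = ((p * f + σ * e : ℤ) : ℂ) := by rw [(D.d₀_eq ht).1]
  rw [show p - 1 = t * e by have := D.hte; omega] at hS
  push_cast at hd hS
  have he : (e : ℂ) ≠ 0 := Nat.cast_ne_zero.2 (by have := D.hyp.e_two; omega)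
  have h1 : (t : ℂ) * (η : G → ℂ) x = -(σ : ℂ) :=
    mul_left_cancel₀ he (by linear_combination hS - hd)
  have hσ : σ = 1 ∨ σ = -1 := by
    rcases D.alt with h | h | h | h | h
    · omega
    · exact Or.inl h.2.2.2
    · exact Or.inl h.2.2.2.2
    · exact Or.inr h.2.2.2.2
    · exact Or.inr h.2.2.2
  have ht0 : (t : ℂ) ≠ 0 := Nat.cast_ne_zero.2 (by omega)
  have hint : IsIntegral ℤ (((1 / t : ℚ)) : ℂ) := by
    have h2 : (((1 / t : ℚ)) : ℂ) = ((-σ : ℤ) : ℂ) * (η : G → ℂ) x := by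
      push_cast
      rw [div_eq_iff ht0]
      rcases hσ with rfl | rfl <;> push_cast at h1 ⊢
      · linear_combination h1
      · linear_combination -h1
    rw [h2]
    exact ((isIntegral_algebraMap (R := ℤ) (A := ℂ) (x := -σ))).mul (BlockB.irr_isIntegral η x)
  obtain ⟨k, hk⟩ := Char.exists_int_of_isIntegral_rat hint
  rw [div_eq_iff (by exact_mod_cast (show t ≠ 0 by omega))] at hk
  have hkt : (1 : ℤ) = k * t := by exact_mod_cast hk
  have := Int.le_of_dvd one_pos ⟨k, hkt.trans (mul_comm _ _)⟩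
  omega

/-- **First integrality.** -/
theorem int_one (D : Data M P n e V t a b f d₀ σ Xa Xn Xb Xc Y) {g : G}
    (hg : g ∈ Subgroup.normalizer ((P : Subgroup G) : Set G))
    (hgen : ∀ k : ℕ, g ^ k ∈ Subgroup.centralizer ((P : Subgroup G) : Set G) ↔ e ∣ k) :
    IsIntegral ℤ ((∑ χ ∈ Xa, (χ : G → ℂ) g) / (a : ℂ) + (∑ χ ∈ Xc, (χ : G → ℂ) g) / (b : ℂ)) := by
  classical
  obtain ⟨ha0, hb0, hbp⟩ := D.bounds
  obtain ⟨hgC, hgr⟩ := D.regular_of_gen hg hgen
  obtain ⟨x, hx, hx1⟩ : ∃ x ∈ (P : Subgroup G), x ≠ 1 := by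
    refine Subgroup.bot_or_exists_ne_one _ |>.resolve_left fun h' => ?_
    have := D.hyp.hP
    rw [h', Subgroup.card_bot] at this
    exact hpf.out.ne_one this.symm
  have hb : ∑ χ ∈ Xb, (χ : G → ℂ) g = 0 :=
    Finset.sum_eq_zero fun χ hχ => D.Xb_apply_eq_zero_sep hχ hg hgC
  have hN : ((p : ℂ) + a) * ((p : ℂ) - b) = (1 : ℂ) + n * p := by
    have h := congrArg (fun k : ℕ => (k : ℂ)) D.N_eq
    push_cast [Nat.cast_sub hbp.le] at h
    exact h.symm
  have hpa : (p : ℂ) + a ≠ 0 := by exact_mod_cast (show p + a ≠ 0 by omega)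
  have hpb : (p : ℂ) - b ≠ 0 := sub_ne_zero.2 (by exact_mod_cast (show p ≠ b by omega))
  have ha : (a : ℂ) ≠ 0 := Nat.cast_ne_zero.2 ha0.ne'
  have hb' : (b : ℂ) ≠ 0 := Nat.cast_ne_zero.2 hb0.ne'
  have hp0 : (p : ℂ) ≠ 0 := Nat.cast_ne_zero.2 hpf.out.ne_zero
  set A := ∑ χ ∈ Xa, (χ : G → ℂ) g with hA
  set N' := ∑ χ ∈ Xn, (χ : G → ℂ) g with hN'
  set C' := ∑ χ ∈ Xc, (χ : G → ℂ) g with hC'
  have expand : ∀ W : ℂ, ((1 + n * p : ℕ) : ℂ) * (1 + A / ((a * (p - b) : ℕ) : ℂ) +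
      N' / ((1 + n * p : ℕ) : ℂ) + C' / ((b * (p + a) : ℕ) : ℂ) + W) =
      (n : ℂ) * p + (1 + A + N' - C') + p * (A / a + C' / b) + (1 + (n : ℂ) * p) * W := by
    intro W
    have h0 : (1 : ℂ) + n * p ≠ 0 := hN ▸ mul_ne_zero hpa hpb
    push_cast [Nat.cast_sub hbp.le]
    rw [← hN]
    field_simp
    linear_combination (a : ℂ) * b * hN
  by_cases ht : 2 ≤ t
  · obtain ⟨x', hx', hx1', hnc⟩ := D.exists_not_conj ht hx hx1
    obtain ⟨m, hm⟩ := D.exists_count hg hgen hx hx1 hx' hx1'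
    obtain ⟨η, hη⟩ : Y.Nonempty := Finset.card_pos.1 (by rw [D.card_Y ht]; omega)
    have hrel := D.relation η hη g hgr
    rw [hb, sub_zero] at hrel
    have hW : ∑ η' ∈ Y, conj ((η' : G → ℂ) x) * (η' : G → ℂ) x' * (η' : G → ℂ) g / (d₀ : ℂ) =
        -(e : ℂ) * (η : G → ℂ) g / (d₀ : ℂ) := by
      rw [show -(e : ℂ) = (if IsConj x x' then (p : ℂ) else 0) - e by rw [if_neg hnc, zero_sub],
        ← D.Y_pair ht hx hx1 hx' hx1', Finset.sum_mul, Finset.sum_div]
      refine Finset.sum_congr rfl fun η' hη' => ?_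
      rw [D.regular η' hη' η hη g hgr]
      ring
    obtain ⟨hd₀, hdpos, Mn, hMn⟩ := D.d₀_eq ht
    obtain ⟨q, hq⟩ : (p : ℤ) ∣ (Mn : ℤ) - σ := by
      have hσ : σ * σ = 1 := by
        rcases D.alt with h | h | h | h | h
        · omega
        all_goals first
          | (rw [h.2.2.2.2]; norm_num)
          | (rw [h.2.2.2]; norm_num)
      have h1 : (p : ℤ) ∣ (d₀ : ℤ) * ((Mn : ℤ) - σ) := by
        refine ⟨(e : ℤ) * n - σ * f, ?_⟩
        have h2 : (e : ℤ) * (1 + n * p) = (d₀ : ℤ) * Mn := by exact_mod_cast hMn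
        linear_combination -h2 - σ * hd₀ - (e : ℤ) * hσ
      refine ((Nat.prime_iff_prime_int.1 hpf.out).dvd_or_dvd h1).resolve_left fun hd => ?_
      have h3 : (p : ℤ) ∣ σ * (σ * e) := by
        refine dvd_mul_of_dvd_right ?_ _
        rw [show σ * (e : ℤ) = (d₀ : ℤ) - p * f by linear_combination -hd₀]
        exact dvd_sub hd (dvd_mul_right _ _)
      rw [← mul_assoc, hσ, one_mul, Int.natCast_dvd_natCast] at h3
      have := Nat.le_of_dvd (by have := D.hyp.e_two; omega) h3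
      have := D.e_lt
      omega
    rw [hW, expand, hrel] at hm
    have hd0 : (d₀ : ℂ) ≠ 0 := Nat.cast_ne_zero.2 hdpos.ne'
    have hMC : (e : ℂ) * (1 + n * p) = (d₀ : ℂ) * Mn := by exact_mod_cast hMn
    have hqC : (Mn : ℂ) - σ = (p : ℂ) * q := by
      have := congrArg (fun k : ℤ => (k : ℂ)) hq
      push_cast at this
      exact this
    rw [show (1 + (n : ℂ) * p) * (-(e : ℂ) * (η : G → ℂ) g / (d₀ : ℂ)) =
        -((Mn : ℂ) * (η : G → ℂ) g) by
      rw [mul_div_assoc', div_eq_iff hd0]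
      linear_combination -((η : G → ℂ) g) * hMC] at hm
    have key : A / a + C' / b =
        (((m : ℤ) - n : ℤ) : ℂ) + (q : ℂ) * (η : G → ℂ) g := by
      apply mul_left_cancel₀ hp0
      push_cast
      linear_combination -hm + (η : G → ℂ) g * hqC
    rw [key]
    exact (isIntegral_algebraMap (R := ℤ) (A := ℂ) (x := ((m : ℤ) - n))).add
      ((isIntegral_algebraMap (R := ℤ) (A := ℂ) (x := q)).mul (BlockB.irr_isIntegral η g))
  · have ht1 : t = 1 := by have := D.t_pos; omega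
    obtain ⟨m, hm⟩ := D.exists_count hg hgen hx hx1 hx hx1
    rw [D.Y_empty ht1, Finset.sum_empty, expand, mul_zero, add_zero] at hm
    have hrel := D.relation_one ht1 g hgr
    rw [hb, sub_zero] at hrel
    rw [hrel, add_zero] at hm
    have key : A / a + C' / b = (((m : ℤ) - n : ℤ) : ℂ) := by
      apply mul_left_cancel₀ hp0
      push_cast
      linear_combination -hm
    rw [key]
    exact isIntegral_algebraMap (R := ℤ) (A := ℂ) (x := ((m : ℤ) - n))

/-- **Second integrality.** -/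
theorem int_two (D : Data M P n e V t a b f d₀ σ Xa Xn Xb Xc Y) {g : G}
    (hg : g ∈ Subgroup.normalizer ((P : Subgroup G) : Set G))
    (hgen : ∀ k : ℕ, g ^ k ∈ Subgroup.centralizer ((P : Subgroup G) : Set G) ↔ e ∣ k)
    {η : IrrCharacter G} (hη : η ∈ Y) :
    IsIntegral ℤ (((1 + n * p : ℕ) : ℂ) * (η : G → ℂ) g / (d₀ : ℂ)) := by
  classical
  obtain ⟨hgC, hgr⟩ := D.regular_of_gen hg hgen
  have ht : 2 ≤ t := by
    by_contra ht
    have := D.t_pos
    rw [D.Y_empty (by omega)] at hη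
    simp at hη
  obtain ⟨x, hx, hx1⟩ : ∃ x ∈ (P : Subgroup G), x ≠ 1 := by
    refine Subgroup.bot_or_exists_ne_one _ |>.resolve_left fun h' => ?_
    have := D.hyp.hP
    rw [h', Subgroup.card_bot] at this
    exact hpf.out.ne_one this.symm
  obtain ⟨x', hx', hx1', hnc⟩ := D.exists_not_conj ht hx hx1
  have hW : ∀ w ∈ (P : Subgroup G), w ≠ 1 →
      ∑ η' ∈ Y, conj ((η' : G → ℂ) x) * (η' : G → ℂ) w * (η' : G → ℂ) g / (d₀ : ℂ) =
        ((if IsConj x w then (p : ℂ) else 0) - e) * (η : G → ℂ) g / (d₀ : ℂ) := by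
    intro w hw hw1
    rw [← D.Y_pair ht hx hx1 hw hw1, Finset.sum_mul, Finset.sum_div]
    refine Finset.sum_congr rfl fun η' hη' => ?_
    rw [D.regular η' hη' η hη g hgr]
    ring
  obtain ⟨m₁, hm₁⟩ := D.exists_count hg hgen hx hx1 hx hx1
  obtain ⟨m₂, hm₂⟩ := D.exists_count hg hgen hx hx1 hx' hx1'
  rw [hW x hx hx1, if_pos (IsConj.refl x)] at hm₁
  rw [hW x' hx' hx1', if_neg hnc] at hm₂
  have key : ((1 + n * p : ℕ) : ℂ) * (η : G → ℂ) g / (d₀ : ℂ) =
      (((m₁ : ℤ) - m₂ : ℤ) : ℂ) := by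
    apply mul_left_cancel₀ (Nat.cast_ne_zero.2 hpf.out.ne_zero : (p : ℂ) ≠ 0)
    push_cast at hm₁ hm₂ ⊢
    linear_combination hm₂ - hm₁
  rw [key]
  exact isIntegral_algebraMap (R := ℤ) (A := ℂ) (x := ((m₁ : ℤ) - m₂))

end CfsgLib.Block.NP.Data
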