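import Cfsg.Agent.Lib.Block.BRDegrees

/-!
Fewer than `p²` Sylow `p`-subgroups, Sylow subgroup of order `p`, Sylow number of Brauer's
exceptional shape: the setting and the shape of the principal block for an arbitrary centralizer.
-/

set_option autoImplicit false
set_option linter.unusedSectionVars false

namespace CfsgLib.Block.NP

open Cfsg CfsgLib CfsgLib.Block
open scoped ComplexConjugate

universe u

variable {G : Type u} [Group G] [Finite G] {p : ℕ} [hpf : Fact p.Prime]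

/-- The setting: a simple group, `V` the `p`-regular part of the centralizer of `P`. -/
structure Hyp (P : Sylow p G) (n e : ℕ) (V : Subgroup G) : Prop where
  simple : IsSimpleGroup G
  perfect : commutator G = ⊤
  hP : Nat.card P = p
  hn : Nat.card (Sylow p G) = 1 + n * p
  n_pos : 0 < n
  n_lt : n < p
  e_eq : (Subgroup.centralizer ((P : Subgroup G) : Set G)).relIndex
    (Subgroup.normalizer ((P : Subgroup G) : Set G)) = e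
  e_two : 2 ≤ e
  mem_V : ∀ z : G, z ∈ V ↔
    z ∈ Subgroup.centralizer ((P : Subgroup G) : Set G) ∧ ¬ p ∣ orderOf z
  card_C : Nat.card (Subgroup.centralizer ((P : Subgroup G) : Set G)) = p * Nat.card V
  card_N : Nat.card (Subgroup.normalizer ((P : Subgroup G) : Set G)) = p * e * Nat.card V
  card_G : Nat.card G = p * e * (1 + n * p) * Nat.card V

/--
The principal block. `Xa`, `Xn` have value `1` and degree `a (p - b)`, `N`; `Xb`, `Xc` have value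
`-1` and degree `p - 1`, `b (p + a)`; `Y` is the exceptional family of degree `d₀`, with fixed
dimension `f` and sign `σ` (`t = 1`: `Y = ∅`, `f = d₀ = σ = 0`).
-/
structure Data (M : Ideal AlgInt) (P : Sylow p G) (n e : ℕ) (V : Subgroup G) (t a b f d₀ : ℕ)
    (σ : ℤ) (Xa Xn Xb Xc Y : Finset (IrrCharacter G)) : Prop where
  hM : IsPModular p M
  hyp : Hyp P n e V
  hte : t * e + 1 = p
  a_two : 2 ≤ a
  a_le : a ≤ b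
  hab : a * b + 1 = p
  n_eq : n + b = a * b + a
  N_eq : 1 + n * p = (p + a) * (p - b)
  alt : (t = 1 ∧ f = 0 ∧ d₀ = 0 ∧ σ = 0) ∨
    (2 ≤ t ∧ f = 0 ∧ d₀ = e ∧ σ = 1) ∨
    (2 ≤ t ∧ f * t = b ∧ e = a * f ∧ d₀ = f * (p + a) ∧ σ = 1) ∨
    (2 ≤ t ∧ f * t = a ∧ e = b * f ∧ d₀ = f * (p - b) ∧ σ = -1) ∨
    (2 ≤ t ∧ f * t = n + 1 ∧ t * d₀ = 1 + n * p ∧ σ = -1)
  count : 2 ≤ t → Xa.card + Xn.card + Xb.card + Xc.card + 1 = e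
  count_one : t = 1 → Xa.card + Xn.card + Xb.card + Xc.card = e
  card_Y : 2 ≤ t → Y.card = t
  Y_empty : t = 1 → Y = ∅
  disj_an : Disjoint Xa Xn
  disj_ab : Disjoint Xa Xb
  disj_ac : Disjoint Xa Xc
  disj_aY : Disjoint Xa Y
  disj_nb : Disjoint Xn Xb
  disj_nc : Disjoint Xn Xc
  disj_nY : Disjoint Xn Y
  disj_bc : Disjoint Xb Xc
  disj_bY : Disjoint Xb Y
  disj_cY : Disjoint Xc Y
  one_not : (⟨fun _ => 1, Char.isIrrCharacter_one⟩ : IrrCharacter G) ∉ Xa ∧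
    (⟨fun _ => 1, Char.isIrrCharacter_one⟩ : IrrCharacter G) ∉ Xn ∧
    (⟨fun _ => 1, Char.isIrrCharacter_one⟩ : IrrCharacter G) ∉ Xb ∧
    (⟨fun _ => 1, Char.isIrrCharacter_one⟩ : IrrCharacter G) ∉ Xc ∧
    (⟨fun _ => 1, Char.isIrrCharacter_one⟩ : IrrCharacter G) ∉ Y
  mem : ∀ χ : IrrCharacter G, χ ∈ principalBlock M G ↔
    (χ : G → ℂ) = (fun _ => 1) ∨ χ ∈ Xa ∨ χ ∈ Xn ∨ χ ∈ Xb ∨ χ ∈ Xc ∨ χ ∈ Y
  Xa_deg : ∀ χ ∈ Xa, (χ : G → ℂ) 1 = ((a * (p - b) : ℕ) : ℂ)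
  Xn_deg : ∀ χ ∈ Xn, (χ : G → ℂ) 1 = ((1 + n * p : ℕ) : ℂ)
  Xb_deg : ∀ χ ∈ Xb, (χ : G → ℂ) 1 = ((p - 1 : ℕ) : ℂ)
  Xc_deg : ∀ χ ∈ Xc, (χ : G → ℂ) 1 = ((b * (p + a) : ℕ) : ℂ)
  Y_deg : ∀ χ ∈ Y, (χ : G → ℂ) 1 = (d₀ : ℂ)
  a_dvd : Xa.Nonempty → a ∣ e
  b_dvd : Xc.Nonempty → b ∣ e
  Xa_val : ∀ χ ∈ Xa, ∀ y ∈ (P : Subgroup G), y ≠ 1 → ∀ z ∈ V, (χ : G → ℂ) (y * z) = 1
  Xn_val : ∀ χ ∈ Xn, ∀ y ∈ (P : Subgroup G), y ≠ 1 → ∀ z ∈ V, (χ : G → ℂ) (y * z) = 1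
  Xb_val : ∀ χ ∈ Xb, ∀ y ∈ (P : Subgroup G), y ≠ 1 → ∀ z ∈ V, (χ : G → ℂ) (y * z) = -1
  Xc_val : ∀ χ ∈ Xc, ∀ y ∈ (P : Subgroup G), y ≠ 1 → ∀ z ∈ V, (χ : G → ℂ) (y * z) = -1
  Y_val : ∀ χ ∈ Y, ∀ y ∈ (P : Subgroup G), y ≠ 1 → ∀ z ∈ V,
    (χ : G → ℂ) (y * z) = (χ : G → ℂ) y
  Y_sum : ∀ χ ∈ Y, ∑ᶠ y : (P : Subgroup G), (χ : G → ℂ) y = ((p * f : ℕ) : ℂ)
  regular : ∀ η ∈ Y, ∀ η' ∈ Y, ∀ g : G, ¬ p ∣ orderOf g → (η : G → ℂ) g = (η' : G → ℂ) g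
  relation : ∀ η ∈ Y, ∀ g : G, ¬ p ∣ orderOf g →
    1 + ∑ χ ∈ Xa, (χ : G → ℂ) g + ∑ χ ∈ Xn, (χ : G → ℂ) g - ∑ χ ∈ Xb, (χ : G → ℂ) g -
      ∑ χ ∈ Xc, (χ : G → ℂ) g = (σ : ℂ) * (η : G → ℂ) g
  relation_one : t = 1 → ∀ g : G, ¬ p ∣ orderOf g →
    1 + ∑ χ ∈ Xa, (χ : G → ℂ) g + ∑ χ ∈ Xn, (χ : G → ℂ) g - ∑ χ ∈ Xb, (χ : G → ℂ) g -
      ∑ χ ∈ Xc, (χ : G → ℂ) g = 0
  deg_eq : (1 : ℤ) + Xa.card * ((a * (p - b) : ℕ) : ℤ) + Xn.card * ((1 + n * p : ℕ) : ℤ) -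
    Xb.card * ((p - 1 : ℕ) : ℤ) - Xc.card * ((b * (p + a) : ℕ) : ℤ) = σ * (d₀ : ℤ)

namespace Data

variable {M : Ideal AlgInt} {P : Sylow p G} {n e : ℕ} {V : Subgroup G} {t a b f d₀ : ℕ}
  {σ : ℤ} {Xa Xn Xb Xc Y : Finset (IrrCharacter G)}

theorem t_pos (D : Data M P n e V t a b f d₀ σ Xa Xn Xb Xc Y) : 0 < t := by
  have h := D.hte
  have := hpf.out.two_le
  rcases Nat.eq_zero_or_pos t with ht | ht
  · rw [ht, zero_mul] at h; omega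
  · exact ht

theorem e_lt (D : Data M P n e V t a b f d₀ σ Xa Xn Xb Xc Y) : e < p := by
  have h := D.hte
  have : 1 * e ≤ t * e := Nat.mul_le_mul_right _ D.t_pos
  omega

theorem p_odd (D : Data M P n e V t a b f d₀ σ Xa Xn Xb Xc Y) : Odd p := by
  refine hpf.out.odd_of_ne_two fun h2 => ?_
  have h := D.hab
  have : 2 * 2 ≤ a * b := Nat.mul_le_mul D.a_two (D.a_two.trans D.a_le)
  omega

end Data

end CfsgLib.Block.NP
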