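import Cfsg.Agent.Lib.Block.BRDegrees
import Cfsg.Agent.Lib.Block.PrincipalSection
import Cfsg.Agent.Lib.Block.NP.Fusion
import Cfsg.Agent.Lib.Block.NP.Setup

/-!
Separation by blocks for a second prime `r`: averaging the column of `x C(P)` (`x` a generator of
the Sylow subgroup `P` of order `p`) kills the non-principal `p`-blocks, and orthogonality for the
`r`-blocks splits the resulting relation.
-/

set_option autoImplicit false
set_option linter.unusedSectionVars false

namespace CfsgLib.Block.NP.Separation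

open Cfsg CfsgLib CfsgLib.Block
open scoped ComplexConjugate

universe u

variable {G : Type u} [Group G] [Finite G] {p : ℕ} [hpf : Fact p.Prime]

/-- Column orthogonality as a count. -/
theorem column_count [Fintype G] [DecidableEq G] [Fintype (IrrCharacter G)] (g h : G) :
    ∑ χ : IrrCharacter G, (χ : G → ℂ) g * conj ((χ : G → ℂ) h) =
      ((Finset.univ.filter fun a : G => a * h * a⁻¹ = g).card : ℂ) := by
  have h1 := sum_chiExt_conj_eq (1 : MonoidAlgebra ℂ G) g h
  simp only [chiExt_one] at h1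
  rw [h1, Finset.card_filter, Nat.cast_sum]
  refine Finset.sum_congr rfl fun a _ => ?_
  rw [MonoidAlgebra.one_def, MonoidAlgebra.coeff_single, Finsupp.single_apply]
  by_cases he : a * h * a⁻¹ = g
  · rw [if_pos (by rw [he, mul_inv_cancel]), if_pos he, Nat.cast_one]
  · rw [if_neg (fun h' => he (mul_inv_eq_one.1 h'.symm)), if_neg he, Nat.cast_zero]

/-- The centraliser of `P` has a normal `p`-complement, of index `p`. -/
theorem centralizer_structure (P : Sylow p G) (hP : Nat.card P = p) :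
    Cfsg.HasNormalPComplement p (Subgroup.centralizer ((P : Subgroup G) : Set G)) ∧
      (Nat.card (Subgroup.centralizer ((P : Subgroup G) : Set G))).factorization p = 1 := by
  have : IsCyclic ↥(P : Subgroup G) := isCyclic_of_prime_card hP
  have hle : (P : Subgroup G) ≤ Subgroup.centralizer ((P : Subgroup G) : Set G) :=
    Subgroup.le_centralizer_iff_isMulCommutative.2 inferInstance
  refine ⟨CfsgLib.Transfer.hasNormalPComplement_of_normalizer_le_centralizer (P.subtype hle) ?_, ?_⟩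
  · intro n _
    rw [Sylow.coe_subtype, Subgroup.mem_centralizer_iff]
    intro y hy
    exact Subtype.ext (Subgroup.mem_centralizer_iff.1 n.2 (y : G) hy)
  · have hG : (Nat.card G).factorization p = 1 := by
      have h := P.card_eq_multiplicity
      rw [hP] at h
      exact (Nat.pow_eq_self_iff hpf.out.one_lt).1 h.symm
    refine le_antisymm (hG ▸ (Nat.factorization_le_iff_dvd Nat.card_pos.ne' Nat.card_pos.ne').2
      (Subgroup.card_subgroup_dvd_card _) p) ?_
    exact hpf.out.factorization_pos_of_dvd Nat.card_pos.ne'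
      ((dvd_of_eq hP.symm).trans (Subgroup.card_dvd_of_le hle))

/-- The `p`-regular elements of `C(P)`. -/
noncomputable def regSet (P : Sylow p G) : Finset G :=
  (Set.toFinite {v : G | v ∈ Subgroup.centralizer ((P : Subgroup G) : Set G) ∧
    ¬ p ∣ orderOf v}).toFinset

theorem mem_regSet {P : Sylow p G} {v : G} : v ∈ regSet P ↔
    v ∈ Subgroup.centralizer ((P : Subgroup G) : Set G) ∧ ¬ p ∣ orderOf v :=
  Set.Finite.mem_toFinset _

theorem card_centralizer (P : Sylow p G) (hP : Nat.card P = p) :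
    Nat.card (Subgroup.centralizer ((P : Subgroup G) : Set G)) = p * (regSet P).card := by
  obtain ⟨hnc, hfac⟩ := centralizer_structure P hP
  set C := Subgroup.centralizer ((P : Subgroup G) : Set G)
  obtain ⟨hreg, hcard⟩ := core_of_hasNormalPComplement hnc
  rw [hcard, hfac, pow_one]
  congr 1
  set K := Cfsg.pPrimeCore p C
  have hK : ¬ p ∣ Nat.card K :=
    hpf.out.coprime_iff_not_dvd.1 (CfsgLib.Solvable.pPrimeCore_coprime p).symm
  rw [← Nat.card_eq_finsetCard]
  refine Nat.card_congr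
    { toFun := fun v => ⟨((v : C) : G), mem_regSet.2 ⟨(v : C).2, fun hd => hK ?_⟩⟩
      invFun := fun v => ⟨⟨v.1, (mem_regSet.1 v.2).1⟩, hreg _ (by
        rw [Subgroup.orderOf_mk]; exact (mem_regSet.1 v.2).2)⟩
      left_inv := fun _ => rfl
      right_inv := fun _ => rfl }
  rw [Subgroup.orderOf_coe, Subgroup.orderOf_coe] at hd
  exact hd.trans (orderOf_dvd_natCard v)

section Average

variable {M : Ideal AlgInt}

/-- On `x C(P)` the principal block is constant, and the column of `x` has norm `p`. -/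
theorem principal_column (hM : IsPModular p M) (P : Sylow p G) (hP : Nat.card P = p) {x : G}
    (hx : x ∈ (P : Subgroup G)) (hx1 : x ≠ 1) :
    (∀ χ ∈ principalBlock M G, ∀ v ∈ regSet P, (χ : G → ℂ) (x * v) = (χ : G → ℂ) x) ∧
    (∑ᶠ χ ∈ principalBlock M G, (χ : G → ℂ) x * conj ((χ : G → ℂ) x) = (p : ℂ)) := by
  have hox : ∃ k : ℕ, orderOf x = p ^ k := IsPGroup.iff_orderOf.1 P.isPGroup' ⟨x, hx⟩ |>.imp
    fun k hk => by rwa [Subgroup.orderOf_mk] at hk
  have hC := BrauerReynolds.centralizer_mem_eq P hP hx hx1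
  obtain ⟨hnc, hfac⟩ := centralizer_structure P hP
  obtain ⟨h1, h2⟩ := principal_section hM hox (hC.symm ▸ hnc)
  refine ⟨fun χ hχ v hv => h1 χ hχ v ?_ (mem_regSet.1 hv).2, ?_⟩
  · exact Subgroup.mem_centralizer_iff.1 (mem_regSet.1 hv).1 x hx
  · rw [h2, hC, hfac, pow_one]

/-- Averaging over `x C(P)` kills the non-principal blocks. -/
theorem average_eq_zero (hM : IsPModular p M) (P : Sylow p G) (hP : Nat.card P = p) {x : G}
    (hx : x ∈ (P : Subgroup G)) (hx1 : x ≠ 1) (χ : IrrCharacter G)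
    (hχ : χ ∉ principalBlock M G) : ∑ v ∈ regSet P, (χ : G → ℂ) (x * v) = 0 := by
  classical
  have := Fintype.ofFinite G
  have := Fintype.ofFinite (IrrCharacter G)
  obtain ⟨hconst, hnorm⟩ := principal_column hM P hP hx hx1
  set C := Subgroup.centralizer ((P : Subgroup G) : Set G) with hC
  set k := (regSet P).card with hk
  let S : IrrCharacter G → ℂ := fun ψ => ∑ v ∈ regSet P, (ψ : G → ℂ) (x * v)
  -- the total
  have hcount : ∀ v ∈ regSet P, ∑ w ∈ regSet P,
      (Finset.univ.filter fun a : G => a * (x * v) * a⁻¹ = x * w).card = p * k := by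
    intro v hv
    rw [← card_centralizer P hP, Nat.card_eq_fintype_card, Fintype.card_subtype]
    rw [← Finset.card_biUnion]
    · refine congrArg _ (Finset.ext fun a => ?_)
      simp only [Finset.mem_biUnion, Finset.mem_filter, Finset.mem_univ, true_and]
      have hcv : Commute x v := Subgroup.mem_centralizer_iff.1 (mem_regSet.1 hv).1 x hx
      have hox : ∃ j : ℕ, orderOf x = p ^ j := IsPGroup.iff_orderOf.1 P.isPGroup' ⟨x, hx⟩ |>.imp
        fun j hj => by rwa [Subgroup.orderOf_mk] at hj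
      have hpv : IsPPart p (x * v) x := isPPart_mul hcv hox (mem_regSet.1 hv).2
      constructor
      · rintro ⟨w, hw, he⟩
        have hcw : Commute x w := Subgroup.mem_centralizer_iff.1 (mem_regSet.1 hw).1 x hx
        have h1 := isPPart_conj hpv a
        rw [he] at h1
        have hax : a * x * a⁻¹ = x :=
          isPPart_unique hpf.out h1 (isPPart_mul hcw hox (mem_regSet.1 hw).2)
        rw [← BrauerReynolds.centralizer_mem_eq P hP hx hx1,
          Subgroup.mem_centralizer_singleton_iff]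
        exact mul_inv_eq_iff_eq_mul.1 hax
      · intro ha
        have hax : a * x * a⁻¹ = x := by
          rw [← Subgroup.mem_centralizer_iff.1 ha x hx]; group
        refine ⟨a * v * a⁻¹, mem_regSet.2
          ⟨mul_mem (mul_mem ha (mem_regSet.1 hv).1) (inv_mem ha), ?_⟩, ?_⟩
        · rw [show orderOf (a * v * a⁻¹) = orderOf v from
            orderOf_injective (MulAut.conj a).toMonoidHom (MulAut.conj a).injective v]
          exact (mem_regSet.1 hv).2
        · conv_rhs => rw [← hax]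
          group
    · intro w₁ _ w₂ _ hne
      rw [Function.onFun, Finset.disjoint_left]
      intro a h1 h2
      exact hne (mul_left_cancel ((Finset.mem_filter.1 h1).2.symm.trans (Finset.mem_filter.1 h2).2))
  have hT : ∑ ψ : IrrCharacter G, S ψ * conj (S ψ) = (p : ℂ) * k ^ 2 := by
    simp only [S, map_sum, Finset.sum_mul, Finset.mul_sum]
    rw [Finset.sum_comm]
    rw [Finset.sum_congr rfl fun v hv => Finset.sum_comm]
    simp only [column_count]
    rw [Finset.sum_congr rfl fun v hv =>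
      (Nat.cast_sum _ _).symm.trans (congrArg (fun m : ℕ => (m : ℂ)) (hcount v hv)),
      Finset.sum_const, nsmul_eq_mul]
    push_cast
    ring
  -- the principal block
  set Bf := (principalBlock M G).toFinite.toFinset
  have hB : ∑ ψ ∈ Bf, S ψ * conj (S ψ) = (p : ℂ) * k ^ 2 := by
    rw [← hnorm, finsum_mem_eq_finite_toFinset_sum _ (principalBlock M G).toFinite, Finset.sum_mul]
    refine Finset.sum_congr rfl fun ψ hψ => ?_
    have hS : S ψ = (k : ℂ) * (ψ : G → ℂ) x := by
      rw [show S ψ = ∑ v ∈ regSet P, (ψ : G → ℂ) (x * v) from rfl,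
        Finset.sum_congr rfl fun v hv => hconst ψ ((Set.Finite.mem_toFinset _).1 hψ) v hv,
        Finset.sum_const, nsmul_eq_mul]
    rw [hS, map_mul, map_natCast]
    ring
  rw [← Finset.sum_add_sum_compl Bf, hB, add_eq_left] at hT
  have h0 : ∑ ψ ∈ Bfᶜ, Complex.normSq (S ψ) = 0 := by
    have h1 : ((∑ ψ ∈ Bfᶜ, Complex.normSq (S ψ) : ℝ) : ℂ) = 0 := by
      push_cast
      rw [← hT]
      exact Finset.sum_congr rfl fun ψ _ => (Complex.mul_conj _).symm
    exact_mod_cast h1
  exact Complex.normSq_eq_zero.1 ((Finset.sum_eq_zero_iff_of_nonneg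
    fun ψ _ => Complex.normSq_nonneg _).1 h0 χ
      (Finset.mem_compl.2 fun h => hχ ((Set.Finite.mem_toFinset _).1 h)))

/-- Orthogonality over a union of blocks. -/
theorem sum_union_eq_zero {r : ℕ} {Mr : Ideal AlgInt} (hMr : IsPModular r Mr)
    {S : Set (IrrCharacter G)}
    (hS : ∀ χ ψ : IrrCharacter G, χ ∈ S → SameBlock Mr (χ : G → ℂ) (ψ : G → ℂ) → ψ ∈ S)
    {g h u w : G} (hu : IsPPart r g u) (hw : IsPPart r h w) (hne : ¬ IsConj u w) :
    ∑ᶠ χ ∈ S, (χ : G → ℂ) g * conj ((χ : G → ℂ) h) = 0 := by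
  classical
  have := isPrime_of_pmodular hMr
  have := Fintype.ofFinite (IrrCharacter G)
  set f : IrrCharacter G → Set (IrrCharacter G) := fun χ => blockOf Mr (χ : G → ℂ)
  set Sf := S.toFinite.toFinset
  rw [finsum_mem_eq_finite_toFinset_sum _ S.toFinite,
    ← Finset.sum_fiberwise_of_maps_to (t := Sf.image f) fun χ hχ => Finset.mem_image_of_mem f hχ]
  refine Finset.sum_eq_zero fun B hB => ?_
  obtain ⟨χ, hχ, rfl⟩ := Finset.mem_image.1 hB
  have h0 := sum_block_eq_zero hMr (isPBlock_blockOf (M := Mr) χ) hu hw hne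
  rw [finsum_mem_eq_finite_toFinset_sum _ (Set.toFinite _)] at h0
  rw [← h0]
  refine Finset.sum_congr (Finset.ext fun ψ => ?_) fun _ _ => rfl
  rw [Finset.mem_filter, Set.Finite.mem_toFinset, Set.Finite.mem_toFinset]
  refine ⟨fun h' => (show blockOf Mr (ψ : G → ℂ) = blockOf Mr (χ : G → ℂ) from h'.2) ▸
    mem_blockOf_self (M := Mr) ψ, fun h' => ⟨?_, blockOf_eq_of_mem h'⟩⟩
  exact hS χ ψ ((Set.Finite.mem_toFinset _).1 hχ) h'

/-- **Separation.** -/
theorem separation (hM : IsPModular p M) (P : Sylow p G) (hP : Nat.card P = p) {x : G}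
    (hx : x ∈ (P : Subgroup G)) (hx1 : x ≠ 1) {r : ℕ} {Mr : Ideal AlgInt}
    (hMr : IsPModular r Mr) {g u : G} (hu : IsPPart r g u)
    (hfus : ∀ c ∈ Subgroup.centralizer ((P : Subgroup G) : Set G), ¬ IsConj u c)
    {S : Set (IrrCharacter G)}
    (hS : ∀ χ ψ : IrrCharacter G, χ ∈ S → SameBlock Mr (χ : G → ℂ) (ψ : G → ℂ) → ψ ∈ S) :
    ∑ᶠ χ ∈ principalBlock M G ∩ S, (χ : G → ℂ) g * conj ((χ : G → ℂ) x) = 0 := by
  classical
  have := isPrime_of_pmodular hM
  obtain ⟨hconst, -⟩ := principal_column hM P hP hx hx1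
  set k := (regSet P).card with hk
  have hk0 : (k : ℂ) ≠ 0 := by
    have := card_centralizer P hP
    rw [← hk] at this
    refine Nat.cast_ne_zero.2 fun h => ?_
    rw [h, mul_zero] at this
    exact (Nat.card_pos (α := Subgroup.centralizer ((P : Subgroup G) : Set G))).ne' this
  have hxC : x ∈ Subgroup.centralizer ((P : Subgroup G) : Set G) := by
    rw [← BrauerReynolds.centralizer_mem_eq P hP hx hx1]
    exact Subgroup.mem_centralizer_singleton_iff.2 rfl
  refine (mul_eq_zero.1 ?_).resolve_left hk0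
  rw [finsum_mem_eq_finite_toFinset_sum _ (Set.toFinite _), Finset.mul_sum]
  have h0 : ∑ χ ∈ S.toFinite.toFinset,
      (χ : G → ℂ) g * conj (∑ v ∈ regSet P, (χ : G → ℂ) (x * v)) = 0 := by
    simp only [map_sum, Finset.mul_sum]
    rw [Finset.sum_comm]
    refine Finset.sum_eq_zero fun v hv => ?_
    obtain ⟨w, hw⟩ := exists_isPPart hMr.1 (x * v)
    rw [← finsum_mem_eq_finite_toFinset_sum _ S.toFinite]
    exact sum_union_eq_zero hMr hS hu hw (hfus w (Subgroup.zpowers_le.2
      (mul_mem hxC (mem_regSet.1 hv).1) (isPPart_mem_zpowers hMr.1 hw)))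
  rw [← h0]
  symm
  rw [← Finset.sum_subset (s₁ := (Set.toFinite (principalBlock M G ∩ S)).toFinset)
    (fun χ hχ => (Set.Finite.mem_toFinset _).2 ((Set.Finite.mem_toFinset _).1 hχ).2)
    (fun χ hχ hn => by
      rw [average_eq_zero hM P hP hx hx1 χ fun hB => hn ((Set.Finite.mem_toFinset _).2
        ⟨hB, (Set.Finite.mem_toFinset _).1 hχ⟩), map_zero, mul_zero])]
  refine Finset.sum_congr rfl fun χ hχ => ?_
  rw [Finset.sum_congr rfl fun v hv => hconst χ ((Set.Finite.mem_toFinset _).1 hχ).1 v hv,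
    Finset.sum_const, nsmul_eq_mul, map_mul, map_natCast]
  ring

/-- The `r`-part of an element of `N(P) \ C(P)` that stays outside `C(P)` is not conjugate into
`C(P)`. -/
theorem not_isConj_of_fusion (P : Sylow p G) (hP : Nat.card P = p)
    (hN : Nat.card (Sylow p G) < p ^ 2) {u : G}
    (hu : u ∈ Subgroup.normalizer ((P : Subgroup G) : Set G))
    (hu' : u ∉ Subgroup.centralizer ((P : Subgroup G) : Set G)) :
    ∀ c ∈ Subgroup.centralizer ((P : Subgroup G) : Set G), ¬ IsConj u c :=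
  fun _ hc h => hu' (Fusion.mem_centralizer_of_isConj P hP hN hc hu h.symm)

/-- The `r`-part of `g` lies outside `C(P)` if `r` divides the order of `g` modulo `C(P)`. -/
theorem ppart_notMem (P : Sylow p G) {r : ℕ} {g u : G} (hu : IsPPart r g u)
    (hord : ∀ m : ℕ, g ^ m ∈ Subgroup.centralizer ((P : Subgroup G) : Set G) → r ∣ m) :
    u ∉ Subgroup.centralizer ((P : Subgroup G) : Set G) := fun hC => by
  obtain ⟨y, rfl, hc, -, hy⟩ := hu
  refine hy (hord (orderOf y) ?_)
  rw [hc.mul_pow, pow_orderOf_eq_one, mul_one]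
  exact pow_mem hC _

/-- Separation at an element of `N(P)` whose order modulo `C(P)` is divisible by `r`. -/
theorem separation_zeroSet (hM : IsPModular p M) (P : Sylow p G) (hP : Nat.card P = p)
    (hN : Nat.card (Sylow p G) < p ^ 2) {x : G} (hx : x ∈ (P : Subgroup G)) (hx1 : x ≠ 1)
    {r : ℕ} {Mr : Ideal AlgInt} (hMr : IsPModular r Mr) {g : G}
    (hg : g ∈ Subgroup.normalizer ((P : Subgroup G) : Set G))
    (hord : ∀ m : ℕ, g ^ m ∈ Subgroup.centralizer ((P : Subgroup G) : Set G) → r ∣ m) :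
    ∑ᶠ χ ∈ principalBlock M G ∩
        {χ : IrrCharacter G | ∀ y ∈ (P : Subgroup G), y ≠ 1 →
          MemLocalIdeal Mr (centralChar (χ : G → ℂ) y)},
      (χ : G → ℂ) g * conj ((χ : G → ℂ) x) = 0 := by
  obtain ⟨u, hu⟩ := exists_isPPart hMr.1 g
  refine separation hM P hP hx hx1 hMr hu (not_isConj_of_fusion P hP hN
    (Subgroup.zpowers_le.2 hg (isPPart_mem_zpowers hMr.1 hu)) (ppart_notMem P hu hord))
    fun χ ψ hχ h => ?_
  have := isPrime_of_pmodular hMr
  intro y hy hy1
  have := memLocalIdeal_sub (hχ y hy hy1) (h y)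
  rwa [sub_sub_cancel] at this

/-- The characters whose central character vanishes modulo `Mr` on all of `P#`. -/
def zeroSet (Mr : Ideal AlgInt) (P : Sylow p G) : Set (IrrCharacter G) :=
  {χ | ∀ y ∈ (P : Subgroup G), y ≠ 1 → MemLocalIdeal Mr (centralChar (χ : G → ℂ) y)}

theorem zeroSet_closed {r : ℕ} {Mr : Ideal AlgInt} (hMr : IsPModular r Mr) (P : Sylow p G)
    (χ ψ : IrrCharacter G) (hχ : χ ∈ zeroSet Mr P)
    (h : SameBlock Mr (χ : G → ℂ) (ψ : G → ℂ)) : ψ ∈ zeroSet Mr P := by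
  have := isPrime_of_pmodular hMr
  intro y hy hy1
  have := memLocalIdeal_sub (hχ y hy hy1) (h y)
  rwa [sub_sub_cancel] at this

/-- The central character at an element of `P#`. -/
theorem centralChar_eq (P : Sylow p G) (hP : Nat.card P = p) {y : G}
    (hy : y ∈ (P : Subgroup G)) (hy1 : y ≠ 1) (f : G → ℂ) :
    centralChar f y = ((((Subgroup.centralizer ((P : Subgroup G) : Set G)).relIndex
      (Subgroup.normalizer ((P : Subgroup G) : Set G)) * Nat.card (Sylow p G) : ℕ)) : ℂ) *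
        f y / f 1 := by
  rw [centralChar, BrauerReynolds.centralizer_mem_eq P hP hy hy1, BrauerReynolds.index_centralizer]

/-- Membership for an integer value. -/
theorem memLocalIdeal_int_iff {r : ℕ} {Mr : Ideal AlgInt} (hMr : IsPModular r Mr) (c : ℤ) :
    MemLocalIdeal Mr (c : ℂ) ↔ (r : ℤ) ∣ c := by
  have := isPrime_of_pmodular hMr
  have hneg : ∀ z : ℂ, MemLocalIdeal Mr (-z) ↔ MemLocalIdeal Mr z :=
    fun z => ⟨fun h => by simpa using memLocalIdeal_neg h, memLocalIdeal_neg⟩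
  rcases Int.natAbs_eq c with h | h
  · rw [h, Int.cast_natCast, memLocalIdeal_natCast_iff hMr, Int.natCast_dvd_natCast]
  · rw [h, Int.cast_neg, Int.cast_natCast, hneg, memLocalIdeal_natCast_iff hMr, dvd_neg,
      Int.natCast_dvd_natCast]

end Average

end CfsgLib.Block.NP.Separation

namespace CfsgLib.Block.NP.Data

open Cfsg CfsgLib CfsgLib.Block
open scoped ComplexConjugate

universe u

variable {G : Type u} [Group G] [Finite G] {p : ℕ} [hpf : Fact p.Prime]
  {M : Ideal AlgInt} {P : Sylow p G} {n e : ℕ} {V : Subgroup G} {t a b f d₀ : ℕ}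
  {σ : ℤ} {Xa Xn Xb Xc Y : Finset (IrrCharacter G)}

/-- A generator of `N(P)` modulo `C(P)` lies outside `C(P)` and is `p`-regular. -/
theorem regular_of_gen (D : Data M P n e V t a b f d₀ σ Xa Xn Xb Xc Y) {g : G}
    (hg : g ∈ Subgroup.normalizer ((P : Subgroup G) : Set G))
    (hgen : ∀ k : ℕ, g ^ k ∈ Subgroup.centralizer ((P : Subgroup G) : Set G) ↔ e ∣ k) :
    g ∉ Subgroup.centralizer ((P : Subgroup G) : Set G) ∧ ¬ p ∣ orderOf g := by
  have hgC : g ∉ Subgroup.centralizer ((P : Subgroup G) : Set G) := fun h => by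
    have h1 := Nat.le_of_dvd one_pos ((hgen 1).1 (by rwa [pow_one]))
    have := D.hyp.e_two
    omega
  refine ⟨hgC, fun hd => hgC ?_⟩
  set v := g ^ (orderOf g / p) with hv
  have hov : orderOf v = p := orderOf_pow_orderOf_div (orderOf_pos g).ne' hd
  have hvN : v ∈ Subgroup.normalizer ((P : Subgroup G) : Set G) := pow_mem hg _
  have hz : IsPGroup p (Subgroup.zpowers v) :=
    IsPGroup.of_card (n := 1) (by rw [Nat.card_zpowers, hov, pow_one])
  have hle : Subgroup.zpowers v ≤ (P : Subgroup G) :=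
    inf_eq_left.mp ((hz.inf_normalizer_sylow P).symm.trans
      (inf_eq_left.mpr (Subgroup.zpowers_le.2 hvN)))
  refine Fusion.mem_centralizer_of_commute P D.hyp.hP (hle (Subgroup.mem_zpowers v))
    (fun h => hpf.out.ne_one (by rw [← hov, h, orderOf_one])) ?_
  exact Commute.self_pow g _

/-- The members of degree `p - 1` vanish on `N(P) \ C(P)`. -/
theorem Xb_apply_eq_zero_sep (D : Data M P n e V t a b f d₀ σ Xa Xn Xb Xc Y) {χ : IrrCharacter G}
    (hχ : χ ∈ Xb) {g : G} (hg : g ∈ Subgroup.normalizer ((P : Subgroup G) : Set G))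
    (hgC : g ∉ Subgroup.centralizer ((P : Subgroup G) : Set G)) : (χ : G → ℂ) g = 0 := by
  classical
  have := Fintype.ofFinite G
  have h0 : ∑ᶠ u : (P : Subgroup G), (χ : G → ℂ) u = 0 := by
    rw [finsum_eq_sum_of_fintype, ← Finset.add_sum_erase _ _ (Finset.mem_univ 1),
      Finset.sum_congr rfl (g := fun _ => (-1 : ℂ)) fun (u : ↥(P : Subgroup G)) hu => by
        have h' := D.Xb_val χ hχ u u.2 (fun h => (Finset.mem_erase.1 hu).1 (Subtype.ext h)) 1
          (Subgroup.one_mem _)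
        rwa [mul_one] at h',
      Finset.sum_const, Finset.card_erase_of_mem (Finset.mem_univ _), Finset.card_univ,
      ← Nat.card_eq_fintype_card, D.hyp.hP, Subgroup.coe_one, D.Xb_deg χ hχ, nsmul_eq_mul,
      mul_neg_one, add_neg_cancel]
  have h1 := BrauerReynolds.sum_mul_eq_zero (Char.irr_isCharacter χ.2) h0 g
  rw [finsum_eq_sum_of_fintype] at h1
  have hmem : ∀ u : (P : Subgroup G), g⁻¹ * u * g * (u : G)⁻¹ ∈ (P : Subgroup G) := fun u =>
    mul_mem ((Subgroup.mem_normalizer_iff''.1 hg _).1 u.2) (inv_mem u.2)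
  let φ : ↥(P : Subgroup G) → ↥(P : Subgroup G) := fun u => ⟨_, hmem u⟩
  have hφ : Function.Bijective φ := by
    refine Finite.injective_iff_bijective.1 fun u v huv => ?_
    have h : g⁻¹ * (u : G) * g * (u : G)⁻¹ = g⁻¹ * (v : G) * g * (v : G)⁻¹ :=
      congrArg Subtype.val huv
    have hc : Commute g ((v : G)⁻¹ * u) := by
      have h2 : (u : G) * g * (u : G)⁻¹ = v * g * (v : G)⁻¹ := by
        have := congrArg (g * ·) h
        simpa [mul_assoc] using this
      show g * ((v : G)⁻¹ * u) = (v : G)⁻¹ * u * g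
      calc g * ((v : G)⁻¹ * u) = (v : G)⁻¹ * (v * g * (v : G)⁻¹) * u := by group
        _ = (v : G)⁻¹ * (u * g * (u : G)⁻¹) * u := by rw [h2]
        _ = (v : G)⁻¹ * u * g := by group
    by_contra hne
    exact hgC (Fusion.mem_centralizer_of_commute P D.hyp.hP (mul_mem (inv_mem v.2) u.2)
      (fun h' => hne (Subtype.ext (inv_mul_eq_one.1 h').symm)) hc)
  rw [← (Equiv.ofBijective φ hφ).sum_comp, Finset.sum_congr rfl (g := fun _ => (χ : G → ℂ) g)
    (fun u _ => by
      show (χ : G → ℂ) (g * (g⁻¹ * u * g * (u : G)⁻¹)) = _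
      rw [show g * (g⁻¹ * (u : G) * g * (u : G)⁻¹) = (u : G) * g * (u : G)⁻¹ by group]
      exact Char.irr_isClassFunction χ.2 g u),
    Finset.sum_const, Finset.card_univ, ← Nat.card_eq_fintype_card, D.hyp.hP, nsmul_eq_mul,
    mul_eq_zero] at h1
  exact h1.resolve_left (Nat.cast_ne_zero.2 hpf.out.ne_zero)

/-- The exceptional degree. -/
theorem d₀_eq (D : Data M P n e V t a b f d₀ σ Xa Xn Xb Xc Y) (ht : 2 ≤ t) :
    (d₀ : ℤ) = p * f + σ * e ∧ 0 < d₀ ∧ d₀ ∣ e * (1 + n * p) := by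
  have hbp : b ≤ p := by
    have := Nat.le_mul_of_pos_left b (show 0 < a by have := D.a_two; omega)
    have := D.hab
    omega
  have ha2 := D.a_two
  have hab' := D.a_le
  have he := D.hyp.e_two
  rcases D.alt with h | ⟨-, hf, hd, hσ⟩ | ⟨-, hft, hee, hd, hσ⟩ | ⟨-, hft, hee, hd, hσ⟩ |
    ⟨-, hft, hd, hσ⟩
  · omega
  · subst hf hd hσ
    exact ⟨by ring, by omega, dvd_mul_right _ _⟩
  · subst hd hσ
    have hf0 : 0 < f := Nat.pos_of_ne_zero fun h => by rw [h, zero_mul] at hft; omega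
    refine ⟨by rw [hee]; push_cast; ring, by positivity, a * (p - b), ?_⟩
    rw [hee, D.N_eq]; ring
  · subst hd hσ
    have hf0 : 0 < f := Nat.pos_of_ne_zero fun h => by rw [h, zero_mul] at hft; omega
    have hlt : b < p := by
      refine lt_of_le_of_ne hbp fun hb => ?_
      have h1 : a * b + 1 = b := by rw [D.hab, hb]
      have : 2 * b ≤ a * b := Nat.mul_le_mul_right _ ha2
      omega
    refine ⟨by rw [hee]; push_cast [hbp]; ring, Nat.mul_pos hf0 (by omega), b * (p + a), ?_⟩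
    rw [hee, D.N_eq]; ring
  · subst hσ
    have h1 : (t : ℤ) * d₀ = 1 + n * p := by exact_mod_cast hd
    have h2 : (t : ℤ) * e + 1 = p := by exact_mod_cast D.hte
    have h3 : (f : ℤ) * t = n + 1 := by exact_mod_cast hft
    refine ⟨mul_left_cancel₀ (show (t : ℤ) ≠ 0 by omega) ?_, Nat.pos_of_ne_zero fun h => ?_,
      e * t, ?_⟩
    · linear_combination h1 - (p : ℤ) * h3 + h2
    · rw [h, mul_zero] at hd; omega
    · rw [← hd]; ring

/-- The values of the exceptional characters at an element of `P#` add up to `-σ`. -/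
theorem Y_column (D : Data M P n e V t a b f d₀ σ Xa Xn Xb Xc Y) (ht : 2 ≤ t) {x : G}
    (hx : x ∈ (P : Subgroup G)) (hx1 : x ≠ 1) :
    ∑ η ∈ Y, conj ((η : G → ℂ) x) = -(σ : ℂ) := by
  classical
  have := isPrime_of_pmodular D.hM
  have hox : ∃ k : ℕ, orderOf x = p ^ k := IsPGroup.iff_orderOf.1 P.isPGroup' ⟨x, hx⟩ |>.imp
    fun k hk => by rwa [Subgroup.orderOf_mk] at hk
  have hone : IsPPart p (1 : G) 1 := isPPart_self ⟨0, by rw [orderOf_one, pow_zero]⟩ hpf.out
  have h0 := sum_block_eq_zero D.hM isPBlock_principalBlock hone (isPPart_self hox hpf.out)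
    (fun h => hx1 (isConj_one_right.1 h))
  have hv : ∀ χ : IrrCharacter G, ∀ c : ℂ, (∀ y ∈ (P : Subgroup G), y ≠ 1 → ∀ z ∈ V,
      (χ : G → ℂ) (y * z) = c) → (χ : G → ℂ) x = c := fun χ c h => by
    have := h x hx hx1 1 V.one_mem
    rwa [mul_one] at this
  set one : IrrCharacter G := ⟨fun _ => 1, Char.isIrrCharacter_one⟩
  have hset : (principalBlock M G) = ↑({one} ∪ Xa ∪ Xn ∪ Xb ∪ Xc ∪ Y) := by
    ext χ
    rw [D.mem χ]
    simp only [Finset.coe_union, Finset.coe_singleton, Set.mem_union, Set.mem_singleton_iff,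
      Finset.mem_coe, or_assoc]
    exact or_congr_left (Subtype.ext_iff (a1 := χ) (a2 := one)).symm
  obtain ⟨h1a, h1n, h1b, h1c, h1y⟩ : one ∉ Xa ∧ one ∉ Xn ∧ one ∉ Xb ∧ one ∉ Xc ∧ one ∉ Y :=
    D.one_not
  rw [hset, finsum_mem_coe_finset,
    Finset.sum_union (by simp [Finset.disjoint_union_left, h1y, D.disj_aY, D.disj_nY, D.disj_bY,
      D.disj_cY]),
    Finset.sum_union (by simp [Finset.disjoint_union_left, h1c, D.disj_ac, D.disj_nc, D.disj_bc]),
    Finset.sum_union (by simp [Finset.disjoint_union_left, h1b, D.disj_ab, D.disj_nb]),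
    Finset.sum_union (by simp [Finset.disjoint_union_left, h1n, D.disj_an]),
    Finset.sum_union (by simp [h1a]), Finset.sum_singleton,
    Finset.sum_congr rfl (g := fun _ => ((a * (p - b) : ℕ) : ℂ)) (fun χ hχ => by
      rw [D.Xa_deg χ hχ, hv χ 1 (D.Xa_val χ hχ), map_one, mul_one]),
    Finset.sum_congr rfl (s₁ := Xn) (g := fun _ => ((1 + n * p : ℕ) : ℂ)) (fun χ hχ => by
      rw [D.Xn_deg χ hχ, hv χ 1 (D.Xn_val χ hχ), map_one, mul_one]),
    Finset.sum_congr rfl (s₁ := Xb) (g := fun _ => -((p - 1 : ℕ) : ℂ)) (fun χ hχ => by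
      rw [D.Xb_deg χ hχ, hv χ (-1) (D.Xb_val χ hχ), map_neg, map_one, mul_neg_one]),
    Finset.sum_congr rfl (s₁ := Xc) (g := fun _ => -((b * (p + a) : ℕ) : ℂ)) (fun χ hχ => by
      rw [D.Xc_deg χ hχ, hv χ (-1) (D.Xc_val χ hχ), map_neg, map_one, mul_neg_one]),
    Finset.sum_congr rfl (s₁ := Y) (g := fun η => (d₀ : ℂ) * conj ((η : G → ℂ) x))
      (fun χ hχ => by rw [D.Y_deg χ hχ]),
    ← Finset.mul_sum] at h0
  rw [show (one : G → ℂ) x = 1 from rfl, map_one] at h0
  simp only [Finset.sum_const, nsmul_eq_mul, one_mul] at h0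
  have hdeg : ((1 : ℤ) + Xa.card * ((a * (p - b) : ℕ) : ℤ) + Xn.card * ((1 + n * p : ℕ) : ℤ) -
      Xb.card * ((p - 1 : ℕ) : ℤ) - Xc.card * ((b * (p + a) : ℕ) : ℤ) : ℂ) = (σ * (d₀ : ℤ) : ℂ) := by
    exact_mod_cast congrArg (fun z : ℤ => (z : ℂ)) D.deg_eq
  have hd0 : (d₀ : ℂ) ≠ 0 := Nat.cast_ne_zero.2 (D.d₀_eq ht).2.1.ne'
  refine mul_left_cancel₀ hd0 ?_
  push_cast at hdeg h0 ⊢
  linear_combination h0 - hdeg

/-- No exceptional character has all its values on `P#` in an `r`-ideal. -/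
theorem Y_not_all_mem (D : Data M P n e V t a b f d₀ σ Xa Xn Xb Xc Y) (ht : 2 ≤ t) {r : ℕ}
    {Mr : Ideal AlgInt} (hMr : IsPModular r Mr) {η : IrrCharacter G} (hη : η ∈ Y) :
    ¬ ∀ y ∈ (P : Subgroup G), y ≠ 1 → MemLocalIdeal Mr ((η : G → ℂ) y) := by
  classical
  intro hall
  have := isPrime_of_pmodular hMr
  have := Fintype.ofFinite G
  set S := Finset.univ.filter (fun y : G => y ∈ (P : Subgroup G) ∧ y ≠ 1) with hS
  set Nf := Finset.univ.filter (fun y : G =>
    y ∈ Subgroup.normalizer ((P : Subgroup G) : Set G)) with hNf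
  have hNcard : Nf.card = p * e * Nat.card V := by
    rw [← D.hyp.card_N, Nat.card_eq_fintype_card, Fintype.card_subtype]
  -- the total
  have htot : ∑ y ∈ S, (η : G → ℂ) y = -((σ : ℂ) * (e : ℂ)) := by
    have h := D.Y_sum η hη
    rw [finsum_eq_sum_of_fintype, ← Finset.sum_subtype (Finset.univ.filter
      (fun y : G => y ∈ (P : Subgroup G))) (fun y => by simp) (fun y => (η : G → ℂ) y),
      ← Finset.add_sum_erase _ _ (show (1 : G) ∈ Finset.univ.filter
        (fun y : G => y ∈ (P : Subgroup G)) by simp), D.Y_deg η hη,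
      show (Finset.univ.filter (fun y : G => y ∈ (P : Subgroup G))).erase 1 = S by
        ext y; simp [hS, and_comm]] at h
    have hd : ((d₀ : ℤ) : ℂ) = ((p * f + σ * e : ℤ) : ℂ) := by rw [(D.d₀_eq ht).1]
    push_cast at hd h
    linear_combination h - hd
  -- the fibres of the conjugacy classes
  have hfib : ∀ y ∈ S, (S.filter fun w => ConjClasses.mk w = ConjClasses.mk y).card = e := by
    intro y hy
    obtain ⟨hyP, hy1⟩ := (Finset.mem_filter.1 hy).2
    set F := S.filter fun w => ConjClasses.mk w = ConjClasses.mk y with hF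
    have hmaps : ∀ c ∈ Nf, c * y * c⁻¹ ∈ F := fun c hc => by
      rw [hF, Finset.mem_filter, hS, Finset.mem_filter]
      exact ⟨⟨Finset.mem_univ _,
        (Subgroup.mem_normalizer_iff.1 (Finset.mem_filter.1 hc).2 y).1 hyP,
        fun h => hy1 (by simpa using h)⟩,
        ConjClasses.mk_eq_mk_iff_isConj.2 (isConj_iff.2 ⟨c, rfl⟩).symm⟩
    have hsum := Finset.card_eq_sum_card_fiberwise hmaps
    rw [Finset.sum_congr rfl (g := fun _ => p * Nat.card V) (fun w hw => ?_), Finset.sum_const,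
      smul_eq_mul, hNcard, mul_right_comm, mul_comm F.card] at hsum
    · exact (Nat.eq_of_mul_eq_mul_left (Nat.mul_pos hpf.out.pos Nat.card_pos) hsum).symm
    · rw [hF, Finset.mem_filter] at hw
      obtain ⟨hwS, hwy⟩ := hw
      obtain ⟨c, hc⟩ := isConj_iff.1 (ConjClasses.mk_eq_mk_iff_isConj.1 hwy).symm
      have hwP := (Finset.mem_filter.1 hwS).2
      have hcN : c ∈ Subgroup.normalizer ((P : Subgroup G) : Set G) := by
        have hgen : ∀ v ∈ (P : Subgroup G), v ≠ 1 → Subgroup.zpowers v = (P : Subgroup G) := by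
          intro v hv hv1
          refine Subgroup.eq_of_le_of_card_ge (Subgroup.zpowers_le.2 hv) (le_of_eq ?_)
          rw [D.hyp.hP, Nat.card_zpowers]
          obtain ⟨k, hk⟩ := IsPGroup.iff_orderOf.1 P.isPGroup' ⟨v, hv⟩
          rw [Subgroup.orderOf_mk] at hk
          rcases (Nat.dvd_prime hpf.out).1
            ((Subgroup.orderOf_dvd_natCard _ hv).trans (dvd_of_eq D.hyp.hP)) with h | h
          · exact absurd (orderOf_eq_one_iff.1 h) hv1
          · exact h.symm
        rw [Subgroup.mem_normalizer_iff]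
        intro z
        constructor
        · intro hz
          rw [← hgen y hyP hy1, Subgroup.mem_zpowers_iff] at hz
          obtain ⟨i, rfl⟩ := hz
          rw [← conj_zpow, hc]
          exact zpow_mem hwP.1 i
        · intro hz
          rw [← hgen w hwP.1 hwP.2, Subgroup.mem_zpowers_iff] at hz
          obtain ⟨i, hi⟩ := hz
          rw [← hc, conj_zpow] at hi
          rw [show z = y ^ i from (mul_left_cancel (mul_right_cancel hi)).symm]
          exact zpow_mem hyP i
      rw [← D.hyp.card_C, Nat.card_eq_fintype_card, Fintype.card_subtype]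
      refine Finset.card_nbij' (fun x => c⁻¹ * x) (fun x => c * x) ?_ ?_ ?_ ?_
      · intro x hx
        simp only [Finset.coe_filter, Set.mem_setOf_eq] at hx ⊢
        refine ⟨Finset.mem_univ _, ?_⟩
        rw [← BrauerReynolds.centralizer_mem_eq P D.hyp.hP hyP hy1,
          Subgroup.mem_centralizer_singleton_iff]
        have he : x * y * x⁻¹ = c * y * c⁻¹ := hx.2.trans hc.symm
        calc c⁻¹ * x * y = c⁻¹ * (x * y * x⁻¹) * x := by group
          _ = y * (c⁻¹ * x) := by rw [he]; group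
      · intro x hx
        simp only [Finset.coe_filter, Set.mem_setOf_eq] at hx ⊢
        refine ⟨Finset.mem_filter.2 ⟨Finset.mem_univ _,
          mul_mem hcN (Subgroup.centralizer_le_normalizer _ hx.2)⟩, ?_⟩
        rw [← hc]
        have he : y * x = x * y := Subgroup.mem_centralizer_iff.1 hx.2 y hyP
        calc c * x * y * (c * x)⁻¹ = c * (x * y) * x⁻¹ * c⁻¹ := by group
          _ = c * y * c⁻¹ := by rw [← he]; group
      · intro x _; simp
      · intro x _; simp
  -- so `-σ` lies in the ideal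
  let F : ConjClasses G → ℂ := fun K => (η : G → ℂ) (Quotient.out K)
  have hFval : ∀ y : G, F (ConjClasses.mk y) = (η : G → ℂ) y := fun y => by
    have h : IsConj (Quotient.out (ConjClasses.mk y)) y := by
      rw [← ConjClasses.mk_eq_mk_iff_isConj]
      exact Quotient.out_eq _
    obtain ⟨c, hc⟩ := isConj_iff.1 h
    show (η : G → ℂ) (Quotient.out (ConjClasses.mk y)) = _
    conv_rhs => rw [← hc]
    exact (Char.irr_isClassFunction η.2 _ c).symm
  have hsum2 : ∑ y ∈ S, (η : G → ℂ) y = (e : ℂ) * ∑ K ∈ S.image ConjClasses.mk, F K := by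
    rw [← Finset.sum_fiberwise_of_maps_to (t := S.image ConjClasses.mk)
      (fun y hy => Finset.mem_image_of_mem _ hy), Finset.mul_sum]
    refine Finset.sum_congr rfl fun K hK => ?_
    obtain ⟨y, hy, rfl⟩ := Finset.mem_image.1 hK
    rw [Finset.sum_congr rfl (g := fun _ => F (ConjClasses.mk y)) (fun w hw => by
      rw [← hFval w, (Finset.mem_filter.1 hw).2]), Finset.sum_const, hfib y hy, nsmul_eq_mul]
  have he0 : (e : ℂ) ≠ 0 := Nat.cast_ne_zero.2 (by have := D.hyp.e_two; omega)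
  have hσ : ∑ K ∈ S.image ConjClasses.mk, F K = ((-σ : ℤ) : ℂ) := by
    refine mul_left_cancel₀ he0 ?_
    rw [← hsum2, htot]
    push_cast; ring
  have hmemσ : MemLocalIdeal Mr (((-σ : ℤ)) : ℂ) := by
    rw [← hσ]
    refine memLocalIdeal_sum _ _ fun K hK => ?_
    obtain ⟨y, hy, rfl⟩ := Finset.mem_image.1 hK
    rw [hFval]
    exact hall y (Finset.mem_filter.1 hy).2.1 (Finset.mem_filter.1 hy).2.2
  rw [Separation.memLocalIdeal_int_iff hMr, dvd_neg] at hmemσ
  have hσ1 : σ = 1 ∨ σ = -1 := by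
    rcases D.alt with h | h | h | h | h
    · omega
    · exact Or.inl h.2.2.2
    · exact Or.inl h.2.2.2.2
    · exact Or.inr h.2.2.2.2
    · exact Or.inr h.2.2.2
  have hr := hMr.1.two_le
  rcases hσ1 with rfl | rfl
  · have := Int.le_of_dvd one_pos hmemσ; omega
  · have := Int.le_of_dvd one_pos (dvd_neg.1 hmemσ); omega

/-- Membership in the zero set by an integral cofactor. -/
theorem mem_zero_iff (D : Data M P n e V t a b f d₀ σ Xa Xn Xb Xc Y) {r : ℕ}
    {Mr : Ideal AlgInt} (hMr : IsPModular r Mr) (χ : IrrCharacter G) {d m : ℕ} (δ : ℤ)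
    (hd : (χ : G → ℂ) 1 = (d : ℂ)) (hdm : d * m = e * (1 + n * p)) (hδ : δ = 1 ∨ δ = -1)
    (hval : ∀ y ∈ (P : Subgroup G), y ≠ 1 → ∀ z ∈ V, (χ : G → ℂ) (y * z) = (δ : ℂ)) :
    (∀ y ∈ (P : Subgroup G), y ≠ 1 → MemLocalIdeal Mr (centralChar (χ : G → ℂ) y)) ↔ r ∣ m := by
  have hd0 : (d : ℂ) ≠ 0 := hd ▸ Char.irr_apply_one_ne_zero χ.2
  have key : ∀ y ∈ (P : Subgroup G), y ≠ 1 →
      centralChar (χ : G → ℂ) y = ((δ * m : ℤ) : ℂ) := fun y hy hy1 => by
    have h := hval y hy hy1 1 V.one_mem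
    rw [mul_one] at h
    rw [Separation.centralChar_eq P D.hyp.hP hy hy1, D.hyp.e_eq, D.hyp.hn, hd, h, ← hdm]
    push_cast
    field_simp
  constructor
  · intro h
    obtain ⟨y, hy, hy1⟩ : ∃ y ∈ (P : Subgroup G), y ≠ 1 := by
      refine Subgroup.bot_or_exists_ne_one _ |>.resolve_left fun h' => ?_
      have := D.hyp.hP
      rw [h', Subgroup.card_bot] at this
      exact hpf.out.ne_one this.symm
    have h1 := h y hy hy1
    rw [key y hy hy1, Separation.memLocalIdeal_int_iff hMr] at h1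
    rcases hδ with rfl | rfl
    · rwa [one_mul, Int.natCast_dvd_natCast] at h1
    · rwa [neg_one_mul, dvd_neg, Int.natCast_dvd_natCast] at h1
  · intro h y hy hy1
    rw [key y hy hy1, Separation.memLocalIdeal_int_iff hMr]
    exact dvd_mul_of_dvd_right (Int.natCast_dvd_natCast.2 h) _

/-- **Separation** at a prime divisor `r` of `e`, in one formula for all values of `t`. -/
theorem separation_sum (D : Data M P n e V t a b f d₀ σ Xa Xn Xb Xc Y) {g : G}
    (hg : g ∈ Subgroup.normalizer ((P : Subgroup G) : Set G))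
    (hgen : ∀ k : ℕ, g ^ k ∈ Subgroup.centralizer ((P : Subgroup G) : Set G) ↔ e ∣ k) {r : ℕ}
    (hr : r.Prime) (hre : r ∣ e) {x : G} (hx : x ∈ (P : Subgroup G)) (hx1 : x ≠ 1) :
    1 + (if r ∣ e * (p + a) / a then ∑ χ ∈ Xa, (χ : G → ℂ) g else 0) +
      ∑ χ ∈ Xn, (χ : G → ℂ) g -
      (if r ∣ e * (p - b) / b then ∑ χ ∈ Xc, (χ : G → ℂ) g else 0) +
      (if r ∣ e * (1 + n * p) / d₀ then
        ∑ η ∈ Y, (η : G → ℂ) g * conj ((η : G → ℂ) x) else 0) = 0 := by
  classical
  obtain ⟨Mr, hMr⟩ := BlockB.exists_isPModular hr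
  obtain ⟨hgC, -⟩ := D.regular_of_gen hg hgen
  have hlt : Nat.card (Sylow p G) < p ^ 2 := by
    rw [D.hyp.hn, pow_two]
    have := Nat.mul_le_mul_right p (show n + 1 ≤ p from D.hyp.n_lt)
    rw [add_mul, one_mul] at this
    have := hpf.out.two_le
    omega
  have h0 := Separation.separation_zeroSet D.hM P D.hyp.hP hlt hx hx1 hMr hg
    fun m hm => hre.trans ((hgen m).1 hm)
  set Z : Set (IrrCharacter G) := {χ : IrrCharacter G | ∀ y ∈ (P : Subgroup G), y ≠ 1 →
    MemLocalIdeal Mr (centralChar (χ : G → ℂ) y)} with hZ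
  have hv : ∀ χ : IrrCharacter G, ∀ c : ℂ, (∀ y ∈ (P : Subgroup G), y ≠ 1 → ∀ z ∈ V,
      (χ : G → ℂ) (y * z) = c) → (χ : G → ℂ) x = c := fun χ c h => by
    have := h x hx hx1 1 V.one_mem
    rwa [mul_one] at this
  have hbp : b < p := by
    have h1 : 2 * b ≤ a * b := Nat.mul_le_mul_right _ D.a_two
    have := D.hab
    omega
  have ha0 : 0 < a := by have := D.a_two; omega
  have hb0 : 0 < b := by have := D.a_le; omega
  set one : IrrCharacter G := ⟨fun _ => 1, Char.isIrrCharacter_one⟩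
  have hset : principalBlock M G ∩ Z =
      ↑((({one} ∪ Xa ∪ Xn ∪ Xb ∪ Xc ∪ Y : Finset (IrrCharacter G))).filter (· ∈ Z)) := by
    ext χ
    rw [Set.mem_inter_iff, D.mem χ]
    simp only [Finset.coe_filter, Set.mem_setOf_eq, Finset.mem_union, Finset.mem_singleton,
      or_assoc]
    exact and_congr_left' (or_congr_left (Subtype.ext_iff (a1 := χ) (a2 := one)).symm)
  obtain ⟨h1a, h1n, h1b, h1c, h1y⟩ : one ∉ Xa ∧ one ∉ Xn ∧ one ∉ Xb ∧ one ∉ Xc ∧ one ∉ Y :=
    D.one_not
  rw [hset, finsum_mem_coe_finset, Finset.sum_filter,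
    Finset.sum_union (by simp [Finset.disjoint_union_left, h1y, D.disj_aY, D.disj_nY, D.disj_bY,
      D.disj_cY]),
    Finset.sum_union (by simp [Finset.disjoint_union_left, h1c, D.disj_ac, D.disj_nc, D.disj_bc]),
    Finset.sum_union (by simp [Finset.disjoint_union_left, h1b, D.disj_ab, D.disj_nb]),
    Finset.sum_union (by simp [Finset.disjoint_union_left, h1n, D.disj_an]),
    Finset.sum_union (by simp [h1a]), Finset.sum_singleton] at h0
  have hN : 1 + n * p = (p + a) * (p - b) := D.N_eq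
  have hone : one ∈ Z := (D.mem_zero_iff hMr one (d := 1) (m := e * (1 + n * p)) 1
    (by simp [one]) (one_mul _) (Or.inl rfl) (fun _ _ _ _ _ => by simp [one])).2
    (dvd_mul_of_dvd_left hre _)
  rw [if_pos hone] at h0
  have hX : ∀ (X : Finset (IrrCharacter G)) (d m : ℕ) (δ : ℤ), (δ = 1 ∨ δ = -1) →
      (∀ χ ∈ X, (χ : G → ℂ) 1 = (d : ℂ)) →
      (∀ χ ∈ X, ∀ y ∈ (P : Subgroup G), y ≠ 1 → ∀ z ∈ V, (χ : G → ℂ) (y * z) = (δ : ℂ)) →
      (X.Nonempty → d * m = e * (1 + n * p)) →
      ∑ χ ∈ X, (if χ ∈ Z then (χ : G → ℂ) g * conj ((χ : G → ℂ) x) else 0) =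
        (δ : ℂ) * if r ∣ m then ∑ χ ∈ X, (χ : G → ℂ) g else 0 := by
    intro X d m δ hδ hd hval hdm
    have hiff : ∀ χ ∈ X, (χ ∈ Z ↔ r ∣ m) := fun χ hχ =>
      D.mem_zero_iff hMr χ δ (hd χ hχ) (hdm ⟨χ, hχ⟩) hδ (hval χ hχ)
    by_cases h : r ∣ m
    · rw [if_pos h, Finset.mul_sum]
      refine Finset.sum_congr rfl fun χ hχ => ?_
      rw [if_pos ((hiff χ hχ).2 h), hv χ δ (hval χ hχ), map_intCast, mul_comm]
    · rw [if_neg h, mul_zero]
      exact Finset.sum_eq_zero fun χ hχ => if_neg fun hm => h ((hiff χ hχ).1 hm)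
  rw [hX Xa (a * (p - b)) (e * (p + a) / a) 1 (Or.inl rfl) D.Xa_deg
      (by simpa using D.Xa_val) (fun h => by
        obtain ⟨c, hc⟩ := D.a_dvd h
        rw [hc, mul_assoc a c, Nat.mul_div_cancel_left _ ha0, hN]; ring),
    hX Xn (1 + n * p) e 1 (Or.inl rfl) D.Xn_deg (by simpa using D.Xn_val)
      (fun _ => mul_comm _ _),
    if_pos hre,
    hX Xc (b * (p + a)) (e * (p - b) / b) (-1) (Or.inr rfl) D.Xc_deg
      (by simpa using D.Xc_val) (fun h => by
        obtain ⟨c, hc⟩ := D.b_dvd h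
        rw [hc, mul_assoc b c, Nat.mul_div_cancel_left _ hb0, hN]; ring)] at h0
  have eB : ∑ χ ∈ Xb, (if χ ∈ Z then (χ : G → ℂ) g * conj ((χ : G → ℂ) x) else 0) = 0 :=
    Finset.sum_eq_zero fun χ hχ => by rw [D.Xb_apply_eq_zero_sep hχ hg hgC, zero_mul, ite_self]
  have eY : ∑ η ∈ Y, (if η ∈ Z then (η : G → ℂ) g * conj ((η : G → ℂ) x) else 0) =
      if r ∣ e * (1 + n * p) / d₀ then
        ∑ η ∈ Y, (η : G → ℂ) g * conj ((η : G → ℂ) x) else 0 := by
    rcases Y.eq_empty_or_nonempty with h | h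
    · simp [h]
    have ht : 2 ≤ t := by
      by_contra ht
      have := D.t_pos
      exact h.ne_empty (D.Y_empty (by omega))
    obtain ⟨-, hd0, m, hm⟩ := D.d₀_eq ht
    have hdiv : e * (1 + n * p) / d₀ = m := by rw [hm, Nat.mul_div_cancel_left _ hd0]
    rw [hdiv]
    have key : ∀ η ∈ Y, ∀ y ∈ (P : Subgroup G), y ≠ 1 →
        centralChar (η : G → ℂ) y = (m : ℂ) * (η : G → ℂ) y := fun η hη y hy hy1 => by
      rw [Separation.centralChar_eq P D.hyp.hP hy hy1, D.hyp.e_eq, D.hyp.hn, D.Y_deg η hη, hm]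
      have : (d₀ : ℂ) ≠ 0 := Nat.cast_ne_zero.2 hd0.ne'
      push_cast
      field_simp
    have := isPrime_of_pmodular hMr
    by_cases hrm : r ∣ m
    · rw [if_pos hrm]
      refine Finset.sum_congr rfl fun η hη => if_pos fun y hy hy1 => ?_
      rw [key η hη y hy hy1]
      exact memLocalIdeal_mul_right (memLocalRing_irr_apply η y)
        ((memLocalIdeal_natCast_iff hMr m).2 hrm)
    · rw [if_neg hrm]
      refine Finset.sum_eq_zero fun η hη => if_neg fun hm' => ?_
      refine D.Y_not_all_mem ht hMr hη fun y hy hy1 => ?_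
      obtain ⟨u, v, huv⟩ := Int.isCoprime_iff_gcd_eq_one.2
        (show Int.gcd (r : ℤ) m = 1 by
          rw [Int.gcd_natCast_natCast]; exact hr.coprime_iff_not_dvd.2 hrm)
      have h1 := hm' y hy hy1
      rw [key η hη y hy hy1] at h1
      have h2 : (η : G → ℂ) y =
          ((v : ℤ) : ℂ) * ((m : ℂ) * (η : G → ℂ) y) + (((u * r : ℤ)) : ℂ) * (η : G → ℂ) y := by
        have : ((u : ℤ) : ℂ) * (r : ℂ) + ((v : ℤ) : ℂ) * (m : ℂ) = 1 := by exact_mod_cast huv
        push_cast
        linear_combination -((η : G → ℂ) y) * this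
      rw [h2]
      exact memLocalIdeal_add (memLocalIdeal_mul_left (memLocalRing_intCast v) h1)
        (memLocalIdeal_mul_right (memLocalRing_irr_apply η y)
          ((Separation.memLocalIdeal_int_iff hMr _).2 (dvd_mul_left _ _)))
  rw [eB, eY] at h0
  simp only [one, map_one, mul_one, Int.cast_one, Int.cast_neg, one_mul, add_zero, neg_mul] at h0
  linear_combination h0

/-- **L4, the separated relation.** -/
theorem separation (D : Data M P n e V t a b f d₀ σ Xa Xn Xb Xc Y) {g : G}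
    (hg : g ∈ Subgroup.normalizer ((P : Subgroup G) : Set G))
    (hgen : ∀ k : ℕ, g ^ k ∈ Subgroup.centralizer ((P : Subgroup G) : Set G) ↔ e ∣ k) {r : ℕ}
    (hr : r.Prime) (hre : r ∣ e) {η : IrrCharacter G} (hη : η ∈ Y) :
    1 + (if r ∣ e * (p + a) / a then ∑ χ ∈ Xa, (χ : G → ℂ) g else 0) +
      ∑ χ ∈ Xn, (χ : G → ℂ) g -
      (if r ∣ e * (p - b) / b then ∑ χ ∈ Xc, (χ : G → ℂ) g else 0) -
      (if r ∣ e * (1 + n * p) / d₀ then (σ : ℂ) * (η : G → ℂ) g else 0) = 0 := by
  classical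
  have ht : 2 ≤ t := by
    by_contra ht
    have := D.t_pos
    rw [D.Y_empty (by omega)] at hη
    simp at hη
  obtain ⟨x, hx, hx1⟩ : ∃ x ∈ (P : Subgroup G), x ≠ 1 := by
    refine Subgroup.bot_or_exists_ne_one _ |>.resolve_left fun h' => ?_
    have := D.hyp.hP
    rw [h', Subgroup.card_bot] at this
    exact hpf.out.ne_one this.symm
  have hY : ∑ ξ ∈ Y, (ξ : G → ℂ) g * conj ((ξ : G → ℂ) x) = -((σ : ℂ) * (η : G → ℂ) g) := by
    rw [Finset.sum_congr rfl (g := fun ξ : IrrCharacter G => (η : G → ℂ) g * conj ((ξ : G → ℂ) x))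
      (fun (ξ : IrrCharacter G) hξ => by rw [D.regular ξ hξ η hη g (D.regular_of_gen hg hgen).2]),
      ← Finset.mul_sum, D.Y_column ht hx hx1]
    ring
  have h := D.separation_sum hg hgen hr hre hx hx1
  rw [hY] at h
  split_ifs at h ⊢ <;> linear_combination h

/-- **L4 for `t = 1`.** -/
theorem separation_one (D : Data M P n e V t a b f d₀ σ Xa Xn Xb Xc Y) {g : G}
    (hg : g ∈ Subgroup.normalizer ((P : Subgroup G) : Set G))
    (hgen : ∀ k : ℕ, g ^ k ∈ Subgroup.centralizer ((P : Subgroup G) : Set G) ↔ e ∣ k) {r : ℕ}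
    (hr : r.Prime) (hre : r ∣ e) (ht : t = 1) :
    1 + (if r ∣ e * (p + a) / a then ∑ χ ∈ Xa, (χ : G → ℂ) g else 0) +
      ∑ χ ∈ Xn, (χ : G → ℂ) g -
      (if r ∣ e * (p - b) / b then ∑ χ ∈ Xc, (χ : G → ℂ) g else 0) = 0 := by
  classical
  obtain ⟨x, hx, hx1⟩ : ∃ x ∈ (P : Subgroup G), x ≠ 1 := by
    refine Subgroup.bot_or_exists_ne_one _ |>.resolve_left fun h' => ?_
    have := D.hyp.hP
    rw [h', Subgroup.card_bot] at this
    exact hpf.out.ne_one this.symm
  have h := D.separation_sum hg hgen hr hre hx hx1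
  rw [D.Y_empty ht, Finset.sum_empty, ite_self, add_zero] at h
  exact h

end CfsgLib.Block.NP.Data
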