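import Cfsg.Agent.Lib.Block.NP.KillGen
import Cfsg.Agent.Lib.Block.NP.Integral
import Cfsg.Agent.Lib.Block.NP.Separation

/-!
No principal block with `t = 1`, and none with an exceptional fixed dimension `f ≥ 2` of the types
`b / t`, `a / t`.
-/

set_option autoImplicit false
set_option linter.unusedSectionVars false

namespace CfsgLib.Block.NP

open Cfsg CfsgLib CfsgLib.Block

universe u

variable {G : Type u} [Group G] [Finite G] {p : ℕ} [hpf : Fact p.Prime]

namespace Data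

variable {M : Ideal AlgInt} {P : Sylow p G} {n e : ℕ} {V : Subgroup G}
  {t a b f d₀ : ℕ} {σ : ℤ} {Xa Xn Xb Xc Y : Finset (IrrCharacter G)}

theorem exists_genInfo (D : Data M P n e V t a b f d₀ σ Xa Xn Xb Xc Y) :
    ∃ g : G, ¬ p ∣ orderOf g ∧ GenInfo (p := p) t a b d₀ n e σ Xa Xn Xb Xc Y (1 + n * p) g := by
  obtain ⟨g, hg, hgen, hgC, hgp⟩ := D.exists_gen
  exact ⟨g, hgp, D.genInfo hg hgen hgC (D.int_one hg hgen) (fun η hη => D.int_two hg hgen hη)
    (fun η hη r hr hre => D.separation hg hgen hr hre hη)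
    fun ht r hr hre => D.separation_one hg hgen hr hre ht⟩

theorem case_one_false (D : Data M P n e V t a b f d₀ σ Xa Xn Xb Xc Y) (ht : t = 1) : False := by
  obtain ⟨g, hgp, K⟩ := D.exists_genInfo
  exact D.kill_one hgp K ht

theorem case_two_false (D : Data M P n e V t a b f d₀ σ Xa Xn Xb Xc Y) (hf : 2 ≤ f)
    (h2 : f * t = b) (hσ : σ = 1) : False := by
  obtain ⟨g, hgp, K⟩ := D.exists_genInfo
  rcases D.alt with ⟨-, h, -⟩ | ⟨-, h, -⟩ | ⟨ht, -, he, hd, -⟩ | ⟨-, -, -, -, h⟩ | ⟨-, -, -, h⟩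
  · omega
  · omega
  · exact D.kill_two hgp K ht hf h2 he hd hσ
  · omega
  · omega

theorem case_three_false (D : Data M P n e V t a b f d₀ σ Xa Xn Xb Xc Y) (hf : 2 ≤ f)
    (h3 : f * t = a) (hσ : σ = -1) : False := by
  obtain ⟨g, hgp, K⟩ := D.exists_genInfo
  rcases D.alt with ⟨-, h, -⟩ | ⟨-, h, -⟩ | ⟨-, -, -, -, h⟩ | ⟨ht, -, he, hd, -⟩ | ⟨-, h, -⟩
  · omega
  · omega
  · omega
  · exact D.kill_three hgp K (D.Xn_empty_of_Xb ht) ht hf h3 he hd hσ
  · have hn := D.n_eq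
    have hb := D.a_le
    have := D.a_two
    have h4 : 2 * b ≤ a * b := Nat.mul_le_mul_right b D.a_two
    omega

end Data

end CfsgLib.Block.NP
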