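import Cfsg.Agent.Lib.Block.NP.Reduce
import Cfsg.Agent.Lib.Block.NP.CaseSmall
import Cfsg.Agent.Lib.Block.NP.CaseTwo
import Cfsg.Agent.Lib.Block.NP.CaseFour
import Cfsg.Agent.Lib.Block.NP.KillCases

/-!
The classification of simple groups with fewer than `p²` Sylow `p`-subgroups.
-/

set_option autoImplicit false
set_option linter.unusedSectionVars false

namespace CfsgLib.Block.NP

open Cfsg CfsgLib CfsgLib.Block

universe u

/-- Simple groups with fewer than `p²` Sylow `p`-subgroups are on the list. -/
theorem classified : Wrap.Classified.{u} :=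
  classified_of fun {G} _ _ {p} _ {M P n e V t a b f d₀ σ Xa Xn Xb Xc Y} D => by
    have ha := D.a_two
    have hle := D.a_le
    rcases D.alt with ⟨h1, -, -, -⟩ | ⟨ht, hf, hd, hσ⟩ | ⟨ht, h2, he, hd, hσ⟩ |
      ⟨ht, h3, he, hd, hσ⟩ | ⟨ht, h4, hd, hσ⟩
    · exact (D.case_one_false h1).elim
    · exact (D.case_I_false ht hf hd hσ).elim
    · rcases Nat.lt_or_ge f 2 with hf | hf
      · rcases Nat.eq_zero_or_pos f with hf0 | hf0
        · rw [hf0, zero_mul] at h2; omega
        · exact D.case_two_one (by omega) h2 hσ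
      · exact (D.case_two_false hf h2 hσ).elim
    · rcases Nat.lt_or_ge f 2 with hf | hf
      · rcases Nat.eq_zero_or_pos f with hf0 | hf0
        · rw [hf0, zero_mul] at h3; omega
        · exact (D.case_III_false ht (by omega) he hd hσ).elim
      · exact (D.case_three_false hf h3 hσ).elim
    · exact (D.case_four_false h4 hd hσ ht).elim

end CfsgLib.Block.NP
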