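import Cfsg.Agent.Lib.Block.NP.Exists

/-!
The shape of the principal block in Brauer's exceptional case with fewer than `p²` Sylow subgroups,
for an arbitrary centralizer of the Sylow subgroup of prime order.
-/

set_option autoImplicit false
set_option linter.unusedSectionVars false
set_option maxHeartbeats 1000000

namespace CfsgLib.Block.NP

open Cfsg CfsgLib CfsgLib.Block
open scoped ComplexConjugate

universe u

variable {G : Type u} [Group G] [Finite G] {p : ℕ} [hpf : Fact p.Prime]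

/-- The shape of the principal block. -/
theorem exists_data {M : Ideal AlgInt} (hM : IsPModular p M) {P : Sylow p G} {n e₀ : ℕ}
    {V : Subgroup G} (H : Hyp P n e₀ V) (hFm : CfsgLib.Block.BrauerReynolds.Formula n p) :
    ∃ (t a b f d₀ : ℕ) (σ : ℤ) (Xa Xn Xb Xc Y : Finset (IrrCharacter G)),
      Data M P n e₀ V t a b f d₀ σ Xa Xn Xb Xc Y := by
  classical
  have hP := H.hP
  have hn := H.hn
  have hperf := H.perfect
  obtain ⟨a, b, ha2, hab, hp_ab, hn_eq, hN_eq⟩ := Menu.exists_shape H.n_lt hFm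
  have := isPrime_of_pmodular hM
  have := Fintype.ofFinite G
  have hp : p.Prime := hpf.out
  have hp2 := hp.two_le
  set e := (Subgroup.centralizer ((P : Subgroup G) : Set G)).relIndex
    (Subgroup.normalizer ((P : Subgroup G) : Set G)) with he_def
  have he2 : 2 ≤ e := BrauerReynolds.two_le_relIndex hperf P hP
  have hn0 : 0 < n := BrauerReynolds.n_pos hperf P hP hn
  have hN0 : 1 < 1 + n * p := by have := Nat.mul_pos hn0 hp.pos; omega
  obtain ⟨E, r, hEcard, hBcard, hshape, hdeg, hval, hgram, hrel, hPsum⟩ :=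
    PrimeRows.exists_rows_sum p M hM P hP e rfl
  obtain ⟨t, hte⟩ : ∃ t, p - 1 = t * e := by
    obtain ⟨t, ht⟩ := hEcard ▸ Subgroup.card_subgroup_dvd_card E
    rw [Nat.card_eq_fintype_card, ZMod.card_units] at ht
    exact ⟨t, ht.trans (mul_comm _ _)⟩
  have hte' : t * e + 1 = p := by omega
  have ht0 : 0 < t := Nat.pos_of_ne_zero fun h => by rw [h, zero_mul] at hte; omega
  have hep : e < p := by
    have h4 : 1 * e ≤ t * e := Nat.mul_le_mul_right _ ht0
    omega
  let one : IrrCharacter G := ⟨fun _ => 1, Char.isIrrCharacter_one⟩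
  set Bf := (principalBlock M G).toFinite.toFinset with hBf
  have hmemB : ∀ χ, χ ∈ Bf ↔ χ ∈ principalBlock M G := fun χ => Set.Finite.mem_toFinset _
  have hfs : ∀ F : IrrCharacter G → ℂ, ∑ᶠ χ ∈ principalBlock M G, F χ = ∑ χ ∈ Bf, F χ :=
    fun F => finsum_mem_eq_finite_toFinset_sum _ _
  have hBcard' : Bf.card * e = e * e + (p - 1) := by
    rw [← hBcard, Nat.card_eq_card_finite_toFinset]
  have hcu : ∀ (c : ℤ), (∑ _v : (ZMod p)ˣ, c) = ((p - 1 : ℕ) : ℤ) * c := fun c => by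
    rw [Finset.sum_const, Finset.card_univ, ZMod.card_units, nsmul_eq_mul]
  obtain ⟨y₀, hy₀P, hy₀⟩ : ∃ y ∈ (P : Subgroup G), y ≠ 1 := by
    refine Subgroup.bot_or_exists_ne_one _ |>.resolve_left fun h => ?_
    rw [h, Subgroup.card_bot] at hP
    exact hp.ne_one hP.symm
  have hidx : ∀ y ∈ (P : Subgroup G), y ≠ 1 →
      (Subgroup.centralizer ({y} : Set G)).index = e * (1 + n * p) := fun y hy hy1 => by
    rw [BrauerReynolds.centralizer_mem_eq P hP hy hy1, BrauerReynolds.index_centralizer, hn]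
  have hregone : ¬ p ∣ orderOf (1 : G) := by rw [orderOf_one]; exact hp.not_dvd_one
  -- the constant rows
  set isC : IrrCharacter G → Prop := fun χ => ∀ v, r χ v = r χ 1 with hisC
  set CF := Bf.filter isC with hCF
  set YF := Bf.filter (fun χ => ¬ isC χ) with hYF
  set ε : IrrCharacter G → ℤ := fun χ => -r χ 1 with hεdef
  have hCFmem : ∀ χ, χ ∈ CF ↔ χ ∈ principalBlock M G ∧ isC χ := fun χ => by
    rw [hCF, Finset.mem_filter, hmemB]
  have hYFmem : ∀ χ, χ ∈ YF ↔ χ ∈ principalBlock M G ∧ ¬ isC χ := fun χ => by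
    rw [hYF, Finset.mem_filter, hmemB]
  have hεpm : ∀ χ ∈ CF, ε χ = 1 ∨ ε χ = -1 := fun χ hχ => by
    obtain ⟨hB, hC⟩ := (hCFmem χ).1 hχ
    obtain ⟨c, hc, hsh⟩ := hshape χ hB
    have h1 : r χ 1 = c := by
      rcases hsh with h | ⟨w, hw⟩
      · exact h 1
      · rw [← hC w]; exact (hw w).1 (by rw [inv_mul_cancel]; exact E.one_mem)
    simp only [hεdef, h1]
    rcases hc with rfl | rfl <;> simp
  have hCval : ∀ χ ∈ CF, ∀ y ∈ (P : Subgroup G), y ≠ 1 →
      ∀ z ∈ Subgroup.centralizer ((P : Subgroup G) : Set G), ¬ p ∣ orderOf z →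
        (χ : G → ℂ) (y * z) = (ε χ : ℂ) := fun χ hχ y hy hy1 z hz hzr => by
    obtain ⟨hB, hC⟩ := (hCFmem χ).1 hχ
    rw [hval χ hB (r χ 1) hC y hy hy1 z hz hzr]
    simp [hεdef]
  have hCval1 : ∀ χ ∈ CF, ∀ y ∈ (P : Subgroup G), y ≠ 1 → (χ : G → ℂ) y = (ε χ : ℂ) :=
    fun χ hχ y hy hy1 => by
      have h := hCval χ hχ y hy hy1 1 (Subgroup.one_mem _) hregone
      rwa [mul_one] at h
  have hCdvd : ∀ χ ∈ CF, charDegree (χ : G → ℂ) ∣ e * (1 + n * p) := fun χ hχ => by
    rw [← hidx y₀ hy₀P hy₀]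
    exact BrauerReynolds.dvd_of_omega_sum {χ} id y₀ (BlockB.irr_degree_pos χ)
      (fun i hi => by rw [Finset.mem_singleton.1 hi]; exact (BlockB.irr_degree_cast χ).symm)
      (hεpm χ hχ) (by rw [Finset.sum_singleton]; exact hCval1 χ hχ y₀ hy₀P hy₀)
  have hCmod : ∀ χ ∈ CF, (p : ℤ) ∣ ε χ - (charDegree (χ : G → ℂ) : ℤ) := fun χ hχ => by
    obtain ⟨hB, hC⟩ := (hCFmem χ).1 hχ
    have h : (p : ℤ) ∣ (∑ v, r χ v) - (charDegree (χ : G → ℂ) : ℤ) :=
      Int.modEq_iff_dvd.1 (hdeg χ hB)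
    rw [Finset.sum_congr rfl fun v _ => hC v, hcu] at h
    have e1 : ε χ - (charDegree (χ : G → ℂ) : ℤ) = ((((p - 1 : ℕ) : ℤ) * r χ 1) -
        (charDegree (χ : G → ℂ) : ℤ)) - (p : ℤ) * r χ 1 := by
      simp only [hεdef]; rw [Nat.cast_sub hp.one_le]; push_cast; ring
    rw [e1]
    exact dvd_sub h (dvd_mul_right _ _)
  have hall : e = p - 1 → ∀ χ ∈ principalBlock M G, isC χ := fun he χ hB => by
    have hEtop : E = ⊤ := Subgroup.eq_top_of_card_eq _ (by
      rw [hEcard, Nat.card_eq_fintype_card, ZMod.card_units, he])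
    obtain ⟨c, -, h | ⟨w, hw⟩⟩ := hshape χ hB
    · intro v; rw [h v, h 1]
    · intro v
      rw [(hw v).1 (hEtop ▸ Subgroup.mem_top _), (hw 1).1 (hEtop ▸ Subgroup.mem_top _)]
  have honeB : one ∈ principalBlock M G := one_mem_principalBlock
  have honeC : one ∈ CF := by
    rw [hCFmem]
    refine ⟨honeB, ?_⟩
    obtain ⟨c, hc, h | ⟨w, hw⟩⟩ := hshape one honeB
    · intro v; rw [h v, h 1]
    refine hall ?_ one honeB
    have hs : ∑ v, r one v = (e : ℤ) * c := by
      rw [Finset.sum_congr rfl fun v _ => show r one v = if w⁻¹ * v ∈ E then c else 0 by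
          split_ifs with h; exacts [(hw v).1 h, (hw v).2 h],
        Fintype.sum_equiv (Equiv.mulLeft w⁻¹) (fun v => if w⁻¹ * v ∈ E then c else 0)
          (fun v => if v ∈ E then c else 0) fun v => rfl,
        ← Finset.sum_filter, Finset.sum_const, nsmul_eq_mul,
        show (Finset.univ.filter fun v : (ZMod p)ˣ => v ∈ E).card = e by
          rw [← hEcard, Nat.card_eq_fintype_card, Fintype.card_subtype]]
    have h := hPsum one honeB
    rw [hs] at h
    simp only [one, finsum_eq_sum_of_fintype, Finset.sum_const, Finset.card_univ, nsmul_eq_mul,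
      mul_one, Int.cast_mul, Int.cast_natCast] at h
    rw [← Nat.card_eq_fintype_card, hP] at h
    have h' : (p : ℤ) = 1 - (e : ℤ) * c := by exact_mod_cast h
    rcases hc with rfl | rfl <;> omega
  have hε1 : ε one = 1 := by
    have h := hCval1 one honeC y₀ hy₀P hy₀
    simp only [one] at h
    exact_mod_cast h.symm
  have hcenC : Cfsg.HasNormalPComplement p
      (Subgroup.centralizer ((P : Subgroup G) : Set G)) := hasNormalPComplement_centralizer P hP
  have hbp : b < p := by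
    have : 2 * b ≤ a * b := Nat.mul_le_mul_right _ ha2
    omega
  obtain rfl : e₀ = e := H.e_eq.symm
  -- degrees of the constant rows
  have hCdeg : ∀ χ ∈ CF, χ ≠ one →
      (ε χ = 1 ∧ (charDegree (χ : G → ℂ) = 1 + n * p ∨
        (charDegree (χ : G → ℂ) = a * (p - b) ∧ a ∣ e))) ∨
      (ε χ = -1 ∧ (charDegree (χ : G → ℂ) = p - 1 ∨
        (charDegree (χ : G → ℂ) = b * (p + a) ∧ b ∣ e) ∨
        (t = 1 ∧ charDegree (χ : G → ℂ) = e * (1 + n * p)))) := fun χ hχ hne => by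
    set d := charDegree (χ : G → ℂ)
    have hd0 : 0 < d := BlockB.irr_degree_pos χ
    obtain ⟨k, hk⟩ := hCdvd χ hχ
    have hm := hCmod χ hχ
    rcases hεpm χ hχ with hε | hε <;> rw [hε] at hm
    · left
      refine ⟨hε, ?_⟩
      obtain ⟨u, hu⟩ : ∃ u, d = u * p + 1 := by
        have h : (p : ℤ) ∣ ((d - 1 : ℕ) : ℤ) := by
          rw [Nat.cast_sub hd0]; exact dvd_sub_comm.1 hm
        obtain ⟨u, hu⟩ := Int.natCast_dvd_natCast.1 h
        exact ⟨u, by rw [mul_comm u p]; omega⟩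
      rcases Menu.pos_menu hp (by omega) ⟨t, by rw [hte, mul_comm]⟩ H.n_lt hp_ab hn_eq hu hk.symm
        with h | h | h
      · exfalso
        refine hne (Subtype.ext (BrauerReynolds.eq_one_of_degree_one hperf χ ?_))
        rw [← BlockB.irr_degree_cast χ, show charDegree (χ : G → ℂ) = d from rfl, h, Nat.cast_one]
      · exact Or.inl h
      · exact Or.inr ⟨h, Menu.a_dvd (k := k) hp_ab hbp hN_eq (by rw [← h]; exact hk.symm)⟩
    · right
      refine ⟨hε, ?_⟩
      have hpd : p ∣ d + 1 := by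
        refine Int.natCast_dvd_natCast.1 ?_
        have h := hm.neg_right
        push_cast
        simpa [neg_sub, add_comm] using h
      rcases Menu.neg_menu hp (by omega) hte' H.n_lt hp_ab hn_eq hbp hN_eq hpd hk.symm with h | h | h
      · left
        have := Nat.le_of_dvd (by omega) hpd
        omega
      · right; right
        obtain ⟨hk1, ht1⟩ : k = 1 ∧ t = 1 := mul_eq_one.1 h
        rw [hk1, mul_one] at hk
        exact ⟨ht1, hk.symm⟩
      · exact Or.inr (Or.inl ⟨h, Menu.b_dvd (k := k) hp_ab hbp hN_eq (by rw [← h]; exact hk.symm)⟩)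
  -- splitting the constant rows
  set Xp₀ := (CF.erase one).filter (fun χ => ε χ = 1) with hXp₀
  set Xm₀ := (CF.erase one).filter (fun χ => ε χ = -1) with hXm₀
  have hXmem : ∀ χ, χ ∈ CF ↔ χ = one ∨ χ ∈ Xp₀ ∨ χ ∈ Xm₀ := fun χ => by
    simp only [hXp₀, hXm₀, Finset.mem_filter, Finset.mem_erase]
    constructor
    · intro h
      by_cases h1 : χ = one
      · exact Or.inl h1
      rcases hεpm χ h with hε | hε
      · exact Or.inr (Or.inl ⟨⟨h1, h⟩, hε⟩)
      · exact Or.inr (Or.inr ⟨⟨h1, h⟩, hε⟩)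
    · rintro (rfl | h | h)
      exacts [honeC, h.1.2, h.1.2]
  have hXdisj : Disjoint Xp₀ Xm₀ := Finset.disjoint_left.2 fun χ h1 h2 => by
    have := (Finset.mem_filter.1 h1).2.symm.trans (Finset.mem_filter.1 h2).2
    norm_num at this
  have honeX : one ∉ Xp₀ ∧ one ∉ Xm₀ := ⟨fun h => (Finset.mem_erase.1 (Finset.mem_filter.1 h).1).1 rfl,
    fun h => (Finset.mem_erase.1 (Finset.mem_filter.1 h).1).1 rfl⟩
  have hXcard : CF.card = 1 + Xp₀.card + Xm₀.card := by
    rw [show CF = insert one (Xp₀ ∪ Xm₀) by ext χ; simp [hXmem χ],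
      Finset.card_insert_of_notMem (by simp [honeX.1, honeX.2]),
      Finset.card_union_of_disjoint hXdisj]
    ring
  set R : G → ℂ := fun g => ∑ χ ∈ CF, (ε χ : ℂ) * (χ : G → ℂ) g with hR
  have hRsplit : ∀ g, R g = 1 + ∑ χ ∈ Xp₀, (χ : G → ℂ) g - ∑ χ ∈ Xm₀, (χ : G → ℂ) g := fun g => by
    simp only [hR]
    rw [show CF = insert one (Xp₀ ∪ Xm₀) by ext χ; simp [hXmem χ],
      Finset.sum_insert (by simp [honeX.1, honeX.2]), Finset.sum_union hXdisj,
      Finset.sum_congr rfl (g := fun χ : IrrCharacter G => (χ : G → ℂ) g) fun χ h => by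
        rw [(Finset.mem_filter.1 h).2, Int.cast_one, one_mul],
      Finset.sum_congr (s₁ := Xm₀) rfl (g := fun χ : IrrCharacter G => -(χ : G → ℂ) g) fun χ h => by
        rw [(Finset.mem_filter.1 h).2, Int.cast_neg, Int.cast_one, neg_one_mul],
      Finset.sum_neg_distrib, hε1, Int.cast_one, one_mul]
    ring
  have hXp_val : ∀ χ ∈ Xp₀, ∀ y ∈ (P : Subgroup G), y ≠ 1 →
      ∀ z ∈ Subgroup.centralizer ((P : Subgroup G) : Set G), ¬ p ∣ orderOf z →
        (χ : G → ℂ) (y * z) = 1 := fun χ h y hy hy1 z hz hzr => by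
    obtain ⟨h1, hε⟩ := Finset.mem_filter.1 h
    rw [hCval χ (Finset.mem_erase.1 h1).2 y hy hy1 z hz hzr, hε, Int.cast_one]
  have hXm_val : ∀ χ ∈ Xm₀, ∀ y ∈ (P : Subgroup G), y ≠ 1 →
      ∀ z ∈ Subgroup.centralizer ((P : Subgroup G) : Set G), ¬ p ∣ orderOf z →
        (χ : G → ℂ) (y * z) = -1 := fun χ h y hy hy1 z hz hzr => by
    obtain ⟨h1, hε⟩ := Finset.mem_filter.1 h
    rw [hCval χ (Finset.mem_erase.1 h1).2 y hy hy1 z hz hzr, hε, Int.cast_neg, Int.cast_one]
  have hmem₀ : ∀ χ, χ ∈ principalBlock M G ↔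
      (χ : G → ℂ) = (fun _ => 1) ∨ χ ∈ Xp₀ ∨ χ ∈ Xm₀ ∨ χ ∈ YF := fun χ => by
    constructor
    · intro hB
      by_cases hC : isC χ
      · rcases (hXmem χ).1 ((hCFmem χ).2 ⟨hB, hC⟩) with h | h | h
        exacts [Or.inl (congrArg Subtype.val h), Or.inr (Or.inl h), Or.inr (Or.inr (Or.inl h))]
      · exact Or.inr (Or.inr (Or.inr ((hYFmem χ).2 ⟨hB, hC⟩)))
    · rintro (h | h | h | h)
      · rw [show χ = one from Subtype.ext h]; exact honeB
      · exact ((hCFmem χ).1 ((hXmem χ).2 (Or.inr (Or.inl h)))).1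
      · exact ((hCFmem χ).1 ((hXmem χ).2 (Or.inr (Or.inr h)))).1
      · exact ((hYFmem χ).1 h).1
  have hrelF : ∀ g : G, ¬ p ∣ orderOf g → ∀ v : (ZMod p)ˣ,
      R g = ∑ χ ∈ YF, (r χ v : ℂ) * (χ : G → ℂ) g := fun g hg v => by
    have h := hrel g hg v
    rw [hfs, ← Finset.sum_filter_add_sum_filter_not Bf isC] at h
    have h1 : ∑ χ ∈ CF, (r χ v : ℂ) * (χ : G → ℂ) g = -R g := by
      simp only [hR, ← Finset.sum_neg_distrib]
      refine Finset.sum_congr rfl fun χ hχ => ?_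
      rw [((hCFmem χ).1 hχ).2 v]
      simp [hεdef]
    rw [← hCF, ← hYF, h1] at h
    linear_combination -h
  have hCcard_le : Xp₀.card + Xm₀.card + 1 ≤ Bf.card := by
    have : CF.card ≤ Bf.card := Finset.card_filter_le _ _
    omega
  have hN0' : a * (p - b) < 1 + n * p := by
    rw [hN_eq]
    exact Nat.mul_lt_mul_of_pos_right (by omega) (by omega)
  have hbpa : p - 1 < b * (p + a) := by
    have : 1 * (p + a) ≤ b * (p + a) := Nat.mul_le_mul_right _ (by omega)
    omega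
  -- the four families
  set Xa := Xp₀.filter (fun χ : IrrCharacter G => charDegree (χ : G → ℂ) = a * (p - b)) with hXa
  set Xn := Xp₀.filter (fun χ : IrrCharacter G => ¬ charDegree (χ : G → ℂ) = a * (p - b)) with hXn
  set Xb := Xm₀.filter (fun χ : IrrCharacter G => charDegree (χ : G → ℂ) = p - 1) with hXb
  set Xc := Xm₀.filter (fun χ : IrrCharacter G => ¬ charDegree (χ : G → ℂ) = p - 1) with hXc
  have hXndeg : ∀ χ ∈ Xn, charDegree (χ : G → ℂ) = 1 + n * p := fun χ h => by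
    obtain ⟨h0, hne'⟩ := Finset.mem_filter.1 h
    obtain ⟨h1, hε⟩ := Finset.mem_filter.1 h0
    obtain ⟨hne, hC⟩ := Finset.mem_erase.1 h1
    rcases hCdeg χ hC hne with ⟨-, h' | ⟨h', -⟩⟩ | ⟨h', -⟩
    · exact h'
    · exact absurd h' hne'
    · rw [hε] at h'; norm_num at h'
  have hXcdeg' : ∀ χ ∈ Xc, (charDegree (χ : G → ℂ) = b * (p + a) ∧ b ∣ e) ∨
      (t = 1 ∧ charDegree (χ : G → ℂ) = e * (1 + n * p)) := fun χ h => by
    obtain ⟨h0, hne'⟩ := Finset.mem_filter.1 h
    obtain ⟨h1, hε⟩ := Finset.mem_filter.1 h0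
    obtain ⟨hne, hC⟩ := Finset.mem_erase.1 h1
    rcases hCdeg χ hC hne with ⟨h', -⟩ | ⟨-, h' | h'⟩
    · rw [hε] at h'; norm_num at h'
    · exact absurd h' hne'
    · exact h'
  have hXpdeg_le : ∀ χ ∈ Xp₀, charDegree (χ : G → ℂ) ≤ 1 + n * p := fun χ h => by
    by_cases h' : charDegree (χ : G → ℂ) = a * (p - b)
    · omega
    · exact (hXndeg χ (Finset.mem_filter.2 ⟨h, h'⟩)).le
  have hR1 : R 1 = ((1 + ∑ χ ∈ Xp₀, charDegree (χ : G → ℂ) : ℕ) : ℂ) -
      ((∑ χ ∈ Xm₀, charDegree (χ : G → ℂ) : ℕ) : ℂ) := by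
    rw [hRsplit, Nat.cast_add, Nat.cast_sum, Nat.cast_sum, Nat.cast_one]
    simp only [BlockB.irr_degree_cast]
  have hsplit : ∀ g : G, R g = 1 + ∑ χ ∈ Xa, (χ : G → ℂ) g + ∑ χ ∈ Xn, (χ : G → ℂ) g -
      ∑ χ ∈ Xb, (χ : G → ℂ) g - ∑ χ ∈ Xc, (χ : G → ℂ) g := fun g => by
    rw [hRsplit, ← Finset.sum_filter_add_sum_filter_not Xp₀
        (fun χ : IrrCharacter G => charDegree (χ : G → ℂ) = a * (p - b)),
      ← Finset.sum_filter_add_sum_filter_not Xm₀ (fun χ : IrrCharacter G => charDegree (χ : G → ℂ) = p - 1),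
      ← hXa, ← hXn, ← hXb, ← hXc]
    ring
  have hcard4 : Xp₀.card + Xm₀.card = Xa.card + Xn.card + Xb.card + Xc.card := by
    rw [← Finset.card_filter_add_card_filter_not (s := Xp₀)
        (fun χ : IrrCharacter G => charDegree (χ : G → ℂ) = a * (p - b)),
      ← Finset.card_filter_add_card_filter_not (s := Xm₀)
        (fun χ : IrrCharacter G => charDegree (χ : G → ℂ) = p - 1)]
    simp only [hXa, hXn, hXb, hXc]
    ring
  have hmemV : ∀ z ∈ V, z ∈ Subgroup.centralizer ((P : Subgroup G) : Set G) ∧ ¬ p ∣ orderOf z :=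
    fun z hz => (H.mem_V z).1 hz
  have hdegR : R 1 = ((1 + Xa.card * (a * (p - b)) + Xn.card * (1 + n * p) : ℕ) : ℂ) -
      ((Xb.card * (p - 1) + ∑ χ ∈ Xc, charDegree (χ : G → ℂ) : ℕ) : ℂ) := by
    rw [hR1, ← Finset.sum_filter_add_sum_filter_not Xp₀
        (fun χ : IrrCharacter G => charDegree (χ : G → ℂ) = a * (p - b)),
      ← Finset.sum_filter_add_sum_filter_not Xm₀ (fun χ : IrrCharacter G => charDegree (χ : G → ℂ) = p - 1),
      ← hXa, ← hXn, ← hXb, ← hXc,
      Finset.sum_congr (s₁ := Xa) rfl fun χ h => (Finset.mem_filter.1 h).2,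
      Finset.sum_congr (s₁ := Xb) rfl fun χ h => (Finset.mem_filter.1 h).2,
      Finset.sum_congr (s₁ := Xn) rfl hXndeg]
    simp only [Finset.sum_const, smul_eq_mul]
    push_cast
    ring
  have hdisjY : ∀ χ ∈ YF, χ ∉ CF := fun χ h h' => ((hYFmem χ).1 h).2 ((hCFmem χ).1 h').2
  have hXpCF : ∀ χ ∈ Xp₀, χ ∈ CF := fun χ h => (hXmem χ).2 (Or.inr (Or.inl h))
  have hXmCF : ∀ χ ∈ Xm₀, χ ∈ CF := fun χ h => (hXmem χ).2 (Or.inr (Or.inr h))
  -- all fields except those depending on the exceptional family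
  have assemble : ∀ {f d₀ : ℕ} {σ : ℤ},
      ((t = 1 ∧ f = 0 ∧ d₀ = 0 ∧ σ = 0) ∨ (2 ≤ t ∧ f = 0 ∧ d₀ = e ∧ σ = 1) ∨
        (2 ≤ t ∧ f * t = b ∧ e = a * f ∧ d₀ = f * (p + a) ∧ σ = 1) ∨
        (2 ≤ t ∧ f * t = a ∧ e = b * f ∧ d₀ = f * (p - b) ∧ σ = -1) ∨
        (2 ≤ t ∧ f * t = n + 1 ∧ t * d₀ = 1 + n * p ∧ σ = -1)) →
      (2 ≤ t → Xp₀.card + Xm₀.card + 1 = e) → (t = 1 → Xp₀.card + Xm₀.card = e) →
      (2 ≤ t → YF.card = t) → (t = 1 → YF = ∅) →
      (∀ χ ∈ Xc, charDegree (χ : G → ℂ) = b * (p + a) ∧ b ∣ e) →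
      (∀ χ ∈ YF, charDegree (χ : G → ℂ) = d₀) →
      (∀ χ ∈ YF, ∑ᶠ y : (P : Subgroup G), (χ : G → ℂ) y = ((p * f : ℕ) : ℂ)) →
      (∀ η ∈ YF, ∀ η' ∈ YF, ∀ g : G, ¬ p ∣ orderOf g → (η : G → ℂ) g = (η' : G → ℂ) g) →
      (∀ η ∈ YF, ∀ g : G, ¬ p ∣ orderOf g → R g = (σ : ℂ) * (η : G → ℂ) g) →
      (R 1 = (σ : ℂ) * (d₀ : ℂ)) →
      Data M P n e V t a b f d₀ σ Xa Xn Xb Xc YF := by
    intro f d₀ σ halt hc hc1 hY hY1 hXcd hYd hYs hreg hrl hd1
    exact
      { hM := hM, hyp := H, hte := hte', a_two := ha2, a_le := hab, hab := hp_ab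
        n_eq := hn_eq, N_eq := hN_eq, alt := halt
        count := fun ht => by have := hc ht; omega
        count_one := fun ht => by have := hc1 ht; omega
        card_Y := hY, Y_empty := hY1
        disj_an := Finset.disjoint_filter_filter_not _ _ _
        disj_ab := hXdisj.mono (Finset.filter_subset _ _) (Finset.filter_subset _ _)
        disj_ac := hXdisj.mono (Finset.filter_subset _ _) (Finset.filter_subset _ _)
        disj_aY := Finset.disjoint_left.2 fun χ h h' =>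
          hdisjY χ h' (hXpCF χ (Finset.mem_filter.1 h).1)
        disj_nb := hXdisj.mono (Finset.filter_subset _ _) (Finset.filter_subset _ _)
        disj_nc := hXdisj.mono (Finset.filter_subset _ _) (Finset.filter_subset _ _)
        disj_nY := Finset.disjoint_left.2 fun χ h h' =>
          hdisjY χ h' (hXpCF χ (Finset.mem_filter.1 h).1)
        disj_bc := Finset.disjoint_filter_filter_not _ _ _
        disj_bY := Finset.disjoint_left.2 fun χ h h' =>
          hdisjY χ h' (hXmCF χ (Finset.mem_filter.1 h).1)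
        disj_cY := Finset.disjoint_left.2 fun χ h h' =>
          hdisjY χ h' (hXmCF χ (Finset.mem_filter.1 h).1)
        one_not := ⟨fun h => honeX.1 (Finset.mem_filter.1 h).1,
          fun h => honeX.1 (Finset.mem_filter.1 h).1, fun h => honeX.2 (Finset.mem_filter.1 h).1,
          fun h => honeX.2 (Finset.mem_filter.1 h).1, fun h => hdisjY _ h honeC⟩
        mem := fun χ => by
          rw [hmem₀]
          simp only [hXa, hXn, hXb, hXc, Finset.mem_filter]
          constructor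
          · rintro (h | h | h | h)
            · exact Or.inl h
            · by_cases h' : charDegree (χ : G → ℂ) = a * (p - b)
              · exact Or.inr (Or.inl ⟨h, h'⟩)
              · exact Or.inr (Or.inr (Or.inl ⟨h, h'⟩))
            · by_cases h' : charDegree (χ : G → ℂ) = p - 1
              · exact Or.inr (Or.inr (Or.inr (Or.inl ⟨h, h'⟩)))
              · exact Or.inr (Or.inr (Or.inr (Or.inr (Or.inl ⟨h, h'⟩))))
            · exact Or.inr (Or.inr (Or.inr (Or.inr (Or.inr h))))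
          · rintro (h | h | h | h | h | h)
            exacts [Or.inl h, Or.inr (Or.inl h.1), Or.inr (Or.inl h.1),
              Or.inr (Or.inr (Or.inl h.1)), Or.inr (Or.inr (Or.inl h.1)),
              Or.inr (Or.inr (Or.inr h))]
        Xa_deg := fun χ h => by rw [← BlockB.irr_degree_cast χ, (Finset.mem_filter.1 h).2]
        Xn_deg := fun χ h => by rw [← BlockB.irr_degree_cast χ, hXndeg χ h]
        Xb_deg := fun χ h => by rw [← BlockB.irr_degree_cast χ, (Finset.mem_filter.1 h).2]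
        Xc_deg := fun χ h => by rw [← BlockB.irr_degree_cast χ, (hXcd χ h).1]
        Y_deg := fun χ h => by rw [← BlockB.irr_degree_cast χ, hYd χ h]
        a_dvd := fun ⟨χ, h⟩ => by
          obtain ⟨h0, hd⟩ := Finset.mem_filter.1 h
          obtain ⟨h1, hε⟩ := Finset.mem_filter.1 h0
          obtain ⟨hne, hC⟩ := Finset.mem_erase.1 h1
          rcases hCdeg χ hC hne with ⟨-, h' | ⟨-, h'⟩⟩ | ⟨h', -⟩
          · omega
          · exact h'
          · rw [hε] at h'; norm_num at h'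
        b_dvd := fun ⟨χ, h⟩ => (hXcd χ h).2
        Xa_val := fun χ h y hy hy1 z hz => hXp_val χ (Finset.mem_filter.1 h).1 y hy hy1 z
          (hmemV z hz).1 (hmemV z hz).2
        Xn_val := fun χ h y hy hy1 z hz => hXp_val χ (Finset.mem_filter.1 h).1 y hy hy1 z
          (hmemV z hz).1 (hmemV z hz).2
        Xb_val := fun χ h y hy hy1 z hz => hXm_val χ (Finset.mem_filter.1 h).1 y hy hy1 z
          (hmemV z hz).1 (hmemV z hz).2
        Xc_val := fun χ h y hy hy1 z hz => hXm_val χ (Finset.mem_filter.1 h).1 y hy hy1 z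
          (hmemV z hz).1 (hmemV z hz).2
        Y_val := fun χ h y hy hy1 z hz => by
          obtain ⟨hzC, hzr⟩ := hmemV z hz
          refine (principal_section hM (x := y) ⟨1, ?_⟩ ?_).1 χ ((hYFmem χ).1 h).1 z
            (Subgroup.mem_centralizer_iff.1 hzC y hy) hzr
          · rw [pow_one]
            refine orderOf_eq_prime ?_ hy1
            have h := pow_card_eq_one' (x := (⟨y, hy⟩ : (P : Subgroup G)))
            rw [hP] at h
            exact congrArg Subtype.val h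
          · rw [BrauerReynolds.centralizer_mem_eq P hP hy hy1]
            exact hcenC
        Y_sum := hYs
        regular := hreg
        relation := fun η hη g hg => by rw [← hsplit, hrl η hη g hg]
        relation_one := fun ht g hg => by
          rw [← hsplit, hrelF g hg 1, hY1 ht, Finset.sum_empty]
        deg_eq := by
          have h := hdegR.symm.trans hd1
          rw [Finset.sum_congr (s₁ := Xc) rfl fun χ h => (hXcd χ h).1, Finset.sum_const,
            smul_eq_mul] at h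
          simp only [Nat.cast_add, Nat.cast_mul, Nat.cast_one] at h
          have h' : (((1 : ℤ) + Xa.card * ((a * (p - b) : ℕ) : ℤ) +
              Xn.card * ((1 + n * p : ℕ) : ℤ) - Xb.card * ((p - 1 : ℕ) : ℤ) -
              Xc.card * ((b * (p + a) : ℕ) : ℤ) : ℤ) : ℂ) = ((σ * (d₀ : ℤ) : ℤ) : ℂ) := by
            simp only [Int.cast_add, Int.cast_sub, Int.cast_mul, Int.cast_natCast, Int.cast_one,
              Nat.cast_add, Nat.cast_mul, Nat.cast_one]
            linear_combination h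
          exact_mod_cast h' }
  by_cases ht1 : t = 1
  · -- a single row shape
    have hep1 : e = p - 1 := by rw [hte, ht1, one_mul]
    have hY0 : YF = ∅ := Finset.filter_eq_empty_iff.2 fun χ hχ h => h (hall hep1 χ ((hmemB χ).1 hχ))
    have hBC : Bf.card = CF.card := by
      rw [hCF, Finset.filter_true_of_mem fun χ hχ => hall hep1 χ ((hmemB χ).1 hχ)]
    have hBe : Bf.card = e + 1 := by
      rw [← hep1, show e * e + e = (e + 1) * e by ring] at hBcard'
      exact Nat.eq_of_mul_eq_mul_right (by omega) hBcard'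
    have hR0 : R 1 = 0 := by rw [hrelF 1 hregone 1, hY0, Finset.sum_empty]
    have hR0' : 1 + ∑ χ ∈ Xp₀, charDegree (χ : G → ℂ) = ∑ χ ∈ Xm₀, charDegree (χ : G → ℂ) := by
      rw [hR1, sub_eq_zero] at hR0
      exact_mod_cast hR0
    have hXcd : ∀ χ ∈ Xc, charDegree (χ : G → ℂ) = b * (p + a) ∧ b ∣ e := fun χ h => by
      rcases hXcdeg' χ h with h' | ⟨-, h'⟩
      · exact h'
      exfalso
      have h1 : charDegree (χ : G → ℂ) ≤ ∑ χ ∈ Xm₀, charDegree (χ : G → ℂ) :=
        Finset.single_le_sum (f := fun χ : IrrCharacter G => charDegree (χ : G → ℂ))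
          (fun _ _ => Nat.zero_le _) (Finset.mem_filter.1 h).1
      have h2 : ∑ χ ∈ Xp₀, charDegree (χ : G → ℂ) ≤ Xp₀.card * (1 + n * p) := by
        rw [← smul_eq_mul]; exact Finset.sum_le_card_nsmul _ _ _ hXpdeg_le
      have h3 : 0 < Xm₀.card := Finset.card_pos.2 ⟨χ, (Finset.mem_filter.1 h).1⟩
      have h4 : (Xp₀.card + 1) * (1 + n * p) ≤ e * (1 + n * p) :=
        Nat.mul_le_mul_right _ (by omega)
      rw [Nat.add_mul, one_mul] at h4
      omega
    refine ⟨t, a, b, 0, 0, 0, Xa, Xn, Xb, Xc, YF, assemble (Or.inl ⟨ht1, rfl, rfl, rfl⟩)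
      (fun h => by omega) (fun _ => by omega) (fun h => by omega) (fun _ => hY0) hXcd ?_ ?_ ?_ ?_
      (by rw [hR0]; simp)⟩
    all_goals
      intro χ hχ
      rw [hY0] at hχ
      exact absurd hχ (Finset.notMem_empty χ)
  -- exceptional rows
  have ht2 : 2 ≤ t := by omega
  have hex : ∀ χ ∈ YF, ∃ c : ℤ, ∃ w : (ZMod p)ˣ, (c = 1 ∨ c = -1) ∧
      ∀ v, (w⁻¹ * v ∈ E → r χ v = c) ∧ (w⁻¹ * v ∉ E → r χ v = 0) := fun χ hχ => by
    obtain ⟨hB, hC⟩ := (hYFmem χ).1 hχ
    obtain ⟨c, hc, h | ⟨w, hw⟩⟩ := hshape χ hB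
    · exact absurd (fun v => by rw [h v, h 1]) hC
    · exact ⟨c, w, hc, hw⟩
  have hCr : ∀ χ ∈ CF, ∀ v w, r χ v * r χ w = 1 := fun χ hχ v w => by
    rw [((hCFmem χ).1 hχ).2 v, ((hCFmem χ).1 hχ).2 w]
    have := hεpm χ hχ
    simp only [hεdef] at this
    rcases this with h | h
    · rw [show r χ 1 = -1 by omega]; norm_num
    · rw [show r χ 1 = 1 by omega]; norm_num
  obtain ⟨s₀, hs₀⟩ : ∃ s, s ∉ E := by
    by_contra hall'
    push Not at hall'
    have : E = ⊤ := (Subgroup.eq_top_iff' E).2 hall'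
    rw [this, Subgroup.card_top, Nat.card_eq_fintype_card, ZMod.card_units] at hEcard
    have : 2 * e ≤ t * e := Nat.mul_le_mul_right _ ht2
    omega
  have hCFcard : CF.card = e := by
    have h := hgram 1 s₀
    rw [finsum_mem_eq_finite_toFinset_sum _ (principalBlock M G).toFinite,
      ← Finset.sum_filter_add_sum_filter_not Bf isC, inv_one, one_mul, if_neg hs₀, zero_add,
      ← hCF, ← hYF, Finset.sum_congr rfl fun χ hχ => hCr χ hχ 1 s₀,
      Finset.sum_eq_zero (s := YF) fun χ hχ => ?_, add_zero, Finset.sum_const, nsmul_eq_mul,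
      mul_one] at h
    · exact_mod_cast h
    · obtain ⟨c, w, -, hw⟩ := hex χ hχ
      by_cases h1 : w⁻¹ * 1 ∈ E
      · rw [(hw s₀).2 fun h2 => hs₀ ?_, mul_zero]
        have h3 := E.mul_mem (E.inv_mem h1) h2
        simpa using h3
      · rw [(hw 1).2 h1, zero_mul]
  have hdiag : ∀ v : (ZMod p)ˣ, ∑ χ ∈ YF, r χ v * r χ v = 1 := fun v => by
    have h := hgram v v
    rw [finsum_mem_eq_finite_toFinset_sum _ (principalBlock M G).toFinite,
      ← Finset.sum_filter_add_sum_filter_not Bf isC, inv_mul_cancel, if_pos E.one_mem,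
      ← hCF, ← hYF, Finset.sum_congr rfl fun χ hχ => hCr χ hχ v v, Finset.sum_const,
      nsmul_eq_mul, mul_one, hCFcard] at h
    linarith
  -- `R g = c η(g)`
  have hRη : ∀ χ ∈ YF, ∀ c : ℤ, ∀ w : (ZMod p)ˣ, (c = 1 ∨ c = -1) → r χ w = c →
      ∀ g, ¬ p ∣ orderOf g → R g = (c : ℂ) * (χ : G → ℂ) g := fun χ hχ c w hc hrc g hg => by
    rw [hrelF g hg w, Finset.sum_eq_single_of_mem χ hχ fun ψ hψ hne => ?_, hrc]
    have h := hdiag w
    rw [← Finset.add_sum_erase _ _ hχ, hrc,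
      show c * c = 1 by rcases hc with rfl | rfl <;> norm_num, add_eq_left] at h
    have h1 := (Finset.sum_eq_zero_iff_of_nonneg fun i _ => mul_self_nonneg (r i w)).1 h ψ
      (Finset.mem_erase.2 ⟨hne, hψ⟩)
    rw [mul_self_eq_zero.1 h1, Int.cast_zero, zero_mul]
  have hYcard : YF.card = t := by
    have h : CF.card + YF.card = Bf.card := Finset.card_filter_add_card_filter_not (s := Bf) isC
    rw [← h, hCFcard, hte, Nat.add_mul] at hBcard'
    exact Nat.eq_of_mul_eq_mul_right (by omega) (Nat.add_left_cancel hBcard')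
  obtain ⟨η₀, hη₀⟩ : YF.Nonempty := Finset.card_pos.1 (by omega)
  obtain ⟨σ, w₀, hσ, hw₀⟩ := hex η₀ hη₀
  set d₀ := charDegree (η₀ : G → ℂ) with hd₀
  have hd₀pos : 0 < d₀ := BlockB.irr_degree_pos η₀
  have hrη : ∀ g, ¬ p ∣ orderOf g → R g = (σ : ℂ) * (η₀ : G → ℂ) g :=
    hRη η₀ hη₀ σ w₀ hσ ((hw₀ w₀).1 (by rw [inv_mul_cancel]; exact E.one_mem))
  have hsame : ∀ χ ∈ YF, charDegree (χ : G → ℂ) = d₀ ∧ (∃ w, ∀ v, (w⁻¹ * v ∈ E → r χ v = σ) ∧
      (w⁻¹ * v ∉ E → r χ v = 0)) ∧ ∀ g, ¬ p ∣ orderOf g → R g = (σ : ℂ) * (χ : G → ℂ) g := by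
    intro χ hχ
    obtain ⟨c, w, hc, hw⟩ := hex χ hχ
    have hr := hRη χ hχ c w hc ((hw w).1 (by rw [inv_mul_cancel]; exact E.one_mem))
    have h1 := hr 1 hregone
    rw [hrη 1 hregone, ← BlockB.irr_degree_cast χ, ← BlockB.irr_degree_cast η₀, ← hd₀] at h1
    have h2 : σ * (d₀ : ℤ) = c * (charDegree (χ : G → ℂ) : ℤ) := by exact_mod_cast h1
    have h3 : 0 < charDegree (χ : G → ℂ) := BlockB.irr_degree_pos χ
    obtain rfl : c = σ := by
      rcases hc with rfl | rfl <;> rcases hσ with rfl | rfl <;> first | rfl | omega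
    refine ⟨?_, ⟨w, hw⟩, hr⟩
    rcases hc with rfl | rfl <;> omega
  have hYsumr : ∀ χ ∈ YF, ∑ v, r χ v = (e : ℤ) * σ := fun χ hχ => by
    obtain ⟨-, ⟨w, hw⟩, -⟩ := hsame χ hχ
    rw [Finset.sum_congr rfl fun v _ => show r χ v = if w⁻¹ * v ∈ E then σ else 0 by
        split_ifs with h; exacts [(hw v).1 h, (hw v).2 h],
      Fintype.sum_equiv (Equiv.mulLeft w⁻¹) (fun v => if w⁻¹ * v ∈ E then σ else 0)
        (fun v => if v ∈ E then σ else 0) fun v => rfl,
      ← Finset.sum_filter, Finset.sum_const, nsmul_eq_mul,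
      show (Finset.univ.filter fun v : (ZMod p)ˣ => v ∈ E).card = e by
        rw [← hEcard, Nat.card_eq_fintype_card, Fintype.card_subtype]]
  -- the exceptional degree divides `e N`
  have hcol : ∑ χ ∈ YF, (χ : G → ℂ) y₀ = ((-σ : ℤ) : ℂ) := by
    have h := sum_block_eq_zero_of_regular_singular hM (isPBlock_principalBlock (M := M) (G := G))
      (g := 1) (h := y₀⁻¹) hregone (by
        rw [orderOf_inv, orderOf_eq_prime (p := p) _ hy₀]
        have h := pow_card_eq_one' (x := (⟨y₀, hy₀P⟩ : (P : Subgroup G)))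
        rw [hP] at h
        exact congrArg Subtype.val h)
    rw [hfs, ← Finset.sum_filter_add_sum_filter_not Bf isC, ← hCF, ← hYF] at h
    simp only [fun χ : IrrCharacter G => irr_conj_eq χ.2 y₀⁻¹, inv_inv] at h
    have h1 : ∑ χ ∈ CF, (χ : G → ℂ) 1 * (χ : G → ℂ) y₀ = (σ : ℂ) * (d₀ : ℂ) := by
      rw [hd₀, BlockB.irr_degree_cast η₀, ← hrη 1 hregone, hR]
      exact Finset.sum_congr rfl fun χ hχ => by rw [hCval1 χ hχ y₀ hy₀P hy₀]; ring
    have h2 : ∑ χ ∈ YF, (χ : G → ℂ) 1 * (χ : G → ℂ) y₀ = (d₀ : ℂ) * ∑ χ ∈ YF, (χ : G → ℂ) y₀ := by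
      rw [Finset.mul_sum]
      exact Finset.sum_congr rfl fun χ hχ => by rw [← BlockB.irr_degree_cast χ, (hsame χ hχ).1]
    rw [h1, h2] at h
    refine mul_left_cancel₀ (Nat.cast_ne_zero.2 hd₀pos.ne' : (d₀ : ℂ) ≠ 0) ?_
    push_cast
    linear_combination h
  obtain ⟨k, hk⟩ : d₀ ∣ e * (1 + n * p) := by
    rw [← hidx y₀ hy₀P hy₀]
    exact BrauerReynolds.dvd_of_omega_sum YF id y₀ hd₀pos
      (fun i hi => by rw [id, ← BlockB.irr_degree_cast i, (hsame i hi).1])
      (by rcases hσ with rfl | rfl <;> simp) hcol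
  have hmod : (p : ℤ) ∣ (e : ℤ) * σ - d₀ := by
    rw [← hYsumr η₀ hη₀]; exact Int.modEq_iff_dvd.1 (hdeg η₀ ((hYFmem η₀).1 hη₀).1)
  have hkmod : (p : ℤ) ∣ (k : ℤ) - σ := by
    have h1 : (p : ℤ) ∣ (e : ℤ) * ((k : ℤ) - σ) * σ + (e : ℤ) * (1 - σ * σ) := by
      rw [show σ * σ = 1 by rcases hσ with rfl | rfl <;> norm_num]
      have hk' : (d₀ : ℤ) * k = e * (1 + n * p) := by exact_mod_cast hk.symm
      rw [show (e : ℤ) * ((k : ℤ) - σ) * σ + e * (1 - 1) =
        ((e : ℤ) * σ - d₀) * k + (((d₀ : ℤ) * k) - e * (σ * σ)) by ring,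
        show σ * σ = 1 by rcases hσ with rfl | rfl <;> norm_num, hk',
        show (e : ℤ) * (1 + n * p) - e * 1 = p * (e * n) by ring]
      exact dvd_add (hmod.mul_right _) (dvd_mul_right _ _)
    rw [show σ * σ = 1 by rcases hσ with rfl | rfl <;> norm_num, sub_self, mul_zero, add_zero] at h1
    have hpi : Prime (p : ℤ) := Nat.prime_iff_prime_int.1 hp
    rcases hpi.dvd_mul.1 h1 with h | h
    · rcases hpi.dvd_mul.1 h with h | h
      · have := Nat.le_of_dvd (by omega) (Int.natCast_dvd_natCast.1 h); omega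
      · exact h
    · rcases hσ with rfl | rfl
      · exact absurd (isUnit_of_dvd_one h) hpi.not_unit
      · exact absurd (isUnit_of_dvd_one (dvd_neg.1 h)) hpi.not_unit
  have hXcd : ∀ χ ∈ Xc, charDegree (χ : G → ℂ) = b * (p + a) ∧ b ∣ e := fun χ h => by
    rcases hXcdeg' χ h with h' | ⟨h', -⟩
    · exact h'
    · exact absurd h' ht1
  have hab1 : Xp₀.card + Xm₀.card + 1 = e := by omega
  have hR1' : (((1 + ∑ χ ∈ Xp₀, charDegree (χ : G → ℂ) : ℕ) : ℤ)) -
      ((∑ χ ∈ Xm₀, charDegree (χ : G → ℂ) : ℕ) : ℤ) = σ * d₀ := by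
    have h := hrη 1 hregone
    rw [hR1, ← BlockB.irr_degree_cast η₀, ← hd₀] at h
    exact_mod_cast h
  obtain ⟨f, halt, hfsum⟩ : ∃ f,
      ((t = 1 ∧ f = 0 ∧ d₀ = 0 ∧ σ = 0) ∨ (2 ≤ t ∧ f = 0 ∧ d₀ = e ∧ σ = 1) ∨
        (2 ≤ t ∧ f * t = b ∧ e = a * f ∧ d₀ = f * (p + a) ∧ σ = 1) ∨
        (2 ≤ t ∧ f * t = a ∧ e = b * f ∧ d₀ = f * (p - b) ∧ σ = -1) ∨
        (2 ≤ t ∧ f * t = n + 1 ∧ t * d₀ = 1 + n * p ∧ σ = -1)) ∧
      ((p * f : ℕ) : ℤ) = (d₀ : ℤ) - (e : ℤ) * σ := by
    rcases hσ with rfl | rfl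
    · obtain ⟨u, hu⟩ : ∃ u, k = u * p + 1 := by
        have hk0 : 0 < k := Nat.pos_of_ne_zero fun h => by
          rw [h, mul_zero] at hk
          rcases Nat.mul_eq_zero.1 hk with h | h <;> omega
        have h : (p : ℤ) ∣ ((k - 1 : ℕ) : ℤ) := by rw [Nat.cast_sub hk0]; exact hkmod
        obtain ⟨u, hu⟩ := Int.natCast_dvd_natCast.1 h
        exact ⟨u, by rw [mul_comm u p]; omega⟩
      rcases Menu.pos_menu (e := e) (k := d₀) hp (by omega) ⟨t, by rw [hte, mul_comm]⟩ H.n_lt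
        hp_ab hn_eq hu (by rw [mul_comm, hk]) with h | h | h
      · exfalso
        rw [h, mul_one] at hk
        have h2 : ∑ χ ∈ Xp₀, charDegree (χ : G → ℂ) ≤ Xp₀.card * (1 + n * p) := by
          rw [← smul_eq_mul]; exact Finset.sum_le_card_nsmul _ _ _ hXpdeg_le
        have h4 : (Xp₀.card + 1) * (1 + n * p) ≤ e * (1 + n * p) :=
          Nat.mul_le_mul_right _ (by omega)
        rw [Nat.add_mul, one_mul] at h4
        omega
      · rw [h] at hk
        have hde : d₀ = e := (Nat.eq_of_mul_eq_mul_right (by omega) hk).symm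
        exact ⟨0, Or.inr (Or.inl ⟨ht2, rfl, hde, rfl⟩), by rw [hde]; simp⟩
      · rw [h] at hk
        obtain ⟨f, hf⟩ := Menu.a_dvd hp_ab hbp hN_eq ((mul_comm _ _).trans hk.symm)
        have hd : d₀ = f * (p + a) := by
          refine Nat.eq_of_mul_eq_mul_right (show 0 < a * (p - b) from
            Nat.mul_pos (by omega) (by omega)) ?_
          rw [← hk, hN_eq, hf]; ring
        refine ⟨f, Or.inr (Or.inr (Or.inl ⟨ht2, ?_, hf, hd, rfl⟩)), ?_⟩
        · refine Nat.eq_of_mul_eq_mul_left (show 0 < a by omega) ?_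
          have : t * (a * f) + 1 = a * b + 1 := by rw [← hf, hte', hp_ab]
          linarith
        · rw [hd, hf]; push_cast; ring
    · have hpk : p ∣ k + 1 := by
        refine Int.natCast_dvd_natCast.1 ?_
        push_cast
        simpa using hkmod
      rcases Menu.neg_menu hp (by omega) hte' H.n_lt hp_ab hn_eq hbp hN_eq hpk
        (by rw [mul_comm, hk]) with h | h | h
      · have hkp : k = p - 1 := by
          have := Nat.le_of_dvd (by omega) hpk; omega
        have htd : t * d₀ = 1 + n * p := by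
          refine Nat.eq_of_mul_eq_mul_left (by omega : 0 < e) ?_
          calc e * (t * d₀) = d₀ * (t * e) := by ring
            _ = _ := by rw [← hte, ← hkp, hk]
        have hsum : t * (d₀ + e) = p * (n + 1) := by
          rw [Nat.mul_add, htd, show p * (n + 1) = n * p + p by ring]; omega
        have hcop : Nat.Coprime p t := (hp.coprime_iff_not_dvd).2 fun hd => by
          have := Nat.le_of_dvd ht0 hd
          have : t * 2 ≤ t * e := Nat.mul_le_mul_left _ he2
          omega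
        obtain ⟨f, hf⟩ := hcop.dvd_of_dvd_mul_left ⟨n + 1, hsum⟩
        refine ⟨f, Or.inr (Or.inr (Or.inr (Or.inr ⟨ht2, ?_, htd, rfl⟩))), ?_⟩
        · refine Nat.eq_of_mul_eq_mul_left hp.pos ?_
          rw [← hsum, hf]; ring
        · rw [← hf]; push_cast; ring
      · rw [mul_eq_one] at h; omega
      · rw [h] at hk
        obtain ⟨f, hf⟩ := Menu.b_dvd hp_ab hbp hN_eq ((mul_comm _ _).trans hk.symm)
        have hd : d₀ = f * (p - b) := by
          refine Nat.eq_of_mul_eq_mul_right (show 0 < b * (p + a) from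
            Nat.mul_pos (by omega) (by omega)) ?_
          rw [← hk, hN_eq, hf]; ring
        refine ⟨f, Or.inr (Or.inr (Or.inr (Or.inl ⟨ht2, ?_, hf, hd, rfl⟩))), ?_⟩
        · refine Nat.eq_of_mul_eq_mul_left (show 0 < b by omega) ?_
          have : t * (b * f) + 1 = a * b + 1 := by rw [← hf, hte', hp_ab]
          linarith
        · rw [hd, hf]; push_cast [Nat.cast_sub hbp.le]; ring
  refine ⟨t, a, b, f, d₀, σ, Xa, Xn, Xb, Xc, YF, assemble halt (fun _ => hab1) (fun h => absurd h ht1)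
    (fun _ => hYcard) (fun h => absurd h ht1) hXcd (fun χ h => (hsame χ h).1) (fun χ h => ?_)
    (fun x hx z hz g hg => ?_) (fun x hx g hg => (hsame x hx).2.2 g hg) ?_⟩
  · rw [hPsum χ ((hYFmem χ).1 h).1, hYsumr χ h, ← BlockB.irr_degree_cast χ, (hsame χ h).1]
    have := congrArg (Int.cast (R := ℂ)) hfsum
    push_cast at this ⊢
    linear_combination -this
  · have h := ((hsame x hx).2.2 g hg).symm.trans ((hsame z hz).2.2 g hg)
    exact mul_left_cancel₀ (by rcases hσ with rfl | rfl <;> norm_num) h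
  · rw [hrη 1 hregone, ← BlockB.irr_degree_cast η₀, ← hd₀]

end CfsgLib.Block.NP
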