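import Cfsg.Agent.Lib.Block.BRArith

/-!
Arithmetic of Brauer's exceptional shape with fewer than `p²` Sylow subgroups:
`n = a b + a - b` with `a b + 1 = p`, `a ≤ b`, and the possible degrees in the principal block.
-/

set_option autoImplicit false

namespace CfsgLib.Block.NP.Menu

variable {n p e d k a b : ℕ}

/-- The exceptional shape with `n < p`. -/
theorem shape (hn : n < p) {h U : ℕ} (hh : 0 < h) (hU : 0 < U)
    (hF : n * (U + 1) = h * U * p + U ^ 2 + U + h) :
    ∃ b, U + 1 ≤ b ∧ (U + 1) * b + 1 = p ∧ n + b = (U + 1) * b + (U + 1) := by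
  have h1 : h = 1 := by
    by_contra hne
    have h2 : 2 * U * p ≤ h * U * p :=
      Nat.mul_le_mul_right _ (Nat.mul_le_mul_right _ (by omega))
    nlinarith
  subst h1
  rw [one_mul] at hF
  have hnU : U ≤ n := by nlinarith
  obtain ⟨m, rfl⟩ := Nat.exists_eq_add_of_le hnU
  have hm : m * (U + 1) = U * p + 1 := by nlinarith
  obtain ⟨b, rfl⟩ : ∃ b, p = m + b := ⟨p - m, by omega⟩
  have hb : (U + 1) * b + 1 = m + b := by nlinarith
  refine ⟨b, ?_, hb, by omega⟩
  by_contra hlt
  have : U + b < b + U := by nlinarith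
  omega

/-- The two parameters. -/
theorem exists_shape (hn : n < p) (hF : CfsgLib.Block.BrauerReynolds.Formula n p) :
    ∃ a b, 2 ≤ a ∧ a ≤ b ∧ a * b + 1 = p ∧ n + b = a * b + a ∧
      1 + n * p = (p + a) * (p - b) := by
  obtain ⟨h, U, hh, hU, hF⟩ := hF
  obtain ⟨b, h1, h2, h3⟩ := shape hn hh hU hF
  refine ⟨U + 1, b, by omega, h1, h2, h3, ?_⟩
  have hbp : b ≤ p := by nlinarith
  zify [hbp] at h2 h3 ⊢
  linear_combination (p : ℤ) * h3 + ((p : ℤ) + 1) * h2

/-- The parameters are unique. -/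
theorem unique (hn : n < p) (hab : a * b + 1 = p) (hn_eq : n + b = a * b + a) {h U : ℕ}
    (hh : 0 < h) (hU : 0 < U) (hF : n * (U + 1) = h * U * p + U ^ 2 + U + h) : U + 1 = a := by
  obtain ⟨c, -, h2, h3⟩ := shape hn hh hU hF
  have hp : (U + 1) * c = a * b := by omega
  have hd : c + a = b + (U + 1) := by omega
  rcases lt_trichotomy (U + 1) a with hlt | heq | hgt
  · have hcb : c < b := by omega
    have := Nat.mul_lt_mul_of_lt_of_lt hlt hcb
    omega
  · exact heq
  · have hcb : b < c := by omega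
    have := Nat.mul_lt_mul_of_lt_of_lt hgt hcb
    omega

theorem formula_core (hp : p.Prime) {U : ℕ} (hU : 0 < U) (hUn : U < n)
    (hd : U * p + 1 ∣ (U + 1) * (1 + n * p)) :
    ∃ h, 0 < h ∧ n * (U + 1) = h * U * p + U ^ 2 + U + h := by
  obtain ⟨m, rfl⟩ : ∃ m, n = U + m := ⟨n - U, by omega⟩
  have h1 : U * p + 1 ∣ (U + 1) * (U * p + 1) + p * ((U + 1) * m) := by
    have he : (U + 1) * (U * p + 1) + p * ((U + 1) * m) = (U + 1) * (1 + (U + m) * p) := by ring
    rw [he]; exact hd
  rw [Nat.dvd_add_right (dvd_mul_left _ _)] at h1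
  have hc : Nat.Coprime (U * p + 1) p :=
    (hp.coprime_iff_not_dvd.2 fun h => hp.not_dvd_one
      ((Nat.dvd_add_right (dvd_mul_left p U)).1 h)).symm
  obtain ⟨h, hh⟩ := hc.dvd_of_dvd_mul_left h1
  refine ⟨h, Nat.pos_of_ne_zero ?_, ?_⟩
  · rintro rfl
    rw [mul_zero] at hh
    rcases Nat.mul_eq_zero.1 hh with h | h <;> omega
  · have he : (U + m) * (U + 1) = (U + 1) * m + U ^ 2 + U := by ring
    rw [he, hh]; ring

/-- A divisor congruent to one. -/
theorem pos_menu (hp : p.Prime) (he : 0 < e) (hep : e ∣ p - 1) (hn : n < p)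
    (hab : a * b + 1 = p) (hn_eq : n + b = a * b + a) {u : ℕ} (hd : d = u * p + 1)
    (hdk : d * k = e * (1 + n * p)) :
    d = 1 ∨ d = 1 + n * p ∨ d = a * (p - b) := by
  rcases Nat.eq_zero_or_pos u with rfl | hu
  · left; simp [hd]
  rcases lt_trichotomy u n with hlt | rfl | hgt
  · right; right
    obtain ⟨h, hh, hF⟩ : ∃ h, 0 < h ∧ n * (u + 1) = h * u * p + u ^ 2 + u + h := by
      refine formula_core hp hu hlt ?_
      rw [← hd]
      have h1 : d ∣ Nat.gcd d e * (1 + n * p) := by
        rw [← Nat.gcd_mul_right]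
        exact Nat.dvd_gcd (dvd_mul_right _ _) ⟨k, hdk.symm⟩
      refine h1.trans (Nat.mul_dvd_mul_right ?_ _)
      have h2 : Nat.gcd d e ∣ u * (p - 1) + (u + 1) := by
        have he' : u * (p - 1) + (u + 1) = d := by
          obtain ⟨p', rfl⟩ : ∃ p', p = p' + 1 := ⟨p - 1, by have := hp.one_le; omega⟩
          rw [hd, Nat.add_sub_cancel]; ring
        rw [he']; exact Nat.gcd_dvd_left _ _
      exact (Nat.dvd_add_right (((Nat.gcd_dvd_right d e).trans hep).mul_left u)).1 h2
    have hua := unique hn hab hn_eq hh hu hF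
    rw [hd, Nat.mul_sub, ← hua]
    have : (u + 1) * b + 1 = p := by rw [hua]; exact hab
    rw [Nat.add_mul u 1 p, one_mul]
    omega
  · right; left; rw [hd, add_comm]
  · exfalso
    have hdN : 1 + n * p < d := by rw [hd]; nlinarith [hp.two_le]
    have hk : k < e := by
      by_contra hk
      push Not at hk
      have : e * (1 + n * p) < d * k := by nlinarith
      omega
    have hep' : e < p := by
      have := Nat.le_of_dvd (by have := hp.two_le; omega) hep; omega
    have hmod : k ≡ e [MOD p] := by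
      have h1 : d * k % p = e * (1 + n * p) % p := by rw [hdk]
      rw [hd, Nat.add_mul, Nat.mul_add, one_mul, mul_one,
        show u * p * k = p * (u * k) by ring, show e * (n * p) = p * (e * n) by ring] at h1
      simpa [Nat.ModEq, Nat.add_mod] using h1
    exact absurd (hmod.eq_of_lt_of_lt (by omega) hep') (by omega)

/-- A divisor congruent to minus one. -/
theorem neg_menu (hp : p.Prime) {t : ℕ} (he : 0 < e) (hte : t * e + 1 = p) (hn : n < p)
    (hab : a * b + 1 = p) (hn_eq : n + b = a * b + a) (hb : b < p)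
    (hN : 1 + n * p = (p + a) * (p - b))
    (hd : p ∣ d + 1) (hdk : d * k = e * (1 + n * p)) :
    d ≤ p - 1 ∨ k * t = 1 ∨ d = b * (p + a) := by
  by_contra hc
  push Not at hc
  obtain ⟨hdp, hkt, hdb⟩ := hc
  have hk0 : k ≠ 0 := by
    rintro rfl; simp at hdk; omega
  have ht0 : t ≠ 0 := by
    rintro rfl; have := hp.two_le; omega
  obtain ⟨u, hu⟩ := hd
  have hke : p ∣ k + e := by
    have h1 : (d + 1) * k = k + e + p * (e * n) := by rw [Nat.add_mul, one_mul, hdk]; ring
    have h2 : p ∣ k + e + p * (e * n) := h1 ▸ (Dvd.intro u hu.symm).mul_right k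
    exact (Nat.dvd_add_left (dvd_mul_right _ _)).1 h2
  obtain ⟨s, hs⟩ := hke
  have hkt1 : k * t + (p - 1) = t * s * p := by
    rw [show t * s * p = t * (p * s) by ring, ← hs, show p - 1 = t * e by omega]; ring
  have hkt2 : 1 < k * t := by
    have : 0 < k * t := Nat.mul_pos (Nat.pos_of_ne_zero hk0) (Nat.pos_of_ne_zero ht0)
    omega
  obtain ⟨U, hU⟩ : ∃ U, t * s = U + 1 := ⟨t * s - 1, by
    have : t * s ≠ 0 := by
      intro h0; rw [h0, zero_mul] at hkt1; omega
    omega⟩
  have hUkt : U * p + 1 = k * t := by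
    rw [hU, Nat.add_mul, one_mul] at hkt1
    have := hp.one_le
    omega
  have hlt : k * t < 1 + n * p := by
    by_contra hle
    push Not at hle
    have h1 : d * (1 + n * p) ≤ d * (k * t) := Nat.mul_le_mul le_rfl hle
    have h2 : d * (k * t) = (p - 1) * (1 + n * p) := by
      rw [← mul_assoc, hdk, show p - 1 = t * e by omega]; ring
    rw [h2] at h1
    have h3 : (p - 1) * (1 + n * p) < d * (1 + n * p) := Nat.mul_lt_mul_of_pos_right hdp (by omega)
    omega
  have hU0 : 0 < U := by
    by_contra h0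
    have : U = 0 := by omega
    rw [this, zero_mul] at hUkt; omega
  obtain ⟨h, hh, hF⟩ : ∃ h, 0 < h ∧ n * (U + 1) = h * U * p + U ^ 2 + U + h := by
    refine formula_core (U := U) hp hU0 ?_ ?_
    · by_contra h0
      push Not at h0
      have : n * p ≤ U * p := Nat.mul_le_mul_right _ h0
      omega
    · rw [hUkt, ← hU]
      have hpk : Nat.Coprime k p := (hp.coprime_iff_not_dvd.2 fun h => by
        have h1 : p ∣ e := (Nat.dvd_add_right h).1 ⟨s, hs⟩
        have h2 := Nat.le_of_dvd he h1
        have h4 : 1 * e ≤ t * e := Nat.mul_le_mul_right _ (Nat.pos_of_ne_zero ht0)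
        omega).symm
      have h3 : k ∣ p * (s * (1 + n * p)) := by
        rw [← mul_assoc, ← hs, Nat.add_mul, ← hdk]
        exact dvd_add (dvd_mul_right _ _) (dvd_mul_left _ _)
      rw [mul_comm k t, mul_assoc t s]
      exact Nat.mul_dvd_mul_left t (hpk.dvd_of_dvd_mul_left h3)
  have hua := unique hn hab hn_eq hh hU0 hF
  have hkt3 : k * t = a * (p - b) := by
    rw [← hUkt, Nat.mul_sub, ← hua]
    have : (U + 1) * b + 1 = p := by rw [hua]; exact hab
    rw [Nat.add_mul U 1 p, one_mul]
    omega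
  refine hdb (Nat.eq_of_mul_eq_mul_right (show 0 < a * (p - b) from
    Nat.mul_pos (by omega) (by omega)) ?_)
  rw [← hkt3, ← mul_assoc, hdk, hN, hkt3,
    show b * (p + a) * (a * (p - b)) = a * b * ((p + a) * (p - b)) by ring,
    show a * b = t * e by omega]
  ring

/-- `a` divides `e` when `a (p - b)` divides `e N`. -/
theorem a_dvd (hab : a * b + 1 = p) (hb : b < p) (hN : 1 + n * p = (p + a) * (p - b))
    (h : a * (p - b) * k = e * (1 + n * p)) : a ∣ e := by
  have h1 : a * k = e * (p + a) := by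
    refine Nat.eq_of_mul_eq_mul_right (show 0 < p - b by omega) ?_
    rw [show a * k * (p - b) = a * (p - b) * k by ring, h, hN]; ring
  have hc : Nat.Coprime a (p + a) := by
    rw [Nat.coprime_add_self_right, ← hab]
    exact Nat.coprime_mul_left_add_right a 1 b |>.mpr (Nat.coprime_one_right a)
  exact hc.dvd_of_dvd_mul_right ⟨k, h1.symm⟩

/-- `b` divides `e` when `b (p + a)` divides `e N`. -/
theorem b_dvd (hab : a * b + 1 = p) (hb : b < p) (hN : 1 + n * p = (p + a) * (p - b))
    (h : b * (p + a) * k = e * (1 + n * p)) : b ∣ e := by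
  have h1 : b * k = e * (p - b) := by
    refine Nat.eq_of_mul_eq_mul_right (show 0 < p + a by omega) ?_
    rw [show b * k * (p + a) = b * (p + a) * k by ring, h, hN]; ring
  have hc : Nat.Coprime b (p - b) := by
    have hbp : Nat.Coprime b p := by
      rw [← hab, mul_comm a b]
      exact Nat.coprime_mul_left_add_right b 1 a |>.mpr (Nat.coprime_one_right b)
    exact (Nat.coprime_sub_self_right hb.le).2 hbp
  exact hc.dvd_of_dvd_mul_right ⟨k, h1.symm⟩

end CfsgLib.Block.NP.Menu
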