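import Cfsg.Agent.Lib.Block.NP.Setup
import Cfsg.Agent.Lib.Block.NP.Menu
import Cfsg.Agent.Lib.Block.PrincipalSection

/-!
Existence of the setting for a simple group with a Sylow subgroup of prime order.
-/

set_option autoImplicit false
set_option linter.unusedSectionVars false

namespace CfsgLib.Block.NP

open Cfsg CfsgLib CfsgLib.Block
open scoped commutatorElement

universe u

variable {G : Type u} [Group G] [Finite G] {p : ℕ} [hpf : Fact p.Prime]

theorem perfect_of_simple (hs : IsSimpleGroup G) (hna : ¬ IsMulCommutative G) :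
    commutator G = ⊤ := by
  rcases hs.eq_bot_or_eq_top_of_normal (commutator G) inferInstance with h | h
  · exfalso
    refine hna ⟨⟨fun a b => ?_⟩⟩
    have hm : ⁅a, b⁆ ∈ commutator G :=
      Subgroup.commutator_mem_commutator (Subgroup.mem_top a) (Subgroup.mem_top b)
    rw [h, Subgroup.mem_bot, commutatorElement_eq_one_iff_mul_comm] at hm
    exact hm
  · exact h

/-- The centralizer of a Sylow subgroup of prime order has a normal `p`-complement. -/
theorem hasNormalPComplement_centralizer (P : Sylow p G) (hP : Nat.card P = p) :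
    Cfsg.HasNormalPComplement p (Subgroup.centralizer ((P : Subgroup G) : Set G)) := by
  set C := Subgroup.centralizer ((P : Subgroup G) : Set G) with hCdef
  have hcomm : (P : Subgroup G) ≤ C := by
    have : IsCyclic (P : Subgroup G) := isCyclic_of_prime_card hP
    let : CommGroup (P : Subgroup G) := IsCyclic.commGroup
    intro u hu
    rw [hCdef, Subgroup.mem_centralizer_iff]
    intro v hv
    exact congrArg Subtype.val (mul_comm (⟨v, hv⟩ : ↥(P : Subgroup G)) ⟨u, hu⟩)
  refine CfsgLib.Transfer.hasNormalPComplement_of_normalizer_le_centralizer (P.subtype hcomm) ?_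
  intro m _
  rw [Sylow.coe_subtype, Subgroup.mem_centralizer_iff]
  intro y hy
  exact Subtype.ext (Subgroup.mem_centralizer_iff.1 m.2 (y : G) hy)

/-- The setting exists. -/
theorem exists_hyp (hs : IsSimpleGroup G) (hna : ¬ IsMulCommutative G) (P : Sylow p G)
    (hP : Nat.card P = p) {n : ℕ} (hn : Nat.card (Sylow p G) = 1 + n * p) (hlt : n < p) :
    ∃ (e : ℕ) (V : Subgroup G), Hyp P n e V := by
  have hp : p.Prime := hpf.out
  have hperf := perfect_of_simple hs hna
  set C := Subgroup.centralizer ((P : Subgroup G) : Set G) with hCdef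
  set Nz := Subgroup.normalizer ((P : Subgroup G) : Set G) with hNdef
  have hcomm : (P : Subgroup G) ≤ C := by
    have : IsCyclic (P : Subgroup G) := isCyclic_of_prime_card hP
    let : CommGroup (P : Subgroup G) := IsCyclic.commGroup
    intro u hu
    rw [hCdef, Subgroup.mem_centralizer_iff]
    intro v hv
    exact congrArg Subtype.val (mul_comm (⟨v, hv⟩ : ↥(P : Subgroup G)) ⟨u, hu⟩)
  have hcenC : Cfsg.HasNormalPComplement p C := hasNormalPComplement_centralizer P hP
  obtain ⟨hreg, hcard⟩ := core_of_hasNormalPComplement hcenC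
  have hfac : (Nat.card C).factorization p = 1 := by
    have hG : (Nat.card G).factorization p = 1 := by
      have h := P.card_eq_multiplicity
      rw [hP] at h
      exact (Nat.pow_eq_self_iff hp.one_lt).1 h.symm
    refine le_antisymm (hG ▸ (Nat.factorization_le_iff_dvd Nat.card_pos.ne' Nat.card_pos.ne').2
      (Subgroup.card_subgroup_dvd_card _) p) ?_
    refine (Nat.Prime.dvd_iff_one_le_factorization hp Nat.card_pos.ne').1 ?_
    have h := Subgroup.card_dvd_of_le hcomm
    rwa [hP] at h
  rw [hfac, pow_one] at hcard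
  set K := Cfsg.pPrimeCore p C
  have hKc : ¬ p ∣ Nat.card K :=
    hp.coprime_iff_not_dvd.1 (CfsgLib.Solvable.pPrimeCore_coprime p).symm
  set V := K.map C.subtype with hV
  have hVcard : Nat.card V = Nat.card K :=
    Subgroup.card_map_of_injective C.subtype_injective
  have hGcard := (Subgroup.card_mul_index Nz).symm
  rw [show Nz.index = 1 + n * p from (Sylow.card_eq_index_normalizer P).symm.trans hn] at hGcard
  have hNcard : Nat.card Nz = C.relIndex Nz * Nat.card C := by
    rw [← (C.subgroupOf Nz).index_mul_card,
      Nat.card_congr (Subgroup.subgroupOfEquivOfLe (Subgroup.centralizer_le_normalizer _)).toEquiv]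
    rfl
  rw [hcard] at hNcard
  refine ⟨C.relIndex Nz, V,
    { simple := hs, perfect := hperf, hP := hP, hn := hn
      n_pos := BrauerReynolds.n_pos hperf P hP hn
      n_lt := hlt
      e_eq := rfl
      e_two := BrauerReynolds.two_le_relIndex hperf P hP
      mem_V := fun z => ?_
      card_C := by rw [hVcard, hcard]
      card_N := by rw [hVcard, hNcard]; ring
      card_G := by rw [hVcard, hGcard, hNcard]; ring }⟩
  simp only [hV, Subgroup.mem_map, Subgroup.coe_subtype]
  constructor
  · rintro ⟨c, hc, rfl⟩
    refine ⟨c.2, fun hd => hKc (hd.trans ?_)⟩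
    have h := orderOf_dvd_natCard (⟨c, hc⟩ : K)
    rwa [Subgroup.orderOf_mk, ← Subgroup.orderOf_coe] at h
  · rintro ⟨hz, hzr⟩
    exact ⟨⟨z, hz⟩, hreg _ (by rwa [Subgroup.orderOf_mk]), rfl⟩

end CfsgLib.Block.NP
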