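import Cfsg.Agent.Lib.Block.NP.Separation
import Cfsg.Agent.Lib.BlockB.ClassMul

/-!
The number of pairs with `p`-part in the class of `y` over a fixed element of `P` gives an
integrality condition on the principal block.
-/

set_option autoImplicit false
set_option linter.unusedSectionVars false

namespace CfsgLib.Block.NP.Integral

open Cfsg CfsgLib CfsgLib.Block
open scoped ComplexConjugate

universe u

variable {G : Type u} [Group G] [Finite G] {p : ℕ} [hpf : Fact p.Prime]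

/-- An action whose stabilizers all lie in a subgroup of index `e` gives a cardinality divisible
by `e`. -/
theorem dvd_card_of_stabilizer_le {H : Type*} [Group H] {X : Type*} [MulAction H X] [Finite X]
    (K : Subgroup H) (h : ∀ x : X, MulAction.stabilizer H x ≤ K) : K.index ∣ Nat.card X := by
  classical
  have := Fintype.ofFinite X
  have := Fintype.ofFinite (MulAction.orbitRel.Quotient H X)
  have : ∀ ω : MulAction.orbitRel.Quotient H X, Finite (H ⧸ MulAction.stabilizer H ω.out) :=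
    fun ω => Finite.of_equiv _ (MulAction.orbitEquivQuotientStabilizer H ω.out)
  rw [Nat.card_congr (MulAction.selfEquivSigmaOrbitsQuotientStabilizer H X), Nat.card_sigma]
  exact Finset.dvd_sum fun ω _ => by
    rw [← Subgroup.index_eq_card]
    exact Subgroup.index_dvd_of_le (h _)

variable [Fintype G]

open scoped Classical in
/-- The elements `τ` with the `p`-part of `y' * τ g τ⁻¹` conjugate to `y`. -/
noncomputable def pairSet (P : Sylow p G) (y y' g : G) : Finset G :=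
  Finset.univ.filter fun τ => ∃ v ∈ Separation.regSet P, IsConj (y * v) (y' * (τ * g * τ⁻¹))

theorem dvd_card_pairSet (P : Sylow p G) {y y' g : G} (hy' : y' ∈ (P : Subgroup G)) {e : ℕ}
    (he : e ∣ orderOf g)
    (hg : ∀ i : ℤ, (∃ c ∈ Subgroup.centralizer ((P : Subgroup G) : Set G), IsConj c (g ^ i)) →
      (e : ℤ) ∣ i) :
    Nat.card (Subgroup.centralizer ((P : Subgroup G) : Set G)) * e ∣ (pairSet P y y' g).card := by
  classical
  set C := Subgroup.centralizer ((P : Subgroup G) : Set G)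
  -- the defining property, transported to `τ⁻¹`
  set Q : G → Prop := fun s => ∃ v ∈ Separation.regSet P, IsConj (y * v) (y' * (s⁻¹ * g * s))
    with hQ
  have hQC : ∀ s r : G, r⁻¹ * s ∈ C → Q r → Q s := by
    rintro s r hc ⟨v, hv, hcon⟩
    refine ⟨v, hv, hcon.trans (isConj_iff.2 ⟨(r⁻¹ * s)⁻¹, ?_⟩)⟩
    have hcy : (r⁻¹ * s) * y' = y' * (r⁻¹ * s) := (Subgroup.mem_centralizer_iff.1 hc y' hy').symm
    calc (r⁻¹ * s)⁻¹ * (y' * (r⁻¹ * g * r)) * ((r⁻¹ * s)⁻¹)⁻¹
        = ((r⁻¹ * s)⁻¹ * (y' * (r⁻¹ * s))) * ((r⁻¹ * s)⁻¹ * (r⁻¹ * g * r) * (r⁻¹ * s)) := by group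
      _ = y' * ((r⁻¹ * s)⁻¹ * (r⁻¹ * g * r) * (r⁻¹ * s)) := by
          rw [← hcy, inv_mul_cancel_left]
      _ = _ := by group
  let Tb : Set (G ⧸ C) := QuotientGroup.mk '' {s | Q s}
  have hpre : QuotientGroup.mk ⁻¹' Tb = {s : G | Q s} := by
    refine Set.Subset.antisymm ?_ (Set.subset_preimage_image _ _)
    rintro s ⟨r, hr, hrs⟩
    exact hQC s r (QuotientGroup.eq.1 hrs) hr
  have hcard : (pairSet P y y' g).card = Nat.card C * Nat.card Tb := by
    rw [← Nat.card_prod, ← Nat.card_congr (QuotientGroup.preimageMkEquivSubgroupProdSet C Tb),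
      hpre, pairSet, ← Fintype.card_subtype, ← Nat.card_eq_fintype_card]
    refine Nat.card_congr ((Equiv.inv G).subtypeEquiv fun τ => ?_)
    simp [hQ]
  rw [hcard]
  refine Nat.mul_dvd_mul_left _ ?_
  -- `⟨g⟩` acts on the cosets
  let act : SubMulAction (Subgroup.zpowers g) (G ⧸ C) :=
    { carrier := Tb
      smul_mem' := fun h x hx => by
        obtain ⟨s, hs, rfl⟩ := hx
        obtain ⟨i, hi⟩ := Subgroup.mem_zpowers_iff.1 h.2
        refine ⟨(h : G) * s, ?_, rfl⟩
        obtain ⟨v, hv, hcon⟩ := hs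
        refine ⟨v, hv, ?_⟩
        rw [show ((h : G) * s)⁻¹ * g * ((h : G) * s) = s⁻¹ * g * s by rw [← hi]; group]
        exact hcon }
  let K : Subgroup (Subgroup.zpowers g) := (Subgroup.zpowers (g ^ e)).subgroupOf _
  have hK : K.index = e := by
    have h1 := K.card_mul_index
    rw [Nat.card_congr (Subgroup.subgroupOfEquivOfLe
      (Subgroup.zpowers_le.2 (Subgroup.npow_mem_zpowers g e))).toEquiv, Nat.card_zpowers,
      Nat.card_zpowers, orderOf_pow, Nat.gcd_eq_right he] at h1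
    have h2 := Nat.div_mul_cancel he
    have hpos : 0 < orderOf g / e := Nat.pos_of_ne_zero fun h0 => by
      rw [h0, zero_mul] at h2; exact (orderOf_pos g).ne h2
    exact Nat.eq_of_mul_eq_mul_left hpos (h1.trans h2.symm)
  rw [← hK]
  refine (dvd_card_of_stabilizer_le (X := act) K ?_).trans (dvd_of_eq rfl)
  rintro ⟨x, s, hs, rfl⟩ h hh
  obtain ⟨i, hi⟩ := Subgroup.mem_zpowers_iff.1 h.2
  have h1 : h • (QuotientGroup.mk s : G ⧸ C) = QuotientGroup.mk s :=
    congrArg Subtype.val (MulAction.mem_stabilizer_iff.1 hh)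
  have h2 : ((h : G) * s)⁻¹ * s ∈ C := QuotientGroup.eq.1 h1
  have h3 : s⁻¹ * g ^ i * s ∈ C := by
    have := inv_mem h2
    rw [← hi] at this
    simpa [mul_assoc] using this
  obtain ⟨j, rfl⟩ := hg i ⟨_, h3, isConj_iff.2 ⟨s, by group⟩⟩
  rw [Subgroup.mem_subgroupOf, ← hi, zpow_mul, zpow_natCast]
  exact Subgroup.zpow_mem_zpowers _ _

theorem card_pairSet [Fintype (IrrCharacter G)] {M : Ideal AlgInt} (hM : IsPModular p M)
    (P : Sylow p G) (hP : Nat.card P = p) {y y' : G} (hy : y ∈ (P : Subgroup G)) (hy1 : y ≠ 1)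
    (g : G) :
    ((pairSet P y y' g).card : ℂ) * p =
      (Nat.card G : ℂ) * ∑ᶠ χ ∈ principalBlock M G,
        conj ((χ : G → ℂ) y) * (χ : G → ℂ) y' * (χ : G → ℂ) g / (χ : G → ℂ) 1 := by
  classical
  set C := Subgroup.centralizer ((P : Subgroup G) : Set G) with hC
  set V := Separation.regSet P with hV
  have hVC : Nat.card C = p * V.card := Separation.card_centralizer P hP
  have hV0 : (V.card : ℂ) ≠ 0 := by
    refine Nat.cast_ne_zero.2 fun h => ?_
    rw [h, mul_zero] at hVC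
    exact (Nat.card_pos (α := C)).ne' hVC
  set θ : G → ℂ := fun x =>
    ((Finset.univ.filter fun sv : G × G => sv.2 ∈ V ∧ sv.1 * (y * sv.2) * sv.1⁻¹ = x).card : ℂ)
    with hθ
  have hθc : IsClassFunction G θ := by
    intro x h
    simp only [θ, Nat.cast_inj]
    refine Finset.card_equiv ((Equiv.mulLeft h⁻¹).prodCongr (Equiv.refl G)) fun sv => ?_
    simp only [Finset.mem_filter, Finset.mem_univ, true_and, Equiv.prodCongr_apply, Prod.map,
      Equiv.coe_mulLeft, Equiv.refl_apply]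
    refine and_congr_right fun _ => ?_
    constructor
    · intro e
      calc h⁻¹ * sv.1 * (y * sv.2) * (h⁻¹ * sv.1)⁻¹
          = h⁻¹ * (sv.1 * (y * sv.2) * sv.1⁻¹) * h := by group
        _ = x := by rw [e]; group
    · intro e
      calc sv.1 * (y * sv.2) * sv.1⁻¹
          = h * (h⁻¹ * sv.1 * (y * sv.2) * (h⁻¹ * sv.1)⁻¹) * h⁻¹ := by group
        _ = h * x * h⁻¹ := by rw [e]
  have hval : ∀ x : G, θ x = if ∃ v ∈ V, IsConj (y * v) x then (Nat.card C : ℂ) else 0 := by
    intro x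
    split_ifs with hex
    swap
    · simp only [θ, Nat.cast_eq_zero, Finset.card_eq_zero, Finset.filter_eq_empty_iff]
      rintro sv - ⟨h1, h2⟩
      exact hex ⟨sv.2, h1, isConj_iff.2 ⟨sv.1, h2⟩⟩
    obtain ⟨v₀, hv₀, hcon⟩ := hex
    obtain ⟨s₀, hs₀⟩ := isConj_iff.1 hcon
    simp only [θ, Nat.cast_inj]
    rw [← Fintype.card_subtype, ← Nat.card_eq_fintype_card]
    have hox : ∃ j : ℕ, orderOf y = p ^ j := IsPGroup.iff_orderOf.1 P.isPGroup' ⟨y, hy⟩ |>.imp
      fun j hj => by rwa [Subgroup.orderOf_mk] at hj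
    have hpart : ∀ v ∈ V, IsPPart p (y * v) y := fun v hv =>
      isPPart_mul (Subgroup.mem_centralizer_iff.1 (Separation.mem_regSet.1 hv).1 y hy) hox
        (Separation.mem_regSet.1 hv).2
    refine Nat.card_congr
      { toFun := fun sv => ⟨s₀⁻¹ * sv.1.1, ?_⟩
        invFun := fun c => ⟨(s₀ * c, (c : G)⁻¹ * v₀ * c), ?_⟩
        left_inv := ?_
        right_inv := fun c => Subtype.ext (by simp) }
    · obtain ⟨⟨s, v⟩, hv, he⟩ := sv
      show s₀⁻¹ * s ∈ C
      have e1 : (s₀⁻¹ * s) * (y * v) * (s₀⁻¹ * s)⁻¹ = y * v₀ := by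
        calc (s₀⁻¹ * s) * (y * v) * (s₀⁻¹ * s)⁻¹ = s₀⁻¹ * (s * (y * v) * s⁻¹) * s₀ := by group
          _ = s₀⁻¹ * (s₀ * (y * v₀) * s₀⁻¹) * s₀ := by rw [he, hs₀]
          _ = y * v₀ := by group
      have h1 := isPPart_conj (hpart v hv) (s₀⁻¹ * s)
      rw [e1] at h1
      have h2 := isPPart_unique hpf.out h1 (hpart v₀ hv₀)
      rw [hC, ← BrauerReynolds.centralizer_mem_eq P hP hy hy1,
        Subgroup.mem_centralizer_singleton_iff]
      exact mul_inv_eq_iff_eq_mul.1 h2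
    · have hc : (c : G) * y = y * c := (Subgroup.mem_centralizer_iff.1 c.2 y hy).symm
      have hmem := Separation.mem_regSet.1 hv₀
      refine ⟨Separation.mem_regSet.2 ⟨mul_mem (mul_mem (inv_mem c.2) hmem.1) c.2, ?_⟩, ?_⟩
      · rw [show orderOf ((c : G)⁻¹ * v₀ * c) = orderOf v₀ by
          have := MulEquiv.orderOf_eq (MulAut.conj (c : G)⁻¹) v₀
          simpa using this]
        exact hmem.2
      · calc s₀ * c * (y * ((c : G)⁻¹ * v₀ * c)) * (s₀ * c)⁻¹
            = s₀ * ((c : G) * y) * (c : G)⁻¹ * v₀ * s₀⁻¹ := by group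
          _ = x := by rw [hc, ← hs₀]; group
    · rintro ⟨⟨s, v⟩, hv, he⟩
      have e2 : (s₀⁻¹ * s)⁻¹ * v₀ * (s₀⁻¹ * s) = v := by
        have h1 : (s₀⁻¹ * s) * (y * v) * (s₀⁻¹ * s)⁻¹ = y * v₀ := by
          calc (s₀⁻¹ * s) * (y * v) * (s₀⁻¹ * s)⁻¹ = s₀⁻¹ * (s * (y * v) * s⁻¹) * s₀ := by group
            _ = s₀⁻¹ * (s₀ * (y * v₀) * s₀⁻¹) * s₀ := by rw [he, hs₀]
            _ = y * v₀ := by group
        have h2 := isPPart_conj (hpart v hv) (s₀⁻¹ * s)
        rw [h1] at h2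
        have h3 : (s₀⁻¹ * s) * y * (s₀⁻¹ * s)⁻¹ = y := isPPart_unique hpf.out h2 (hpart v₀ hv₀)
        have h4 : y * ((s₀⁻¹ * s) * v * (s₀⁻¹ * s)⁻¹) = y * v₀ := by
          calc y * ((s₀⁻¹ * s) * v * (s₀⁻¹ * s)⁻¹)
              = ((s₀⁻¹ * s) * y * (s₀⁻¹ * s)⁻¹) * ((s₀⁻¹ * s) * v * (s₀⁻¹ * s)⁻¹) := by rw [h3]
            _ = (s₀⁻¹ * s) * (y * v) * (s₀⁻¹ * s)⁻¹ := by group
            _ = y * v₀ := h1
        rw [← mul_left_cancel h4]
        group
      exact Subtype.ext (Prod.ext (by simp) (by simpa using e2))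
  have hinner : ∀ χ : IrrCharacter G, Cfsg.classInner θ (χ : G → ℂ) =
      ∑ v ∈ V, conj ((χ : G → ℂ) (y * v)) := by
    intro χ
    rw [Char.classInner_def]
    have h1 : ∀ x : G, θ x * conj ((χ : G → ℂ) x) = ∑ sv ∈ (Finset.univ ×ˢ V : Finset (G × G)),
        if sv.1 * (y * sv.2) * sv.1⁻¹ = x then conj ((χ : G → ℂ) x) else 0 := fun x => by
      rw [← Finset.sum_filter, Finset.sum_const, nsmul_eq_mul]
      simp only [θ]
      congr 3
      ext sv
      simp
    rw [Finset.sum_congr rfl fun x _ => h1 x, Finset.sum_comm,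
      Finset.sum_congr rfl (g := fun sv : G × G => conj ((χ : G → ℂ) (y * sv.2)))
        (fun sv _ => by
          rw [Finset.sum_ite_eq, if_pos (Finset.mem_univ _), Char.irr_isClassFunction χ.2]),
      Finset.sum_product]
    dsimp only
    rw [Finset.sum_const, Finset.card_univ, nsmul_eq_mul,
      ← Nat.card_eq_fintype_card, ← mul_assoc, inv_mul_cancel₀ Char.natCard_ne_zero, one_mul]
  have hsum := BlockB.sum_classFun_mul_conj hθc y' g
  have hl : ∑ τ : G, θ (y' * (τ * g * τ⁻¹)) =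
      ((pairSet P y y' g).card : ℂ) * (Nat.card C : ℂ) := by
    rw [Finset.sum_congr rfl fun τ _ => hval _, ← Finset.sum_filter, Finset.sum_const,
      nsmul_eq_mul, pairSet]
  obtain ⟨hconst, -⟩ := Separation.principal_column hM P hP hy hy1
  have hr : ∀ χ : IrrCharacter G,
      Cfsg.classInner θ (χ : G → ℂ) * (χ : G → ℂ) y' * (χ : G → ℂ) g / (χ : G → ℂ) 1 =
        if χ ∈ principalBlock M G then (V.card : ℂ) *
          (conj ((χ : G → ℂ) y) * (χ : G → ℂ) y' * (χ : G → ℂ) g / (χ : G → ℂ) 1) else 0 := by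
    intro χ
    rw [hinner]
    split_ifs with hB
    · rw [Finset.sum_congr rfl (g := fun _ => conj ((χ : G → ℂ) y)) fun v hv => by
          rw [hconst χ hB v hv], Finset.sum_const, nsmul_eq_mul]
      ring
    · rw [← map_sum, Separation.average_eq_zero hM P hP hy hy1 χ hB, map_zero]
      ring
  rw [hl, hVC, Finset.sum_congr rfl fun χ _ => hr χ, ← Finset.sum_filter, ← Finset.mul_sum] at hsum
  have hfin : ∑ᶠ χ ∈ principalBlock M G,
      conj ((χ : G → ℂ) y) * (χ : G → ℂ) y' * (χ : G → ℂ) g / (χ : G → ℂ) 1 =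
      ∑ χ ∈ Finset.univ.filter (fun χ => χ ∈ principalBlock M G),
        conj ((χ : G → ℂ) y) * (χ : G → ℂ) y' * (χ : G → ℂ) g / (χ : G → ℂ) 1 := by
    rw [← finsum_mem_coe_finset]
    congr! 2
    simp
  rw [hfin]
  refine mul_left_cancel₀ hV0 ?_
  push_cast at hsum
  linear_combination hsum

end CfsgLib.Block.NP.Integral
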