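import Mathlib.Algebra.Order.BigOperators.Ring.Finset
import Mathlib.Tactic

/-!
The arithmetic endgame of the case `p = a² + a + 1`.
-/

set_option autoImplicit false

namespace CfsgLib.Block.NP

/-- No family of integers has the moments forced by the principal block. -/
theorem keyArith {ι : Type*} (s : Finset ι) (h : ι → ℤ) (a D k : ℤ) (ha : Odd a) (ha5 : 5 ≤ a)
    (hD : 0 < D) (h2 : ∑ g ∈ s, h g ^ 2 = D * (a ^ 2 - a - 1))
    (h3 : ∑ g ∈ s, h g ^ 3 = D * (k * a ^ 3 - (a + 1) * (2 * a + 1)))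
    (hdiv : D * (2 * a) ∣ ∑ g ∈ s, (h g ^ 3 - h g ^ 2))
    (habs : ∀ g ∈ s, |h g| ≤ a)
    (hlow : ∀ g ∈ s, 0 < h g → a * h g ^ 2 ≤ (a ^ 2 - a - 1) * (a + 1 - h g)) : False := by
  obtain ⟨I, hI⟩ := hdiv
  rw [Finset.sum_sub_distrib, h2, h3] at hI
  have hV : k * a ^ 3 - (a + 1) * (2 * a + 1) = a ^ 2 - a - 1 + 2 * a * I :=
    mul_left_cancel₀ hD.ne' (by linear_combination hI)
  obtain ⟨m, rfl⟩ := ha
  have hk : Odd k := by
    have h1 : Odd (k * (2 * m + 1) ^ 3) :=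
      ⟨(2 * m ^ 2 + m - 1) + (2 * m + 1) * I + (m + 1) * (4 * m + 3), by linear_combination hV⟩
    exact (Int.odd_mul.1 h1).1
  set a := 2 * m + 1
  have hup : ∑ g ∈ s, h g ^ 3 ≤ a * ∑ g ∈ s, h g ^ 2 := by
    rw [Finset.mul_sum]
    refine Finset.sum_le_sum fun g hg => ?_
    have := (abs_le.1 (habs g hg)).2
    nlinarith [mul_nonneg (sub_nonneg.2 this) (sq_nonneg (h g))]
  have hdn : -(a * ∑ g ∈ s, h g ^ 2) ≤ ∑ g ∈ s, h g ^ 3 := by
    rw [Finset.mul_sum, ← Finset.sum_neg_distrib]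
    refine Finset.sum_le_sum fun g hg => ?_
    have := (abs_le.1 (habs g hg)).1
    nlinarith [mul_nonneg (sub_nonneg.2 this) (sq_nonneg (h g))]
  rw [h2, h3] at hup hdn
  have hup' : k * a ^ 3 - (a + 1) * (2 * a + 1) ≤ a * (a ^ 2 - a - 1) :=
    le_of_mul_le_mul_left (by linarith) hD
  have hdn' : -(a * (a ^ 2 - a - 1)) ≤ k * a ^ 3 - (a + 1) * (2 * a + 1) :=
    le_of_mul_le_mul_left (by linarith) hD
  have ha3 : 0 ≤ a ^ 3 := by positivity
  have hk1 : k = 1 := by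
    obtain ⟨j, rfl⟩ := hk
    rcases lt_trichotomy j 0 with hj | hj | hj
    · nlinarith [mul_le_mul_of_nonneg_right (show 2 * j + 1 ≤ -1 by omega) ha3]
    · simp [hj]
    · nlinarith [mul_le_mul_of_nonneg_right (show 3 ≤ 2 * j + 1 by omega) ha3]
  subst hk1
  have hsmall : ∀ g ∈ s, 3 * h g ≤ 2 * a ∧ (a = 5 → h g ≤ 3) := by
    intro g hg
    have key : 3 * h g ≤ 2 * a := by
      by_contra hc
      have hc' : 2 * a + 1 ≤ 3 * h g := by omega
      have hl := hlow g hg (by omega)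
      nlinarith [mul_le_mul_of_nonneg_left hc' (show (0 : ℤ) ≤ a by omega),
        mul_le_mul hc' hc' (by omega) (by omega),
        mul_le_mul_of_nonneg_left hc' (show (0 : ℤ) ≤ a ^ 2 - a - 1 by nlinarith)]
    exact ⟨key, fun h5 => by omega⟩
  by_cases h5 : a = 5
  · have hle : ∑ g ∈ s, h g ^ 3 ≤ 3 * ∑ g ∈ s, h g ^ 2 := by
      rw [Finset.mul_sum]
      refine Finset.sum_le_sum fun g hg => ?_
      nlinarith [mul_nonneg (sub_nonneg.2 ((hsmall g hg).2 h5)) (sq_nonneg (h g))]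
    rw [h2, h3, h5] at hle
    nlinarith
  · have hle : 3 * ∑ g ∈ s, h g ^ 3 ≤ 2 * a * ∑ g ∈ s, h g ^ 2 := by
      rw [Finset.mul_sum, Finset.mul_sum]
      refine Finset.sum_le_sum fun g hg => ?_
      nlinarith [mul_nonneg (sub_nonneg.2 (hsmall g hg).1) (sq_nonneg (h g))]
    rw [h2, h3] at hle
    have h6 : 3 * (1 * a ^ 3 - (a + 1) * (2 * a + 1)) ≤ 2 * a * (a ^ 2 - a - 1) :=
      le_of_mul_le_mul_left (by linarith) hD
    have h7 : 7 ≤ a := by omega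
    nlinarith [mul_nonneg (sub_nonneg.2 h7) (sq_nonneg a)]

end CfsgLib.Block.NP
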