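import Cfsg.Agent.Lib.Block.NP.KillArith

/-!
The shapes of the principal block with `t = 1`, or with an exceptional fixed dimension `f ≥ 2` of
type `b / t` or `a / t`, contradict separation by blocks and integrality at a generator of
`N(P) / C(P)`.
-/

set_option autoImplicit false
set_option linter.style.haveILetI false
set_option linter.unusedSectionVars false

namespace CfsgLib.Block.NP

open Cfsg CfsgLib CfsgLib.Block

universe u

variable {G : Type u} [Group G] [Finite G] {p : ℕ} [hpf : Fact p.Prime]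

/-- The information about the principal block at a generator of `N(P) / C(P)`. -/
structure GenInfo (t a b d₀ n e : ℕ) (σ : ℤ) (Xa Xn Xb Xc Y : Finset (IrrCharacter G))
    (N : ℕ) (g : G) : Prop where
  Xb_zero : ∑ χ ∈ Xb, (χ : G → ℂ) g = 0
  Xn_zero : Even e → ∑ χ ∈ Xn, (χ : G → ℂ) g = 0
  int_one : IsIntegral ℤ
    ((∑ χ ∈ Xa, (χ : G → ℂ) g) / (a : ℂ) + (∑ χ ∈ Xc, (χ : G → ℂ) g) / (b : ℂ))
  int_two : ∀ η ∈ Y, IsIntegral ℤ ((N : ℂ) * (η : G → ℂ) g / (d₀ : ℂ))
  separation : ∀ η ∈ Y, ∀ r : ℕ, r.Prime → r ∣ e →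
    1 + (if r ∣ e * (p + a) / a then ∑ χ ∈ Xa, (χ : G → ℂ) g else 0) +
      ∑ χ ∈ Xn, (χ : G → ℂ) g -
      (if r ∣ e * (p - b) / b then ∑ χ ∈ Xc, (χ : G → ℂ) g else 0) -
      (if r ∣ e * N / d₀ then (σ : ℂ) * (η : G → ℂ) g else 0) = 0
  separation_one : t = 1 → ∀ r : ℕ, r.Prime → r ∣ e →
    1 + (if r ∣ e * (p + a) / a then ∑ χ ∈ Xa, (χ : G → ℂ) g else 0) +
      ∑ χ ∈ Xn, (χ : G → ℂ) g -
      (if r ∣ e * (p - b) / b then ∑ χ ∈ Xc, (χ : G → ℂ) g else 0) = 0

namespace Data

variable {M : Ideal AlgInt} {P : Sylow p G} {n e : ℕ} {V : Subgroup G}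
  {t a b f d₀ : ℕ} {σ : ℤ} {Xa Xn Xb Xc Y : Finset (IrrCharacter G)} {g : G}

/-- No block with `t = 1`. -/
theorem kill_one (D : Data M P n e V t a b f d₀ σ Xa Xn Xb Xc Y) (hg : ¬ p ∣ orderOf g)
    (K : GenInfo (p := p) t a b d₀ n e σ Xa Xn Xb Xc Y (1 + n * p) g) (ht : t = 1) : False := by
  have he : e = a * b := by
    have h := D.hte
    have := D.hab
    rw [ht, one_mul] at h
    omega
  have hev : Even e := by
    have h := D.p_odd
    rw [← D.hab, Nat.odd_add_one, Nat.not_odd_iff_even] at h
    rwa [he]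
  have hrel := D.relation_one ht g hg
  have hsep := K.separation_one ht 2 Nat.prime_two hev.two_dvd
  rw [K.Xb_zero, K.Xn_zero hev] at hrel
  rw [K.Xn_zero hev] at hsep
  have hu : e * (p + a) / a = b * (p + a) := by
    rw [he, mul_assoc, Nat.mul_div_cancel_left _ (by have := D.a_two; omega)]
  have hv : e * (p - b) / b = a * (p - b) := by
    rw [he, mul_comm a b, mul_assoc, Nat.mul_div_cancel_left _ (by
      have := D.a_two; have := D.a_le; omega)]
  rw [hu, hv] at hsep
  have hi := K.int_one
  rcases D.parity hev with ⟨ha, hb⟩ | ⟨ha, hb⟩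
  · rw [if_neg (fun h => Nat.not_even_iff_odd.2 (hb.mul (D.p_odd.add_even ha))
      (even_iff_two_dvd.2 h)), if_pos (ha.two_dvd.mul_right _)] at hsep
    have hc : ∑ χ ∈ Xc, (χ : G → ℂ) g = 1 := by linear_combination -hsep
    have ha0 : ∑ χ ∈ Xa, (χ : G → ℂ) g = 0 := by linear_combination hrel + hc
    rw [hc, ha0, zero_div, zero_add] at hi
    exact not_isIntegral_inv (D.a_two.trans D.a_le) hi
  · rw [if_pos (hb.two_dvd.mul_right _), if_neg (fun h => Nat.not_even_iff_odd.2
      (ha.mul (Nat.Odd.sub_even D.b_lt.le D.p_odd hb)) (even_iff_two_dvd.2 h))] at hsep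
    have ha0 : ∑ χ ∈ Xa, (χ : G → ℂ) g = -1 := by linear_combination hsep
    have hc : ∑ χ ∈ Xc, (χ : G → ℂ) g = 0 := by linear_combination -hrel + hsep
    rw [hc, ha0, zero_div, add_zero, neg_div] at hi
    exact not_isIntegral_inv D.a_two (by simpa using hi.neg)

/-- The exceptional degree `f (p + a)` with `f ≥ 2` does not occur. -/
theorem kill_two (D : Data M P n e V t a b f d₀ σ Xa Xn Xb Xc Y) (hg : ¬ p ∣ orderOf g)
    (K : GenInfo (p := p) t a b d₀ n e σ Xa Xn Xb Xc Y (1 + n * p) g) (ht : 2 ≤ t) (hf : 2 ≤ f)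
    (h2 : f * t = b) (he : e = a * f) (hd : d₀ = f * (p + a)) (hσ : σ = 1) : False := by
  classical
  obtain ⟨η, hη⟩ : Y.Nonempty := Finset.card_pos.1 (by rw [D.card_Y ht]; omega)
  set Sa := ∑ χ ∈ Xa, (χ : G → ℂ) g with hSa
  set Sn := ∑ χ ∈ Xn, (χ : G → ℂ) g with hSn
  set Sc := ∑ χ ∈ Xc, (χ : G → ℂ) g with hSc
  set h := (η : G → ℂ) g with hh
  have ha := D.a_two
  have hbp := D.b_lt
  have hfC : (f : ℂ) ≠ 0 := Nat.cast_ne_zero.2 (by omega)
  have htC : (t : ℂ) ≠ 0 := Nat.cast_ne_zero.2 (by omega)
  have hbC : (b : ℂ) = f * t := by rw [← h2]; push_cast; ring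
  have hpab : (p : ℂ) = a * b + 1 := by exact_mod_cast D.hab.symm
  have hNC : ((1 + n * p : ℕ) : ℂ) = ((p : ℂ) + a) * ((p : ℂ) - b) := by
    rw [D.N_eq, Nat.cast_mul, Nat.cast_sub hbp.le, Nat.cast_add]
  have hw : IsIntegral ℤ (h / f) := by
    have hW := K.int_two η hη
    rw [hd, hNC, Nat.cast_mul, Nat.cast_add, ← hh] at hW
    have hpaC : ((p : ℂ) + a) ≠ 0 := by
      rw [← Nat.cast_add]; exact Nat.cast_ne_zero.2 (by omega)
    have heq : h / f = ((p : ℂ) + a) * ((p : ℂ) - b) * h / ((f : ℂ) * ((p : ℂ) + a)) -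
        (((a : ℤ) - 1) * (t : ℤ) : ℤ) * h := by
      push_cast
      field_simp
      rw [hpab, hbC]
      ring
    rw [heq]
    exact hW.sub (isIntegral_algebraMap.mul (irr_isIntegral η g))
  have hrel := D.relation η hη g hg
  rw [K.Xb_zero, hσ, ← hSa, ← hSn, ← hSc, ← hh, Int.cast_one, one_mul, sub_zero] at hrel
  have hu : e * (p + a) / a = f * (p + a) := by
    rw [he, mul_assoc, Nat.mul_div_cancel_left _ (by omega)]
  have hM : e * (1 + n * p) / d₀ = a * (p - b) := by
    rw [D.N_eq, hd, he, show a * f * ((p + a) * (p - b)) = (f * (p + a)) * (a * (p - b)) by ring,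
      Nat.mul_div_cancel_left _ (Nat.mul_pos (by omega) (by omega))]
  have hsep : ∀ r : ℕ, r.Prime → r ∣ e →
      1 + (if r ∣ f * (p + a) then Sa else 0) + Sn - (if r ∣ e * (p - b) / b then Sc else 0) -
        (if r ∣ a * (p - b) then h else 0) = 0 := fun r hr hre => by
    have := K.separation η hη r hr hre
    rwa [hu, hM, hσ, ← hSa, ← hSn, ← hSc, ← hh, Int.cast_one, one_mul] at this
  have hi := K.int_one
  rw [← hSa, ← hSc] at hi
  have hC : ∀ α : ℕ, a = t * α → e * (p - b) / b = α * (p - b) := fun α hα => by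
    rw [he, hα, ← h2, show t * α * f * (p - f * t) = (f * t) * (α * (p - f * t)) by ring,
      Nat.mul_div_cancel_left _ (Nat.mul_pos (by omega) (by omega))]
  have hdvd : Xc.Nonempty → t ∣ a := fun hne => by
    have h1 : f * t ∣ f * a := by rw [h2, mul_comm f a, ← he]; exact D.b_dvd hne
    exact (Nat.mul_dvd_mul_iff_left (by omega)).1 h1
  have hempty : ¬ Xc.Nonempty → Sc = 0 := fun hne => by
    rw [hSc, Finset.not_nonempty_iff_eq_empty.1 hne, Finset.sum_empty]
  rcases Nat.even_or_odd e with hev | hod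
  · have hn0 : Sn = 0 := K.Xn_zero hev
    have hs := hsep 2 Nat.prime_two hev.two_dvd
    rw [hn0, add_zero] at hs hrel
    rcases D.parity hev with ⟨hae, hbo⟩ | ⟨hao, hbe⟩
    · -- `a` even: `t` and `f` are odd
      rw [← h2, Nat.odd_mul] at hbo
      rw [if_neg (fun hh2 => Nat.not_even_iff_odd.2 (hbo.1.mul (D.p_odd.add_even hae))
        (even_iff_two_dvd.2 hh2)), if_pos (hae.two_dvd.mul_right _)] at hs
      have hs' : 1 - Sc - h = 0 := by
        by_cases hne : Xc.Nonempty
        · obtain ⟨α, hα⟩ := hdvd hne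
          have hαe : Even α := by
            rw [hα, Nat.even_mul] at hae
            exact hae.resolve_left (Nat.not_even_iff_odd.2 hbo.2)
          rw [hC α hα, if_pos (hαe.two_dvd.mul_right _)] at hs
          linear_combination hs
        · rw [hempty hne] at hs ⊢
          simpa using hs
      have ha0 : Sa = 0 := by linear_combination hrel - hs'
      rw [ha0, zero_div, zero_add] at hi
      refine not_isIntegral_of_mul hf ((isIntegral_algebraMap (R := ℤ) (x := (t : ℤ))).mul hi |>.add hw) ?_
      simp only [algebraMap_int_eq, eq_intCast, Int.cast_natCast]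
      rw [hbC]
      field_simp
      linear_combination -hs'
    · -- `a` odd, `f` even
      have hfe : Even f := by
        rw [he, Nat.even_mul] at hev
        exact hev.resolve_left (Nat.not_even_iff_odd.2 hao)
      have hpo : Odd (p - b) := Nat.Odd.sub_even hbp.le D.p_odd hbe
      rw [if_pos (hfe.two_dvd.mul_right _), if_neg (fun hh2 => Nat.not_even_iff_odd.2
        (hao.mul hpo) (even_iff_two_dvd.2 hh2))] at hs
      by_cases hne : Xc.Nonempty
      · obtain ⟨α, hα⟩ := hdvd hne
        have hαo : Odd α := by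
          rw [hα, Nat.odd_mul] at hao
          exact hao.2
        rw [hC α hα, if_neg (fun hh2 => Nat.not_even_iff_odd.2 (hαo.mul hpo)
          (even_iff_two_dvd.2 hh2))] at hs
        have ha1 : Sa = -1 := by linear_combination hs
        have hc1 : Sc = -h := by linear_combination ha1 - hrel
        have hαC : (α : ℂ) ≠ 0 := Nat.cast_ne_zero.2 hαo.pos.ne'
        have hα1 : α = 1 := by
          by_contra hne1
          have hx : IsIntegral ℤ ((1 : ℂ) / (α : ℂ)) := by
            have := ((isIntegral_algebraMap (R := ℤ) (x := (t : ℤ))).mul hi |>.add hw).neg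
            simp only [algebraMap_int_eq, eq_intCast, Int.cast_natCast] at this
            have he1 : (1 : ℂ) / α = -((t : ℂ) * (Sa / a + Sc / b) + h / f) := by
              rw [ha1, hc1, hbC, show (a : ℂ) = t * α by rw [hα]; push_cast; ring]
              field_simp
              ring
            rwa [he1]
          exact not_isIntegral_inv (by have := hαo.pos; omega) hx
        subst hα1
        rw [mul_one] at hα
        obtain ⟨q, hq, hqa⟩ := Nat.exists_prime_and_dvd (show a ≠ 1 by omega)
        have hs' := hsep q hq (he ▸ hqa.mul_right f)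
        have hqp : ¬ q ∣ 1 * (p - b) := by
          rw [one_mul]
          intro hd'
          have hqb : q ∣ b := by rw [← h2, ← hα]; exact hqa.mul_left f
          have h3 : q ∣ p := by
            have := Nat.dvd_add hd' hqb
            rwa [Nat.sub_add_cancel hbp.le] at this
          rw [← D.hab] at h3
          exact hq.one_lt.ne' (Nat.dvd_one.1 ((Nat.dvd_add_right (hqa.mul_right b)).1 h3))
        rw [hC 1 (by rw [hα, mul_one]), if_neg hqp, if_pos (hqa.mul_right _), hn0] at hs'
        split_ifs at hs' with hqf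
        · have h0 : h = 0 := by linear_combination ha1 - hs'
          rw [ha1, hc1, h0, neg_zero, zero_div, add_zero, neg_div] at hi
          exact not_isIntegral_inv ha (by simpa using hi.neg)
        · have h0 : h = 1 := by linear_combination -hs'
          rw [h0] at hw
          exact not_isIntegral_inv hf hw
      · rw [hempty hne] at hi hs
        have ha1 : Sa = -1 := by
          simp only [ite_self, sub_zero] at hs
          linear_combination hs
        rw [ha1, zero_div, add_zero, neg_div] at hi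
        exact not_isIntegral_inv ha (by simpa using hi.neg)
  · -- `e` odd: no `Xn`, no `Xc`
    rw [he, Nat.odd_mul] at hod
    have hc0 : ¬ Xc.Nonempty := fun hne => by
      have h1 : Odd b := by
        refine (show Odd (a * f) from hod.1.mul hod.2).of_dvd_nat ?_
        rw [← he]; exact D.b_dvd hne
      have h3 := D.p_odd
      rw [← D.hab, Nat.odd_add_one] at h3
      exact h3 (hod.1.mul h1)
    have hn0 : Sn = 0 := by
      rw [hSn, show Xn = ∅ from ?_, Finset.sum_empty]
      by_contra hne
      have hpos : (1 : ℤ) ≤ Xn.card := by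
        exact_mod_cast Finset.card_pos.2 (Finset.nonempty_iff_ne_empty.2 hne)
      have hl := D.deg_linear ht (by rw [hd, hσ, he]; push_cast; ring) (by rw [hσ]; norm_num)
      have hcnt : (Xb.card : ℤ) + 2 ≤ (a : ℤ) * f := by
        have h1 := D.count ht
        have h2' : 1 ≤ Xn.card := by exact_mod_cast hpos
        have : Xb.card + 2 ≤ a * f := by omega
        exact_mod_cast this
      have hnb : (n : ℤ) + b = a * b + a := by exact_mod_cast D.n_eq
      have hb' : (b : ℤ) = f * t := by exact_mod_cast h2.symm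
      rw [hσ, Finset.not_nonempty_iff_eq_empty.1 hc0, Finset.card_empty, Nat.cast_zero] at hl
      have ha3 : (3 : ℤ) ≤ a := by
        rcases hod.1 with ⟨k, rfl⟩
        push_cast; omega
      have hA : (0 : ℤ) ≤ (Xa.card : ℤ) * ((a : ℤ) - 1) :=
        mul_nonneg (Nat.cast_nonneg _) (by omega)
      have h4 : (n : ℤ) ≤ (Xn.card : ℤ) * n := le_mul_of_one_le_left (Nat.cast_nonneg _) hpos
      have h5 : (2 : ℤ) ≤ ((a : ℤ) - 1) * ((t : ℤ) - 1) := by
        nlinarith
      nlinarith [mul_le_mul_of_nonneg_left h5 (Nat.cast_nonneg f : (0 : ℤ) ≤ (f : ℤ))]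
    obtain ⟨q, hq, hqf⟩ := Nat.exists_prime_and_dvd (show f ≠ 1 by omega)
    have hs := hsep q hq (he ▸ hqf.mul_left a)
    rw [hn0, hempty hc0, ite_self, if_pos (hqf.mul_right _)] at hs
    rw [hn0, hempty hc0] at hrel
    rw [hempty hc0, zero_div, add_zero] at hi
    split_ifs at hs with hqa
    · have hqa' : q ∣ a := by
        refine (hq.dvd_mul.1 hqa).resolve_right fun hd' => ?_
        have hqb : q ∣ b := h2 ▸ hqf.mul_right t
        have h3 : q ∣ p := by
          have := Nat.dvd_add hd' hqb
          rwa [Nat.sub_add_cancel hbp.le] at this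
        rw [← D.hab] at h3
        exact hq.one_lt.ne' (Nat.dvd_one.1 ((Nat.dvd_add_right (hqb.mul_left a)).1 h3))
      obtain ⟨f', hf'⟩ := hqf
      obtain ⟨a', ha'⟩ := hqa'
      refine not_isIntegral_of_mul hq.two_le (((isIntegral_algebraMap (R := ℤ) (x := (f' : ℤ))).mul hw).sub
        ((isIntegral_algebraMap (R := ℤ) (x := (a' : ℤ))).mul hi)) ?_
      simp only [algebraMap_int_eq, eq_intCast, Int.cast_natCast]
      have hA' : (a : ℂ) = q * a' := by rw [ha']; push_cast; ring
      have hF' : (f : ℂ) = q * f' := by rw [hf']; push_cast; ring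
      have hh' : (f : ℂ) * (h / f) = h := mul_div_cancel₀ h hfC
      have hS' : (a : ℂ) * (Sa / a) = Sa := mul_div_cancel₀ Sa (Nat.cast_ne_zero.2 (by omega))
      rw [hF'] at hh' ⊢
      rw [hA'] at hS' ⊢
      linear_combination hh' - hS' - hrel
    · have ha1 : Sa = -1 := by linear_combination hs
      rw [ha1, neg_div] at hi
      exact not_isIntegral_inv ha (by simpa using hi.neg)

/-- The exceptional degree `f (p - b)` with `f ≥ 2` does not occur. -/
theorem kill_three (D : Data M P n e V t a b f d₀ σ Xa Xn Xb Xc Y) (hg : ¬ p ∣ orderOf g)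
    (K : GenInfo (p := p) t a b d₀ n e σ Xa Xn Xb Xc Y (1 + n * p) g) (hXb : Xb.Nonempty → Xn = ∅)
    (ht : 2 ≤ t) (hf : 2 ≤ f) (h3 : f * t = a) (he : e = b * f) (hd : d₀ = f * (p - b))
    (hσ : σ = -1) : False := by
  classical
  obtain ⟨η, hη⟩ : Y.Nonempty := Finset.card_pos.1 (by rw [D.card_Y ht]; omega)
  set Sa := ∑ χ ∈ Xa, (χ : G → ℂ) g with hSa
  set Sn := ∑ χ ∈ Xn, (χ : G → ℂ) g with hSn
  set Sc := ∑ χ ∈ Xc, (χ : G → ℂ) g with hSc
  set h := (η : G → ℂ) g with hh
  have ha := D.a_two
  have hab2 := D.a_le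
  have hbp := D.b_lt
  have hfC : (f : ℂ) ≠ 0 := Nat.cast_ne_zero.2 (by omega)
  have htC : (t : ℂ) ≠ 0 := Nat.cast_ne_zero.2 (by omega)
  have hb0 : (b : ℂ) ≠ 0 := Nat.cast_ne_zero.2 (by omega)
  have haC : (a : ℂ) = f * t := by rw [← h3]; push_cast; ring
  have hpab : (p : ℂ) = a * b + 1 := by exact_mod_cast D.hab.symm
  have hNC : ((1 + n * p : ℕ) : ℂ) = ((p : ℂ) + a) * ((p : ℂ) - b) := by
    rw [D.N_eq, Nat.cast_mul, Nat.cast_sub hbp.le, Nat.cast_add]
  have hw : IsIntegral ℤ (h / f) := by
    have hW := K.int_two η hη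
    rw [hd, hNC, Nat.cast_mul, Nat.cast_sub hbp.le, ← hh] at hW
    have hpbC : ((p : ℂ) - b) ≠ 0 := by
      rw [← Nat.cast_sub hbp.le]; exact Nat.cast_ne_zero.2 (by omega)
    have heq : h / f = ((p : ℂ) + a) * ((p : ℂ) - b) * h / ((f : ℂ) * ((p : ℂ) - b)) -
        (((b : ℤ) + 1) * (t : ℤ) : ℤ) * h := by
      push_cast
      field_simp
      rw [hpab, haC]
      ring
    rw [heq]
    exact hW.sub (isIntegral_algebraMap.mul (irr_isIntegral η g))
  have hrel := D.relation η hη g hg
  rw [K.Xb_zero, hσ, ← hSa, ← hSn, ← hSc, ← hh, sub_zero] at hrel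
  have hv : e * (p - b) / b = f * (p - b) := by
    rw [he, mul_assoc, Nat.mul_div_cancel_left _ (by omega)]
  have hM : e * (1 + n * p) / d₀ = b * (p + a) := by
    rw [D.N_eq, hd, he, show b * f * ((p + a) * (p - b)) = (f * (p - b)) * (b * (p + a)) by ring,
      Nat.mul_div_cancel_left _ (Nat.mul_pos (by omega) (by omega))]
  have hsep : ∀ r : ℕ, r.Prime → r ∣ e →
      1 + (if r ∣ e * (p + a) / a then Sa else 0) + Sn - (if r ∣ f * (p - b) then Sc else 0) -
        (if r ∣ b * (p + a) then -h else 0) = 0 := fun r hr hre => by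
    have := K.separation η hη r hr hre
    rw [hv, hM, hσ, ← hSa, ← hSn, ← hSc, ← hh] at this
    simpa using this
  have hi := K.int_one
  rw [← hSa, ← hSc] at hi
  have hA : ∀ β : ℕ, b = t * β → e * (p + a) / a = β * (p + a) := fun β hβ => by
    rw [he, hβ, ← h3, show t * β * f * (p + f * t) = (f * t) * (β * (p + f * t)) by ring,
      Nat.mul_div_cancel_left _ (Nat.mul_pos (by omega) (by omega))]
  have hdvd : Xa.Nonempty → t ∣ b := fun hne => by
    have h1 : f * t ∣ f * b := by rw [h3, mul_comm f b, ← he]; exact D.a_dvd hne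
    exact (Nat.mul_dvd_mul_iff_left (by omega)).1 h1
  have hempty : ¬ Xa.Nonempty → Sa = 0 := fun hne => by
    rw [hSa, Finset.not_nonempty_iff_eq_empty.1 hne, Finset.sum_empty]
  rcases Nat.even_or_odd e with hev | hod
  · have hn0 : Sn = 0 := K.Xn_zero hev
    have hs := hsep 2 Nat.prime_two hev.two_dvd
    rw [hn0, add_zero] at hs hrel
    rcases D.parity hev with ⟨hae, hbo⟩ | ⟨hao, hbe⟩
    · have hfe : Even f := by
        rw [he, Nat.even_mul] at hev
        exact hev.resolve_left (Nat.not_even_iff_odd.2 hbo)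
      have hpa : Odd (p + a) := D.p_odd.add_even hae
      rw [if_pos (hfe.two_dvd.mul_right _), if_neg (fun hh2 => Nat.not_even_iff_odd.2
        (hbo.mul hpa) (even_iff_two_dvd.2 hh2)), sub_zero] at hs
      by_cases hne : Xa.Nonempty
      · obtain ⟨β, hβ⟩ := hdvd hne
        have hβo : Odd β := by
          rw [hβ, Nat.odd_mul] at hbo
          exact hbo.2
        rw [hA β hβ, if_neg (fun hh2 => Nat.not_even_iff_odd.2 (hβo.mul hpa)
          (even_iff_two_dvd.2 hh2))] at hs
        have hc1 : Sc = 1 := by linear_combination -hs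
        have ha1 : Sa = -h := by push_cast at hrel; linear_combination hrel + hc1
        have hx : IsIntegral ℤ ((t : ℂ) / (b : ℂ)) := by
          have := (isIntegral_algebraMap (R := ℤ) (x := (t : ℤ))).mul hi |>.add hw
          simp only [algebraMap_int_eq, eq_intCast, Int.cast_natCast] at this
          have he1 : (t : ℂ) / b = (t : ℂ) * (Sa / a + Sc / b) + h / f := by
            rw [ha1, hc1, haC]
            field_simp
            ring
          rwa [he1]
        have hbt := Nat.le_of_dvd (by omega) (Char.dvd_of_isIntegral_div (by omega) hx)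
        have := Nat.mul_le_mul_right t hf
        omega
      · rw [hempty hne] at hi hs
        have hc1 : Sc = 1 := by
          simp only [ite_self, add_zero] at hs
          linear_combination -hs
        rw [hc1, zero_div, zero_add] at hi
        exact not_isIntegral_inv (ha.trans hab2) hi
    · rw [← h3, Nat.odd_mul] at hao
      have hpo : Odd (p - b) := Nat.Odd.sub_even hbp.le D.p_odd hbe
      rw [if_pos (hbe.two_dvd.mul_right _), if_neg (fun hh2 => Nat.not_even_iff_odd.2
        (hao.1.mul hpo) (even_iff_two_dvd.2 hh2)), sub_zero] at hs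
      have hs' : 1 + Sa + h = 0 := by
        by_cases hne : Xa.Nonempty
        · obtain ⟨β, hβ⟩ := hdvd hne
          have hβe : Even β := by
            rw [hβ, Nat.even_mul] at hbe
            exact hbe.resolve_left (Nat.not_even_iff_odd.2 hao.2)
          rw [hA β hβ, if_pos (hβe.two_dvd.mul_right _)] at hs
          linear_combination hs
        · rw [hempty hne] at hs ⊢
          simpa using hs
      have hc0 : Sc = 0 := by push_cast at hrel; linear_combination hs' - hrel
      rw [hc0, zero_div, add_zero] at hi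
      refine not_isIntegral_of_mul hf (((isIntegral_algebraMap (R := ℤ) (x := (t : ℤ))).mul hi |>.add hw).neg) ?_
      simp only [algebraMap_int_eq, eq_intCast, Int.cast_natCast]
      rw [haC]
      field_simp
      linear_combination -hs'
  · rw [he, Nat.odd_mul] at hod
    have ha0 : ¬ Xa.Nonempty := fun hne => by
      have h1 : Odd a := by
        refine (show Odd (b * f) from hod.1.mul hod.2).of_dvd_nat ?_
        rw [← he]; exact D.a_dvd hne
      have h4 := D.p_odd
      rw [← D.hab, Nat.odd_add_one] at h4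
      exact h4 (h1.mul hod.1)
    have hXn : Xn = ∅ := by
      rcases Xb.eq_empty_or_nonempty with hb | hb
      · by_contra hne
        have hpos : (1 : ℤ) ≤ Xn.card := by
          exact_mod_cast Finset.card_pos.2 (Finset.nonempty_iff_ne_empty.2 hne)
        have hl := D.deg_linear ht (by
          rw [hd, hσ, he, Nat.cast_mul, Nat.cast_sub hbp.le]; push_cast; ring) (by rw [hσ]; norm_num)
        have hcnt := D.count ht
        have hnb : (n : ℤ) + b = a * b + a := by exact_mod_cast D.n_eq
        have ha' : (a : ℤ) = f * t := by exact_mod_cast h3.symm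
        rw [hσ, hb, Finset.card_empty, Nat.cast_zero, Finset.not_nonempty_iff_eq_empty.1 ha0,
          Finset.card_empty, Nat.cast_zero] at hl
        rw [hb, Finset.card_empty, Finset.not_nonempty_iff_eq_empty.1 ha0, Finset.card_empty] at hcnt
        have hcnt' : (Xn.card : ℤ) + Xc.card + 1 = b * f := by
          rw [he] at hcnt
          have : Xn.card + Xc.card + 1 = b * f := by omega
          exact_mod_cast this
        set m : ℤ := (Xc.card : ℤ) - (Xn.card : ℤ) * ((a : ℤ) - 1) with hm
        have e1 : m * ((b : ℤ) + 1) = Xn.card + f := by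
          rw [hm]; linear_combination -hl + (Xn.card : ℤ) * hnb
        have e2 : (Xn.card : ℤ) * a + m + 1 = b * f := by
          rw [hm]; linear_combination hcnt'
        have hm1 : 1 ≤ m := by nlinarith
        have e3 : (f : ℤ) * (a + b) = m * (a * b + a + 1) + 1 := by
          linear_combination -e2 - (a : ℤ) * e1
        have h2f : 2 * (f : ℤ) ≤ a := by rw [ha']; nlinarith
        nlinarith [mul_le_mul_of_nonneg_right h2f (show (0 : ℤ) ≤ a + b by positivity),
          mul_le_mul_of_nonneg_right hm1 (show (0 : ℤ) ≤ a * b + a + 1 by positivity),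
          mul_le_mul_of_nonneg_left (show (a : ℤ) ≤ b by exact_mod_cast hab2)
            (show (0 : ℤ) ≤ a by positivity)]
      · exact hXb hb
    have hn0 : Sn = 0 := by rw [hSn, hXn, Finset.sum_empty]
    obtain ⟨q, hq, hqf⟩ := Nat.exists_prime_and_dvd (show f ≠ 1 by omega)
    have hs := hsep q hq (he ▸ hqf.mul_left b)
    rw [hn0, hempty ha0, ite_self, if_pos (hqf.mul_right _)] at hs
    rw [hn0, hempty ha0] at hrel
    rw [hempty ha0, zero_div, zero_add] at hi
    split_ifs at hs with hqb
    · have hqb' : q ∣ b := by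
        refine (hq.dvd_mul.1 hqb).resolve_right fun hd' => ?_
        have hqa : q ∣ a := h3 ▸ hqf.mul_right t
        have h4 : q ∣ p := (Nat.dvd_add_left hqa).1 hd'
        rw [← D.hab] at h4
        exact hq.one_lt.ne' (Nat.dvd_one.1 ((Nat.dvd_add_right (hqa.mul_right b)).1 h4))
      obtain ⟨f', hf'⟩ := hqf
      obtain ⟨b', hb'⟩ := hqb'
      refine not_isIntegral_of_mul hq.two_le (((isIntegral_algebraMap (R := ℤ) (x := (b' : ℤ))).mul hi).sub
        ((isIntegral_algebraMap (R := ℤ) (x := (f' : ℤ))).mul hw)) ?_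
      simp only [algebraMap_int_eq, eq_intCast, Int.cast_natCast]
      have hB' : (b : ℂ) = q * b' := by rw [hb']; push_cast; ring
      have hF' : (f : ℂ) = q * f' := by rw [hf']; push_cast; ring
      have hh' : (f : ℂ) * (h / f) = h := mul_div_cancel₀ h hfC
      have hS' : (b : ℂ) * (Sc / b) = Sc := mul_div_cancel₀ Sc hb0
      rw [hF'] at hh' ⊢
      rw [hB'] at hS' ⊢
      push_cast at hrel
      linear_combination hS' - hh' - hrel
    · have hc1 : Sc = 1 := by linear_combination -hs
      rw [hc1] at hi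
      exact not_isIntegral_inv (ha.trans hab2) hi

end Data

end CfsgLib.Block.NP
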