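import Cfsg.Agent.Lib.Block.NP.FusionSign
import Cfsg.Agent.Lib.Char.Induce
import Cfsg.Agent.Lib.Char.LinearSum

/-!
Irreducible characters of degree `n_p` with a vector fixed by `C(P)` are induced from linear
characters of `N(P)`; with fewer than `p ^ 2` Sylow subgroups the sign of `N(P) / C(P)` pairs
them so that their sum vanishes at a generator of `N(P)` modulo `C(P)`.
-/

set_option autoImplicit false
set_option linter.style.haveILetI false
set_option linter.unusedSectionVars false

namespace CfsgLib.Block.NP.Pairing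

open Cfsg CfsgLib CfsgLib.Char Subgroup
open scoped ComplexConjugate

universe u

variable {G : Type u} [Group G] [Fintype G] {p : ℕ} [hp : Fact p.Prime]

open scoped Classical in
/-- A character of degree `[G : N(P)]` fixing a vector under `C(P)` is monomial. -/
theorem exists_indFun (P : Sylow p G) (hP : Nat.card P = p) (χ : IrrCharacter G)
    (hdeg : (χ : G → ℂ) 1 = (Nat.card (Sylow p G) : ℂ))
    (hC : ∑ c : (centralizer ((P : Subgroup G) : Set G)), (χ : G → ℂ) c ≠ 0) :
    ∃ ν : (normalizer ((P : Subgroup G) : Set G)) →* ℂˣ, (∀ y : (normalizer ((P : Subgroup G) : Set G)), (y : G) ∈ centralizer ((P : Subgroup G) : Set G) → ν y = 1) ∧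
      (χ : G → ℂ) = indFun (normalizer ((P : Subgroup G) : Set G)) (fun y => (ν y : ℂ)) := by
  obtain ⟨z, ε, -, -, -, hker⟩ := exists_prime_sylow_data P hP
  have hle : (centralizer ((P : Subgroup G) : Set G)) ≤ (normalizer ((P : Subgroup G) : Set G)) := centralizer_le_normalizer _
  have : Finite (ε.range →* ℂˣ) := Nat.finite_of_card_ne_zero (by
    rw [natCard_linear]; exact Subgroup.index_ne_zero_of_finite)
  have := Fintype.ofFinite (ε.range →* ℂˣ)
  have hmem : ∀ y : (normalizer ((P : Subgroup G) : Set G)), ε.rangeRestrict y = 1 ↔ (y : G) ∈ (centralizer ((P : Subgroup G) : Set G)) := fun y => by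
    rw [← Subgroup.mem_subgroupOf (H := (centralizer ((P : Subgroup G) : Set G))) (K := (normalizer ((P : Subgroup G) : Set G))), ← hker, MonoidHom.mem_ker, Subtype.ext_iff]
    rfl
  have hsum : ∀ y : (normalizer ((P : Subgroup G) : Set G)), ∑ l : ε.range →* ℂˣ, conj (l (ε.rangeRestrict y) : ℂ) =
      if (y : G) ∈ (centralizer ((P : Subgroup G) : Set G)) then (Nat.card ε.range : ℂ) else 0 := fun y => by
    rw [← map_sum, sum_linear_apply]
    have hbot : commutator ε.range = ⊥ := by
      rw [_root_.commutator_def, Subgroup.commutator_eq_bot_iff_le_centralizer]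
      exact fun a _ => Subgroup.mem_centralizer_iff.2 fun b _ => mul_comm b a
    simp only [hbot, Subgroup.mem_bot, Subgroup.index_bot, hmem]
    split_ifs <;> simp
  obtain ⟨l, hl⟩ : ∃ l : ε.range →* ℂˣ, classInner (fun y : (normalizer ((P : Subgroup G) : Set G)) => (χ : G → ℂ) y)
      (fun y => ((l.comp ε.rangeRestrict) y : ℂ)) ≠ 0 := by
    by_contra hcon
    push Not at hcon
    apply hC
    have h0 : ∑ l : ε.range →* ℂˣ, ∑ y : (normalizer ((P : Subgroup G) : Set G)),
        (χ : G → ℂ) y * conj (l (ε.rangeRestrict y) : ℂ) = 0 := by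
      refine Finset.sum_eq_zero fun l _ => ?_
      have h := hcon l
      rw [classInner_def, mul_eq_zero, or_iff_right (inv_ne_zero natCard_ne_zero)] at h
      exact h
    rw [Finset.sum_comm] at h0
    simp only [← Finset.mul_sum, hsum, mul_ite, mul_zero] at h0
    rw [← Finset.sum_filter, ← Finset.sum_mul, mul_eq_zero,
      or_iff_left natCard_ne_zero] at h0
    rw [← h0]
    refine Finset.sum_bij' (fun c _ => (⟨(c : G), hle c.2⟩ : (normalizer ((P : Subgroup G) : Set G))))
      (fun y hy => (⟨(y : G), (Finset.mem_filter.1 hy).2⟩ : (centralizer ((P : Subgroup G) : Set G))))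
      (fun c _ => Finset.mem_filter.2 ⟨Finset.mem_univ _, c.2⟩) (fun _ _ => Finset.mem_univ _)
      (fun _ _ => rfl) (fun _ _ => rfl) fun _ _ => rfl
  refine ⟨l.comp ε.rangeRestrict, fun y hy => ?_, ?_⟩
  · rw [MonoidHom.comp_apply, (hmem y).2 hy, map_one]
  set θ : (normalizer ((P : Subgroup G) : Set G)) → ℂ := fun y => ((l.comp ε.rangeRestrict) y : ℂ) with hθ
  have hθc : IsCharacter (normalizer ((P : Subgroup G) : Set G)) θ := irr_isCharacter (isIrrCharacter_linear _)
  have hI := isCharacter_indFun (normalizer ((P : Subgroup G) : Set G)) hθc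
  have := Fintype.ofFinite (IrrCharacter G)
  choose m hm using fun ψ : IrrCharacter G =>
    classInner_isCharacter_nat hI (irr_isCharacter ψ.2)
  choose d hd using fun ψ : IrrCharacter G => char_apply_one_eq_nat (irr_isCharacter ψ.2)
  have hdpos : ∀ ψ, 0 < d ψ := fun ψ => Nat.pos_of_ne_zero fun h => by
    have := irr_apply_one_ne_zero ψ.2
    rw [hd, h, Nat.cast_zero] at this
    exact this rfl
  have h1 : ∑ ψ, m ψ * d ψ = d χ := by
    have h := classFunction_apply_eq_sum (indFun_isClassFunction (normalizer ((P : Subgroup G) : Set G)) θ) (1 : G)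
    simp only [hm, hd] at h
    rw [indFun_apply_one, hθ] at h
    simp only [map_one, Units.val_one, mul_one] at h
    have hn : ((normalizer ((P : Subgroup G) : Set G)).index : ℂ) = d χ := by
      rw [← hd, hdeg, P.card_eq_index_normalizer]; rfl
    rw [hn] at h
    exact_mod_cast h.symm
  have hχ : m χ ≠ 0 := by
    intro h0
    have h := hm χ
    rw [frobenius_reciprocity (normalizer ((P : Subgroup G) : Set G)) θ _ (irr_isClassFunction χ.2), h0, Nat.cast_zero] at h
    apply hl
    rw [← classInner_conj_symm, h, map_zero]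
  have hsplit := Finset.add_sum_erase Finset.univ (fun ψ => m ψ * d ψ) (Finset.mem_univ χ)
  have hle1 : d χ ≤ m χ * d χ := Nat.le_mul_of_pos_left _ (Nat.pos_of_ne_zero hχ)
  have hm1 : m χ = 1 := by
    have : m χ * d χ ≤ 1 * d χ := by rw [one_mul]; omega
    have := Nat.le_of_mul_le_mul_right this (hdpos χ)
    omega
  have hrest : ∀ ψ, ψ ≠ χ → m ψ = 0 := fun ψ hψ => by
    have h := Finset.single_le_sum (f := fun ψ => m ψ * d ψ) (fun _ _ => Nat.zero_le _)
      (Finset.mem_erase.2 ⟨hψ, Finset.mem_univ ψ⟩)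
    rcases Nat.mul_eq_zero.1 (show m ψ * d ψ = 0 by omega) with h' | h'
    · exact h'
    · exact absurd h' (hdpos ψ).ne'
  funext g
  rw [classFunction_apply_eq_sum (indFun_isClassFunction (normalizer ((P : Subgroup G) : Set G)) θ) g, Finset.sum_eq_single χ
    (fun ψ _ hψ => by rw [hm, hrest ψ hψ, Nat.cast_zero, zero_mul])
    (fun h => absurd (Finset.mem_univ _) h), hm, hm1, Nat.cast_one, one_mul]

/-- A character equal to one at the `p`-singular elements of `C(P)` fixes a vector under it. -/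
theorem centralizer_sum_ne_zero (P : Sylow p G) (hP : Nat.card P = p) (χ : IrrCharacter G)
    [Fintype (centralizer ((P : Subgroup G) : Set G))]
    (hval : ∀ c ∈ centralizer ((P : Subgroup G) : Set G), p ∣ orderOf c → (χ : G → ℂ) c = 1) :
    ∑ c : centralizer ((P : Subgroup G) : Set G), (χ : G → ℂ) c ≠ 0 := by
  classical
  set C := centralizer ((P : Subgroup G) : Set G)
  set Q : Subgroup C := (P : Subgroup G).subgroupOf C
  have hcomm : ∀ u ∈ (P : Subgroup G), ∀ c ∈ C, u * c = c * u := fun u hu c hc =>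
    mem_centralizer_iff.1 hc u hu
  have hPC : (P : Subgroup G) ≤ C := by
    intro u hu
    refine mem_centralizer_iff.2 fun v hv => ?_
    rcases eq_or_ne u 1 with rfl | hu1
    · rw [one_mul, mul_one]
    · exact mem_centralizer_iff.1 (Fusion.mem_centralizer_of_commute P hP hu hu1 (Commute.refl u))
        v hv
  have hQcard : Nat.card Q = p := by
    rw [Nat.card_congr (Subgroup.subgroupOfEquivOfLe hPC).toEquiv]; exact hP
  have hk : ¬ p ∣ Q.index := fun h => P.not_dvd_index (h.trans (relIndex_dvd_index_of_le hPC))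
  have hQcomm : ∀ a b : Q, a * b = b * a := fun a b => Subtype.ext (Subtype.ext
    (hcomm _ a.2 _ (b : C).2))
  let _ : CommGroup Q := { (inferInstance : Group Q) with mul_comm := hQcomm }
  have key : ∀ (k : ℕ) (g₀ g : C), g₀⁻¹ * g ^ k * g₀ ∈ Q → g₀⁻¹ * g ^ k * g₀ = g ^ k :=
    fun k g₀ g h => by
      have h' : g₀ * (g₀⁻¹ * g ^ k * g₀) = (g₀⁻¹ * g ^ k * g₀) * g₀ := Subtype.ext
        (hcomm _ h _ g₀.2).symm
      calc g₀⁻¹ * g ^ k * g₀ = g₀ * (g₀⁻¹ * g ^ k * g₀) * g₀⁻¹ := by
            rw [h', mul_inv_cancel_right]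
        _ = g ^ k := by group
  set π : C →* Q := (MonoidHom.id Q).transfer
  set V : Subgroup C := π.ker
  have hπ : ∀ c : C, π c = 1 ↔ c ^ Q.index = 1 := fun c => by
    show (MonoidHom.id Q).transfer c = 1 ↔ _
    rw [MonoidHom.transfer_eq_pow (MonoidHom.id Q) c (fun k g₀ => key k g₀ c)]
    exact Subtype.ext_iff
  have hreg : ∀ c : C, c ∈ V ↔ ¬ p ∣ orderOf (c : G) := fun c => by
    rw [MonoidHom.mem_ker, hπ, ← orderOf_dvd_iff_pow_eq_one, Subgroup.orderOf_coe]
    refine ⟨fun h hd => hk (hd.trans h), fun hd => ?_⟩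
    refine (Nat.Coprime.dvd_of_dvd_mul_left ((hp.out.coprime_iff_not_dvd.2 hd).symm) ?_)
    rw [← hQcard, Q.card_mul_index]
    exact orderOf_dvd_natCard c
  obtain ⟨m, hm⟩ := classInner_isCharacter_nat
    (isCharacter_comp (irr_isCharacter χ.2) (C.subtype.comp V.subtype)) isCharacter_one
  rw [classInner_def, inv_mul_eq_iff_eq_mul₀ natCard_ne_zero] at hm
  simp only [map_one, mul_one, Function.comp_apply, MonoidHom.comp_apply,
    Subgroup.coe_subtype] at hm
  intro h0
  have hsplit : ∑ c : C, (χ : G → ℂ) c =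
      (∑ v : V, (χ : G → ℂ) (v : C)) + ((Finset.univ.filter fun c : C => c ∉ V).card : ℂ) := by
    rw [← Finset.sum_filter_add_sum_filter_not Finset.univ (fun c : C => c ∈ V)]
    congr 1
    · exact Finset.sum_bij' (fun c hc => (⟨c, (Finset.mem_filter.1 hc).2⟩ : V)) (fun v _ => (v : C))
        (fun _ _ => Finset.mem_univ _) (fun v _ => Finset.mem_filter.2 ⟨Finset.mem_univ _, v.2⟩)
        (fun _ _ => rfl) (fun _ _ => rfl) fun _ _ => rfl
    · rw [Finset.sum_congr rfl fun (c : C) hc => hval (c : G) c.2 (by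
        have := (Finset.mem_filter.1 hc).2
        rwa [hreg, not_not] at this), Finset.sum_const, nsmul_eq_mul, mul_one]
  replace h0 := (by convert h0 : ∑ c : C, (χ : G → ℂ) c = 0)
  rw [hsplit, hm] at h0
  have h1 : Nat.card V * m + (Finset.univ.filter fun c : C => c ∉ V).card = 0 := by exact_mod_cast h0
  obtain ⟨u, hu⟩ := exists_prime_orderOf_dvd_card' (G := Q) p (by rw [hQcard])
  have h2 : (u : C) ∈ Finset.univ.filter fun c : C => c ∉ V := Finset.mem_filter.2
    ⟨Finset.mem_univ _, fun h => (hreg _).1 h (by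
      rw [Subgroup.orderOf_coe, Subgroup.orderOf_coe, hu])⟩
  exact (Finset.card_pos.2 ⟨_, h2⟩).ne' (Nat.eq_zero_of_add_eq_zero_left h1)

open scoped Classical in
/-- The extension of a sign character of `N(P)` to `G` by conjugation. -/
noncomputable def sgnFun (P : Sylow p G) (φ : (normalizer ((P : Subgroup G) : Set G)) →* ℤˣ) (x : G) : ℂ :=
  if ∃ y : (normalizer ((P : Subgroup G) : Set G)), IsConj x (y : G) ∧ φ y = -1 then -1 else 1

variable {P : Sylow p G} {φ : (normalizer ((P : Subgroup G) : Set G)) →* ℤˣ}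

theorem sgnFun_sq (x : G) : sgnFun P φ x * sgnFun P φ x = 1 := by
  unfold sgnFun
  split_ifs <;> norm_num

theorem sgnFun_conj (x a : G) : sgnFun P φ (a * x * a⁻¹) = sgnFun P φ x := by
  classical
  have hax : IsConj x (a * x * a⁻¹) := isConj_iff.2 ⟨a, rfl⟩
  exact if_congr ⟨fun ⟨y, h1, h2⟩ => ⟨y, hax.trans h1, h2⟩,
    fun ⟨y, h1, h2⟩ => ⟨y, hax.symm.trans h1, h2⟩⟩ rfl rfl

theorem sgnFun_apply (hφ : ∀ x y : (normalizer ((P : Subgroup G) : Set G)), IsConj (x : G) y → φ x = φ y) (y : (normalizer ((P : Subgroup G) : Set G))) :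
    sgnFun P φ y = ((φ y : ℤ) : ℂ) := by
  classical
  rcases Int.units_eq_one_or (φ y) with h1 | h1
  · rw [sgnFun, h1, if_neg]
    · simp
    · rintro ⟨w, hw, hw1⟩
      rw [← hφ y w hw, h1] at hw1
      exact absurd hw1 (by decide)
  · rw [sgnFun, h1, if_pos ⟨y, IsConj.refl _, h1⟩]
    simp

theorem sgnFun_mem_centralizer (hφ : ∀ x y : (normalizer ((P : Subgroup G) : Set G)), IsConj (x : G) y → φ x = φ y)
    (hφC : ∀ y : (normalizer ((P : Subgroup G) : Set G)), (y : G) ∈ (centralizer ((P : Subgroup G) : Set G)) → φ y = 1) {c : G} (hc : c ∈ (centralizer ((P : Subgroup G) : Set G))) :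
    sgnFun P φ c = 1 := by
  rw [show c = ((⟨c, centralizer_le_normalizer _ hc⟩ : (normalizer ((P : Subgroup G) : Set G))) : G) from rfl, sgnFun_apply hφ,
    hφC _ hc]
  simp

/-- A `p`-singular element is conjugate into `C(P)`, so the sign is trivial there. -/
theorem sgnFun_singular (hP : Nat.card P = p)
    (hφ : ∀ x y : (normalizer ((P : Subgroup G) : Set G)), IsConj (x : G) y → φ x = φ y)
    (hφC : ∀ y : (normalizer ((P : Subgroup G) : Set G)), (y : G) ∈ (centralizer ((P : Subgroup G) : Set G)) → φ y = 1) {x : G} (hx : p ∣ orderOf x) :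
    sgnFun P φ x = 1 := by
  obtain ⟨k, hk⟩ : ∃ k : ℕ, orderOf (x ^ k) = p :=
    ⟨orderOf x / p, orderOf_pow_orderOf_div (orderOf_pos x).ne' hx⟩
  have hpg : IsPGroup p (zpowers (x ^ k)) :=
    IsPGroup.of_card (n := 1) (by rw [Nat.card_zpowers, hk, pow_one])
  obtain ⟨Q, hQ⟩ := hpg.exists_le_sylow
  obtain ⟨a, ha⟩ := MulAction.exists_smul_eq G Q P
  have hu : a * (x ^ k) * a⁻¹ ∈ (P : Subgroup G) := by
    rw [← ha]
    exact ⟨x ^ k, hQ (mem_zpowers _), rfl⟩
  have hu1 : a * (x ^ k) * a⁻¹ ≠ 1 := fun e => by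
    rw [conj_eq_one_iff] at e
    rw [e, orderOf_one] at hk
    exact hp.out.ne_one hk.symm
  have hxC : a * x * a⁻¹ ∈ (centralizer ((P : Subgroup G) : Set G)) := Fusion.mem_centralizer_of_commute P hP hu hu1 (by
    rw [← conj_pow]; exact (Commute.refl _).pow_right k)
  rw [← sgnFun_conj x a, sgnFun_mem_centralizer hφ hφC hxC]

/-- Multiplying by the sign keeps a monomial character irreducible. -/
theorem isIrrCharacter_twist (hP : Nat.card P = p)
    (hφ : ∀ x y : (normalizer ((P : Subgroup G) : Set G)), IsConj (x : G) y → φ x = φ y) (χ : IrrCharacter G)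
    (hdeg : (χ : G → ℂ) 1 = (Nat.card (Sylow p G) : ℂ))
    [Fintype (centralizer ((P : Subgroup G) : Set G))] (hC : ∑ c : (centralizer ((P : Subgroup G) : Set G)), (χ : G → ℂ) c ≠ 0) :
    IsIrrCharacter G (fun x => sgnFun P φ x * (χ : G → ℂ) x) := by
  classical
  obtain ⟨ν, -, hν⟩ := exists_indFun P hP χ hdeg (by convert hC)
  set φC : (normalizer ((P : Subgroup G) : Set G)) →* ℂˣ := (Units.map (Int.castRingHom ℂ).toMonoidHom).comp φ with hφdef
  have hφCv : ∀ y, (φC y : ℂ) = sgnFun P φ y := fun y => (sgnFun_apply hφ y).symm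
  have hind : (fun x => sgnFun P φ x * (χ : G → ℂ) x) =
      indFun (normalizer ((P : Subgroup G) : Set G)) (fun y => ((φC * ν) y : ℂ)) := by
    funext x
    rw [hν, indFun_def, indFun_def, mul_left_comm, Finset.mul_sum]
    congr 1
    refine Finset.sum_congr rfl fun a _ => ?_
    by_cases ha : a⁻¹ * x * a ∈ (normalizer ((P : Subgroup G) : Set G))
    · rw [extendByZero_of_mem _ ha, extendByZero_of_mem _ ha]
      have e := sgnFun_conj (P := P) (φ := φ) x a⁻¹
      rw [inv_inv] at e
      rw [MonoidHom.mul_apply, Units.val_mul, hφCv, ← e]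
    · rw [extendByZero_of_not_mem _ ha, extendByZero_of_not_mem _ ha, mul_zero]
  refine isIrrCharacter_iff.2
    ⟨hind ▸ isCharacter_indFun _ (irr_isCharacter (isIrrCharacter_linear _)), ?_⟩
  have h := irr_classInner_self χ.2
  rw [classInner_def] at h ⊢
  rw [← h]
  congr 1
  refine Finset.sum_congr rfl fun x _ => ?_
  rw [map_mul, mul_mul_mul_comm]
  have : sgnFun P φ x * conj (sgnFun P φ x) = 1 := by
    unfold sgnFun
    split_ifs <;> simp
  rw [this, one_mul]

/-- The members of degree `n_p` sum to zero at a generator of `N(P)` modulo `C(P)`. -/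
theorem sum_eq_zero (P : Sylow p G) (hP : Nat.card P = p) (hn : Nat.card (Sylow p G) < p ^ 2)
    (he : Even ((centralizer ((P : Subgroup G) : Set G)).relIndex (normalizer ((P : Subgroup G) : Set G)))) {g : G} (hg : g ∈ (normalizer ((P : Subgroup G) : Set G)))
    (hgen : (normalizer ((P : Subgroup G) : Set G)) ≤ (centralizer ((P : Subgroup G) : Set G)) ⊔ zpowers g) [Fintype (centralizer ((P : Subgroup G) : Set G))] (S : Finset (IrrCharacter G))
    (hS : ∀ χ ∈ S, (χ : G → ℂ) 1 = (Nat.card (Sylow p G) : ℂ) ∧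
      ∑ c : (centralizer ((P : Subgroup G) : Set G)), (χ : G → ℂ) c ≠ 0)
    (hclosed : ∀ χ ∈ S, ∀ ψ : IrrCharacter G, (ψ : G → ℂ) 1 = (χ : G → ℂ) 1 →
      (∀ c ∈ (centralizer ((P : Subgroup G) : Set G)), (ψ : G → ℂ) c = (χ : G → ℂ) c) →
      (∀ x : G, p ∣ orderOf x → (ψ : G → ℂ) x = (χ : G → ℂ) x) → ψ ∈ S) :
    ∑ χ ∈ S, (χ : G → ℂ) g = 0 := by
  classical
  obtain ⟨φ, ⟨y₀, hy₀⟩, hφC, hφ⟩ := Fusion.exists_sign P hP hn he
  have hφg : φ ⟨g, hg⟩ = -1 := by
    refine (Int.units_eq_one_or _).resolve_left fun h1 => ?_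
    have hker : (centralizer ((P : Subgroup G) : Set G)) ⊔ zpowers g ≤ φ.ker.map (normalizer ((P : Subgroup G) : Set G)).subtype :=
      sup_le (fun c hc => ⟨⟨c, centralizer_le_normalizer _ hc⟩, hφC _ hc, rfl⟩)
        (zpowers_le.2 ⟨⟨g, hg⟩, h1, rfl⟩)
    obtain ⟨y, hy, hyy⟩ := hker (hgen y₀.2)
    rw [Subtype.ext hyy] at hy
    have hy' : φ y₀ = 1 := hy
    rw [hy'] at hy₀
    exact absurd hy₀ (by decide)
  let tw : (χ : IrrCharacter G) → χ ∈ S → IrrCharacter G := fun χ hχ =>
    ⟨fun x => sgnFun P φ x * (χ : G → ℂ) x, isIrrCharacter_twist hP hφ χ (hS χ hχ).1 (hS χ hχ).2⟩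
  have htg : ∀ χ hχ, (tw χ hχ : G → ℂ) g = -(χ : G → ℂ) g := fun χ _ => by
    show sgnFun P φ g * _ = _
    rw [show sgnFun P φ g = sgnFun P φ ((⟨g, hg⟩ : (normalizer ((P : Subgroup G) : Set G))) : G) from rfl, sgnFun_apply hφ, hφg]
    simp
  refine Finset.sum_involution tw (fun χ hχ => by rw [htg χ hχ]; exact add_neg_cancel _)
    (fun χ hχ hne he => hne ?_) (fun χ hχ => hclosed χ hχ _ ?_ ?_ ?_) fun χ hχ => Subtype.ext ?_
  · have := htg χ hχ
    rw [he] at this
    linear_combination (1 / 2 : ℂ) * this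
  · show sgnFun P φ 1 * _ = _
    rw [sgnFun_mem_centralizer hφ hφC (one_mem _), one_mul]
  · intro c hc
    show sgnFun P φ c * _ = _
    rw [sgnFun_mem_centralizer hφ hφC hc, one_mul]
  · intro x hx
    show sgnFun P φ x * _ = _
    rw [sgnFun_singular hP hφ hφC hx, one_mul]
  · funext x
    show sgnFun P φ x * (sgnFun P φ x * _) = _
    rw [← mul_assoc, sgnFun_sq, one_mul]

end CfsgLib.Block.NP.Pairing
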