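import Cfsg.Agent.Lib.Block.NP.Setup
import Cfsg.Agent.Lib.Block.NP.Pairing
import Cfsg.Agent.Lib.Block.Linkage

/-!
The members of degree `n_p` of the principal block sum to zero at a generator of `N(P)` modulo
`C(P)` when `N(P) / C(P)` has even order.
-/

set_option autoImplicit false
set_option linter.unusedSectionVars false
set_option linter.style.haveILetI false

namespace CfsgLib.Block.NP.Data

open Cfsg CfsgLib CfsgLib.Block Subgroup
open scoped ComplexConjugate

universe u

variable {G : Type u} [Group G] [Finite G] {p : ℕ} [hpf : Fact p.Prime] {M : Ideal AlgInt}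
  {P : Sylow p G} {n e : ℕ} {V : Subgroup G} {t a b f d₀ : ℕ}
  {σ : ℤ} {Xa Xn Xb Xc Y : Finset (IrrCharacter G)}

theorem P_le_centralizer (D : Data M P n e V t a b f d₀ σ Xa Xn Xb Xc Y) :
    (P : Subgroup G) ≤ centralizer ((P : Subgroup G) : Set G) := by
  intro x hx
  rcases eq_or_ne x 1 with rfl | hx1
  · exact one_mem _
  · exact Fusion.mem_centralizer_of_commute P D.hyp.hP hx hx1 (Commute.refl x)

/-- A `p`-singular element of `C(P)` is a product of an element of `P` and one of `V`. -/
theorem exists_decomp (D : Data M P n e V t a b f d₀ σ Xa Xn Xb Xc Y) {c : G}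
    (hc : c ∈ centralizer ((P : Subgroup G) : Set G)) (hd : p ∣ orderOf c) :
    ∃ y ∈ (P : Subgroup G), y ≠ 1 ∧ ∃ z ∈ V, y * z = c := by
  set C := centralizer ((P : Subgroup G) : Set G)
  obtain ⟨y, hy⟩ := exists_isPPart hpf.out c
  obtain ⟨z, hz, hcom, ⟨k, hk⟩, hzr⟩ := hy
  -- the `p`-part of an element of `C` is a power of it
  have hyC : y ∈ C := by
    have hcop : Nat.Coprime (orderOf y) (orderOf z) := by
      rw [hk]; exact ((hpf.out.coprime_iff_not_dvd).2 hzr).pow_left k
    obtain ⟨l, hl⟩ := exists_pow_eq_self_of_coprime hcop.symm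
    rw [← hl, show (y ^ orderOf z) = c ^ orderOf z by
      rw [← hz, hcom.mul_pow, pow_orderOf_eq_one, mul_one]]
    exact pow_mem (pow_mem hc _) _
  have hzC : z ∈ C := by
    have : z = y⁻¹ * c := by rw [← hz, inv_mul_cancel_left]
    rw [this]; exact mul_mem (inv_mem hyC) hc
  have hyP : y ∈ (P : Subgroup G) := by
    have hPC := D.P_le_centralizer
    have hpg : IsPGroup p (zpowers y) :=
      IsPGroup.of_card (n := k) (by rw [Nat.card_zpowers, hk])
    have hyN : zpowers y ≤ normalizer ((P : Subgroup G) : Set G) :=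
      zpowers_le.2 (centralizer_le_normalizer _ hyC)
    have hle := P.3 (hpg.to_sup_of_normal_right' P.2 hyN) le_sup_right
    exact hle ▸ mem_sup_left (mem_zpowers y)
  refine ⟨y, hyP, fun h1 => ?_, z, (D.hyp.mem_V z).2 ⟨hzC, hzr⟩, hz⟩
  rw [← hz, h1, one_mul] at hd
  exact hzr hd

theorem Xn_val' (D : Data M P n e V t a b f d₀ σ Xa Xn Xb Xc Y) {χ : IrrCharacter G}
    (hχ : χ ∈ Xn) {c : G} (hc : c ∈ centralizer ((P : Subgroup G) : Set G))
    (hd : p ∣ orderOf c) : (χ : G → ℂ) c = 1 := by
  obtain ⟨y, hy, hy1, z, hz, rfl⟩ := D.exists_decomp hc hd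
  exact D.Xn_val χ hχ y hy hy1 z hz

theorem sum_Xn_eq_zero (D : Data M P n e V t a b f d₀ σ Xa Xn Xb Xc Y) (he : Even e) {g : G}
    (hg : g ∈ normalizer ((P : Subgroup G) : Set G))
    (hgen : ∀ k : ℕ, g ^ k ∈ centralizer ((P : Subgroup G) : Set G) ↔ e ∣ k) :
    ∑ χ ∈ Xn, (χ : G → ℂ) g = 0 := by
  classical
  have := Fintype.ofFinite G
  have := isPrime_of_pmodular D.hM
  have hp := hpf.out
  have hH := D.hyp
  set C := centralizer ((P : Subgroup G) : Set G) with hCdef
  set N := normalizer ((P : Subgroup G) : Set G) with hNdef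
  have := Fintype.ofFinite C
  have hPC : (P : Subgroup G) ≤ C := D.P_le_centralizer
  have hlt : Nat.card (Sylow p G) < p ^ 2 := by
    rw [hH.hn, pow_two]
    have h1 : (n + 1) * p ≤ p * p := Nat.mul_le_mul_right _ hH.n_lt
    have := hp.two_le
    rw [add_mul, one_mul] at h1
    omega
  -- generation
  have hCN : C ≤ N := centralizer_le_normalizer _
  have hgen' : N ≤ C ⊔ zpowers g := by
    have hle : C ⊔ zpowers g ≤ N := sup_le hCN (zpowers_le.2 hg)
    refine (Subgroup.eq_of_le_of_card_ge hle ?_).ge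
    have h1 : e ≤ C.relIndex (C ⊔ zpowers g) := by
      let f : Fin e → (↥(C ⊔ zpowers g) ⧸ C.subgroupOf (C ⊔ zpowers g)) := fun i =>
        QuotientGroup.mk ⟨g ^ (i : ℕ), mem_sup_right (npow_mem_zpowers g _)⟩
      have hf : Function.Injective f := by
        intro i j hij
        rw [QuotientGroup.eq, Subgroup.mem_subgroupOf] at hij
        have hij' : (g ^ (i : ℕ))⁻¹ * g ^ (j : ℕ) ∈ C := hij
        rcases le_total (i : ℕ) (j : ℕ) with hle | hle
        · rw [← inv_pow, inv_pow, ← Nat.add_sub_cancel' hle, pow_add, inv_mul_cancel_left,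
            hgen] at hij'
          exact Fin.ext (by have := Nat.eq_zero_of_dvd_of_lt hij' (by omega); omega)
        · have h2 := inv_mem hij'
          rw [mul_inv_rev, inv_inv, ← Nat.add_sub_cancel' hle, pow_add, inv_mul_cancel_left,
            hgen] at h2
          exact Fin.ext (by have := Nat.eq_zero_of_dvd_of_lt h2 (by omega); omega)
      have := Nat.card_le_card_of_injective f hf
      rw [Nat.card_fin] at this
      exact this
    have h2 := Subgroup.card_mul_index (C.subgroupOf (C ⊔ zpowers g))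
    rw [Nat.card_congr (Subgroup.subgroupOfEquivOfLe (le_sup_left : C ≤ C ⊔ zpowers g)).toEquiv]
      at h2
    rw [← h2, hH.card_N, hH.card_C]
    calc p * e * Nat.card V = p * Nat.card V * e := by ring
      _ ≤ _ := Nat.mul_le_mul_left _ h1
  refine Pairing.sum_eq_zero P hH.hP hlt (by rw [hH.e_eq]; exact he) hg hgen' Xn
    (fun χ hχ => ⟨by rw [D.Xn_deg χ hχ, hH.hn],
      Pairing.centralizer_sum_ne_zero P hH.hP χ fun c hc hd => D.Xn_val' hχ hc hd⟩) ?_
  intro χ hχ ψ h1 h2 h3
  obtain ⟨y, hyP, hy1⟩ : ∃ y ∈ (P : Subgroup G), y ≠ 1 := by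
    by_contra hcon
    push Not at hcon
    have := (Subgroup.eq_bot_iff_forall _).2 hcon
    have hcard := hH.hP
    rw [this, Subgroup.card_bot] at hcard
    exact hp.ne_one hcard.symm
  have hyo : p ∣ orderOf y := by
    have hd : orderOf y ∣ p := by
      rw [← hH.hP, ← Subgroup.orderOf_mk y hyP]; exact orderOf_dvd_natCard _
    rcases (Nat.dvd_prime hp).1 hd with h | h
    · exact absurd (orderOf_eq_one_iff.1 h) hy1
    · rw [h]
  have hψy : (ψ : G → ℂ) y = 1 := by rw [h2 y (hPC hyP)]; exact D.Xn_val' hχ (hPC hyP) hyo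
  have hψB : ψ ∈ principalBlock M G := by
    by_contra hnot
    have hχB : χ ∈ principalBlock M G := (D.mem χ).2 (Or.inr (Or.inr (Or.inl hχ)))
    have hne : χ ≠ ψ := fun h => hnot (h ▸ hχB)
    have hreg := sum_regular_conj_eq_zero D.hM (χ := χ) (ψ := ψ)
      fun h => hnot (mem_of_sameBlock isPBlock_principalBlock hχB h)
    have hall := Char.irr_classInner_ne χ.2 ψ.2 fun h => hne (Subtype.ext h)
    rw [Char.classInner_def, mul_eq_zero, or_iff_right (inv_ne_zero Char.natCard_ne_zero)] at hall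
    have hsing : ∑ x : G, (if p ∣ orderOf x then Complex.normSq ((χ : G → ℂ) x) else 0) = 0 := by
      apply Complex.ofReal_injective
      push_cast
      have e : ∀ x : G, ((if p ∣ orderOf x then Complex.normSq ((χ : G → ℂ) x) else 0 : ℝ) : ℂ) =
          (χ : G → ℂ) x * conj ((ψ : G → ℂ) x) -
            (if p ∣ orderOf x then 0 else (χ : G → ℂ) x * conj ((ψ : G → ℂ) x)) := fun x => by
        by_cases hx : p ∣ orderOf x
        · rw [if_pos hx, if_pos hx, h3 x hx, Complex.normSq_eq_conj_mul_self, sub_zero, mul_comm]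
        · rw [if_neg hx, if_neg hx, sub_self]; norm_num
      rw [Finset.sum_congr rfl fun x _ => e x, Finset.sum_sub_distrib, hall, hreg, sub_zero]
    have h0 := (Finset.sum_eq_zero_iff_of_nonneg (fun x _ => by
      split_ifs
      exacts [Complex.normSq_nonneg _, le_rfl])).1 hsing y (Finset.mem_univ _)
    rw [if_pos hyo, D.Xn_val' hχ (hPC hyP) hyo] at h0
    simp at h0
  have hdeg : (ψ : G → ℂ) 1 = ((1 + n * p : ℕ) : ℂ) := by rw [h1]; exact D.Xn_deg χ hχ
  have hN := D.N_eq
  have hpp : 0 < n * p := Nat.mul_pos hH.n_pos hp.pos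
  have hy' : (ψ : G → ℂ) (y * 1) = 1 := by rw [mul_one]; exact hψy
  rcases (D.mem ψ).1 hψB with h | h | h | h | h | h
  · exfalso
    rw [h] at hdeg
    have hdeg' : (1 : ℂ) = ((1 + n * p : ℕ) : ℂ) := hdeg
    have hc : (1 : ℕ) = 1 + n * p := by exact_mod_cast hdeg' 
    omega
  · exfalso
    rw [D.Xa_deg ψ h] at hdeg
    have hc : a * (p - b) = 1 + n * p := by exact_mod_cast hdeg
    rw [hN] at hc
    have hb : 0 < p - b := by
      have := D.hab; have := Nat.mul_le_mul_right b D.a_two; omega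
    have := Nat.mul_right_cancel hb hc
    have := hp.pos
    omega
  · exact h
  · exfalso
    rw [D.Xb_val ψ h y hyP hy1 1 (one_mem _)] at hy'
    norm_num at hy'
  · exfalso
    rw [D.Xc_val ψ h y hyP hy1 1 (one_mem _)] at hy'
    norm_num at hy'
  · exfalso
    rw [D.Y_deg ψ h] at hdeg
    have hc : d₀ = 1 + n * p := by exact_mod_cast hdeg
    have hab := D.hab
    have ha := D.a_two
    have hb2 : 2 * b ≤ a * b := Nat.mul_le_mul_right _ ha
    have hbp : b ≤ a * b := Nat.le_mul_of_pos_left _ (by omega)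
    have hap : a ≤ a * b := Nat.le_mul_of_pos_right _ (by have := D.a_le; omega)
    rcases D.alt with h' | h' | h' | h' | h'
    · omega
    · obtain ⟨-, -, h'', -⟩ := h'
      have := D.e_lt
      have hple : p ≤ n * p := Nat.le_mul_of_pos_left _ hH.n_pos
      omega
    · obtain ⟨ht, hft, -, h'', -⟩ := h'
      have hf : f * 2 ≤ f * t := Nat.mul_le_mul_left _ ht
      rw [hN, h''] at hc
      rw [mul_comm] at hc
      have := Nat.mul_left_cancel (by omega : 0 < p + a) hc
      omega
    · obtain ⟨ht, hft, -, h'', -⟩ := h'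
      have hf : f * 2 ≤ f * t := Nat.mul_le_mul_left _ ht
      rw [hN, h''] at hc
      have := Nat.mul_right_cancel (by omega : 0 < p - b) hc
      omega
    · obtain ⟨ht, -, h'', -⟩ := h'
      have h2 : 2 * d₀ ≤ t * d₀ := Nat.mul_le_mul_right _ ht
      omega

end CfsgLib.Block.NP.Data
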