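import Cfsg.Agent.Lib.Block.NP.Kill
import Cfsg.Agent.Lib.Block.NP.Kernel
import Cfsg.Agent.Lib.Block.NP.PairingData

/-!
Assembly of the information at a generator of `N(P) / C(P)` for the kills.
-/

set_option autoImplicit false
set_option linter.style.haveILetI false
set_option linter.unusedSectionVars false

namespace CfsgLib.Block.NP

open Cfsg CfsgLib CfsgLib.Block

universe u

variable {G : Type u} [Group G] [Finite G] {p : ℕ} [hpf : Fact p.Prime]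

namespace Data

variable {M : Ideal AlgInt} {P : Sylow p G} {n e : ℕ} {V : Subgroup G}
  {t a b f d₀ : ℕ} {σ : ℤ} {Xa Xn Xb Xc Y : Finset (IrrCharacter G)}

theorem genInfo (D : Data M P n e V t a b f d₀ σ Xa Xn Xb Xc Y) {g : G}
    (hg : g ∈ Subgroup.normalizer ((P : Subgroup G) : Set G))
    (hgen : ∀ k : ℕ, g ^ k ∈ Subgroup.centralizer ((P : Subgroup G) : Set G) ↔ e ∣ k)
    (hgC : g ∉ Subgroup.centralizer ((P : Subgroup G) : Set G))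
    (hi : IsIntegral ℤ
      ((∑ χ ∈ Xa, (χ : G → ℂ) g) / (a : ℂ) + (∑ χ ∈ Xc, (χ : G → ℂ) g) / (b : ℂ)))
    (hi2 : ∀ η ∈ Y, IsIntegral ℤ (((1 + n * p : ℕ) : ℂ) * (η : G → ℂ) g / (d₀ : ℂ)))
    (hs : ∀ η ∈ Y, ∀ r : ℕ, r.Prime → r ∣ e →
      1 + (if r ∣ e * (p + a) / a then ∑ χ ∈ Xa, (χ : G → ℂ) g else 0) +
        ∑ χ ∈ Xn, (χ : G → ℂ) g -
        (if r ∣ e * (p - b) / b then ∑ χ ∈ Xc, (χ : G → ℂ) g else 0) -
        (if r ∣ e * (1 + n * p) / d₀ then (σ : ℂ) * (η : G → ℂ) g else 0) = 0)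
    (hs1 : t = 1 → ∀ r : ℕ, r.Prime → r ∣ e →
      1 + (if r ∣ e * (p + a) / a then ∑ χ ∈ Xa, (χ : G → ℂ) g else 0) +
        ∑ χ ∈ Xn, (χ : G → ℂ) g -
        (if r ∣ e * (p - b) / b then ∑ χ ∈ Xc, (χ : G → ℂ) g else 0) = 0) :
    GenInfo (p := p) t a b d₀ n e σ Xa Xn Xb Xc Y (1 + n * p) g :=
  ⟨Finset.sum_eq_zero fun _ hχ => D.Xb_apply_eq_zero hχ hg hgC,
    fun he => D.sum_Xn_eq_zero he hg hgen, hi, hi2, hs, hs1⟩

theorem Xn_empty_of_Xb (D : Data M P n e V t a b f d₀ σ Xa Xn Xb Xc Y) (ht : 2 ≤ t)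
    (h : Xb.Nonempty) : Xn = ∅ :=
  D.Xn_empty (D.V_eq_bot_of_Xb h) ht

end Data

end CfsgLib.Block.NP
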