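import Cfsg.Agent.Lib.Invol.CAInvol
import Mathlib

/-!
Recognition of `PSL(2, p + 1)` from one class of `(p + 1)`-singular elements.
-/

set_option autoImplicit false

namespace CfsgLib.Block.NP

universe u

/-- A simple group of order `p (p + 1) (p + 2)` in which all non-trivial elements of order not
prime to `p + 1` are conjugate to one involution with centraliser of order `p + 1`. -/
theorem psl_succ_of_one_class {G : Type u} [Group G] [Finite G] [IsSimpleGroup G] {p : ℕ}
    (hp : p.Prime) (hp3 : 3 < p) (hcard : Nat.card G = p * (p + 1) * (p + 2)) {s : G}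
    (hs : orderOf s = 2) (hcent : Nat.card (Subgroup.centralizer ({s} : Set G)) = p + 1)
    (hone : ∀ r : ℕ, r.Prime → r ∣ p + 1 → ∀ g : G, r ∣ orderOf g → IsConj g s) :
    (∃ k : ℕ, p + 1 = 2 ^ k) ∧ ∃ (F : Type) (_ : Field F) (_ : Fintype F),
      Fintype.card F = p + 1 ∧ Nonempty (G ≃* Matrix.ProjectiveSpecialLinearGroup (Fin 2) F) := by
  classical
  have : Fact (Nat.Prime 2) := ⟨Nat.prime_two⟩
  have hconj : ∀ {g : G}, IsConj g s → orderOf g = 2 := fun {g} h => by
    obtain ⟨c, hc⟩ := isConj_iff.1 h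
    rw [← hs, ← hc, show c * g * c⁻¹ = MulAut.conj c g from rfl, MulEquiv.orderOf_eq]
  have hdvd : p + 1 ∣ Nat.card G := by rw [hcard]; exact Dvd.intro_left p rfl |>.mul_right _
  have h2pow : ∃ k, p + 1 = 2 ^ k := by
    refine ⟨_, Nat.eq_prime_pow_of_unique_prime_dvd (by omega) fun {r} hr hrd => ?_⟩
    obtain ⟨g, hg⟩ := exists_prime_orderOf_dvd_card' (G := G) r (hp := ⟨hr⟩) (hrd.trans hdvd)
    have := hconj (hone r hr hrd g (dvd_of_eq hg.symm))
    omega
  obtain ⟨k, hk⟩ := h2pow
  have hk0 : k ≠ 0 := by rintro rfl; simp at hk; exact hp.pos.ne' (by omega)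
  have h2p : 2 ∣ p + 1 := hk ▸ dvd_pow_self 2 hk0
  set C := Subgroup.centralizer ({s} : Set G) with hCdef
  have hsq : ∀ x ∈ C, x ^ 2 = 1 := by
    intro x hx
    rcases eq_or_ne x 1 with rfl | hx1
    · exact one_pow 2
    · have h1 : orderOf x ∣ 2 ^ k := by
        rw [← hk, ← hcent, ← Subgroup.orderOf_mk x hx]
        exact orderOf_dvd_natCard _
      obtain ⟨i, hi, he⟩ := (Nat.dvd_prime_pow Nat.prime_two).1 h1
      have h2 : 2 ∣ orderOf x := by
        rw [he]
        refine dvd_pow_self 2 fun h0 => ?_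
        rw [h0, pow_zero, orderOf_eq_one_iff] at he
        exact hx1 he
      exact orderOf_dvd_iff_pow_eq_one.1 (dvd_of_eq (hconj (hone 2 Nat.prime_two h2p x h2)))
  have hodd : ¬ 2 ∣ p * (p + 2) := by
    intro h
    have := hp.eq_one_or_self_of_dvd 2
    rcases Nat.prime_two.dvd_mul.1 h with h' | h' <;> omega
  have hCcard : Nat.card C = 2 ^ k := by rw [hcent, hk]
  have hfac : (Nat.card G).factorization 2 = k := by
    rw [hcard, show p * (p + 1) * (p + 2) = 2 ^ k * (p * (p + 2)) by rw [hk]; ring,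
      Nat.factorization_mul (pow_ne_zero _ two_ne_zero) (fun h => hodd (by rw [h]; exact dvd_zero 2)),
      Finsupp.add_apply, Nat.factorization_pow_self Nat.prime_two,
      Nat.factorization_eq_zero_of_not_dvd hodd, add_zero]
  let T : Sylow 2 G := Sylow.ofCard C (by rw [hfac, hCcard])
  have hTC : (T : Subgroup G) = C := rfl
  have hT : CfsgLib.Invol.CAHyp T := by
    refine ⟨?_, ?_, ?_⟩
    · intro hcyc
      rw [hTC] at hcyc
      obtain ⟨g, hg⟩ := IsCyclic.exists_ofOrder_eq_natCard (α := C)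
      have h2 : orderOf g ∣ 2 :=
        orderOf_dvd_of_pow_eq_one (Subtype.ext (by rw [Subgroup.coe_pow]; exact hsq g g.2))
      rw [hg, hcent] at h2
      have := Nat.le_of_dvd (by norm_num) h2
      omega
    · intro hnorm
      rw [hTC] at hnorm
      rcases hnorm.eq_bot_or_eq_top with h | h
      · rw [h, Subgroup.card_bot] at hcent; omega
      · rw [h, Subgroup.card_top, hcard] at hcent
        have : (p + 1) * (p * (p + 2)) = (p + 1) * 1 := by rw [mul_one]; linarith [hcent]
        have := Nat.eq_of_mul_eq_mul_left (by omega) this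
        have : p + 2 ∣ 1 := Dvd.intro_left p this
        have := Nat.le_of_dvd one_pos this
        omega
    · intro g hg
      obtain ⟨c, hc⟩ := isConj_iff.1 (hone 2 Nat.prime_two h2p g (dvd_of_eq hg.symm))
      have hsq' : ∀ x ∈ Subgroup.centralizer ({g} : Set G), x ^ 2 = 1 := fun x hx => by
        have hmem : c * x * c⁻¹ ∈ C := by
          rw [hCdef, Subgroup.mem_centralizer_singleton_iff, ← hc]
          rw [Subgroup.mem_centralizer_singleton_iff] at hx
          calc c * x * c⁻¹ * (c * g * c⁻¹) = c * (x * g) * c⁻¹ := by group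
            _ = c * (g * x) * c⁻¹ := by rw [hx]
            _ = _ := by group
        have h := hsq _ hmem
        rw [conj_pow] at h
        exact conj_eq_one_iff.1 h
      refine ⟨⟨⟨fun x y => Subtype.ext ?_⟩⟩, hsq'⟩
      have h1 := hsq' _ (x * y).2
      have h2 := hsq' _ x.2
      have h3 := hsq' _ y.2
      rw [sq] at h1 h2 h3
      rw [Subgroup.coe_mul] at h1 ⊢
      rw [Subgroup.coe_mul]
      calc (x : G) * y = ((x : G) * y)⁻¹ := (inv_eq_of_mul_eq_one_right h1).symm
        _ = (y : G)⁻¹ * (x : G)⁻¹ := mul_inv_rev _ _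
        _ = _ := by rw [inv_eq_of_mul_eq_one_right h2, inv_eq_of_mul_eq_one_right h3]
  obtain ⟨F, _, _, hF, hiso⟩ := hT.exists_psl
  exact ⟨⟨k, hk⟩, F, inferInstance, inferInstance, hF.trans hcent, hiso⟩

end CfsgLib.Block.NP
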