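import Cfsg.Agent.Lib.Block.NP.DataExists
import Cfsg.Agent.Lib.Block.NP.Wrappers
import Cfsg.Agent.Lib.Block.BRTheorem
import Cfsg.Agent.S4343

/-!
The classification of simple groups with fewer than `p²` Sylow `p`-subgroups, reduced to the
exceptional shape of the principal block.
-/

set_option autoImplicit false
set_option linter.unusedSectionVars false

namespace CfsgLib.Block.NP

open Cfsg CfsgLib CfsgLib.Block

universe u

/-- The classification follows from the analysis of the exceptional shape. -/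
theorem classified_of (hcases : ∀ {G : Type u} [Group G] [Finite G] {p : ℕ} [Fact p.Prime]
    {M : Ideal AlgInt} {P : Sylow p G} {n e : ℕ} {V : Subgroup G} {t a b f d₀ : ℕ} {σ : ℤ}
    {Xa Xn Xb Xc Y : Finset (IrrCharacter G)},
    Data M P n e V t a b f d₀ σ Xa Xn Xb Xc Y → Wrap.Listed G p) :
    Wrap.Classified.{u} := by
  intro S _ _ hsimple hna p hpf hdvd hlt
  have hp : p.Prime := hpf.out
  obtain ⟨P⟩ : Nonempty (Sylow p S) := inferInstance
  have hP : Nat.card P = p := Cfsg.Agent.S4343.result hna p hdvd hlt P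
  obtain ⟨n, hn⟩ : ∃ n, Nat.card (Sylow p S) = 1 + n * p := by
    have h := card_sylow_modEq_one p S
    have h0 : 0 < Nat.card (Sylow p S) := Nat.card_pos
    obtain ⟨n, hn⟩ := (Nat.modEq_iff_dvd' h0).1 h.symm
    exact ⟨n, by rw [mul_comm n p]; omega⟩
  have hnp : n < p := by
    by_contra hge
    have := Nat.mul_le_mul_right p (not_lt.1 hge)
    rw [hn, pow_two] at hlt
    omega
  have hperf := perfect_of_simple hsimple hna
  by_cases hF : BrauerReynolds.Formula n p
  · obtain ⟨M, hM⟩ := BlockB.exists_isPModular (p := p) hp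
    obtain ⟨e, V, H⟩ := exists_hyp hsimple hna P hP hn hnp
    obtain ⟨t, a, b, f, d₀, σ, Xa, Xn, Xb, Xc, Y, D⟩ := exists_data hM H hF
    exact hcases D
  · have hH : Cfsg.pPrimeCore p S = ⊥ := by
      refine ((CfsgLib.Solvable.pPrimeCore_normal (G := S) p).eq_bot_or_eq_top).resolve_right
        fun h => ?_
      have hc := CfsgLib.Solvable.pPrimeCore_coprime (G := S) p
      rw [h, Subgroup.card_top] at hc
      exact hp.coprime_iff_not_dvd.1 hc.symm hdvd
    rcases BrauerReynolds.main_of_core_eq_bot hperf P hP hn hF hH with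
      ⟨F, iF, iF', hF', -, hψ⟩ | ⟨m, F, iF, iF', hF', hpm, hp3, ⟨ψ⟩⟩
    · exact Or.inl ⟨F, iF, iF', hF', hψ⟩
    · have hm0 : 0 < m := Nat.pos_of_ne_zero fun h0 => by rw [h0, pow_zero] at hpm; omega
      obtain ⟨φ⟩ := BrauerReynolds.psl_equiv_sl_char_two F hm0 hF'
      exact Or.inr (Or.inr (Or.inl ⟨hp3, ⟨m, hpm⟩, F, iF, iF', by rw [hF']; omega,
        ⟨ψ.trans φ.symm⟩⟩))

end CfsgLib.Block.NP
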